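import Cfsg.Agent.H7.Maschke
import Cfsg.Agent.H10.Act

/-!
Fixed points of `p`-groups of automorphisms of `p`-groups.
-/

set_option autoImplicit false

namespace H1

open Subgroup

variable {X V : Type*} [Group X] [Group V] [Finite V] {p : ℕ} [hp : Fact p.Prime]

theorem exists_fixed_aut (φ : X →* MulAut V) (hX : IsPGroup p X) (hV : IsPGroup p V)
    [Nontrivial V] : ∃ v : V, v ≠ 1 ∧ v ^ p = 1 ∧ ∀ x, φ x v = v := by
  let _ : MulAction X V := MulAction.compHom V φ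
  obtain ⟨k, hk, e⟩ := hV.nontrivial_iff_card.1 inferInstance
  obtain ⟨v, hv, h1⟩ := hX.exists_fixed_point_of_prime_dvd_card_of_fixed_point V
    (e ▸ dvd_pow_self p hk.ne') (a := 1) (fun x => map_one (φ x))
  obtain ⟨w, hw, ho⟩ := H10.exists_orderOf_eq_of_ne_bot (P := zpowers v) (hV.to_subgroup _)
    (by rw [Ne, zpowers_eq_bot]; exact Ne.symm h1)
  obtain ⟨n, rfl⟩ := mem_zpowers_iff.1 hw
  refine ⟨_, H10.ne_one_of_orderOf_eq ho, ho ▸ pow_orderOf_eq_one _, fun x => ?_⟩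
  rw [map_zpow, show φ x v = v from hv x]

theorem exists_fixed_aut_mod (φ : X →* MulAut V) (hX : IsPGroup p X) (hV : IsPGroup p V)
    (B : Subgroup V) [B.Normal] (hB : B ≠ ⊤) (h : ∀ x, ∀ v ∈ B, φ x v ∈ B) :
    ∃ v : V, v ∉ B ∧ v ^ p ∈ B ∧ ∀ x, φ x v * v⁻¹ ∈ B := by
  have : Nontrivial (V ⧸ B) := QuotientGroup.nontrivial_iff.2 hB
  obtain ⟨v, h1, h2, h3⟩ := exists_fixed_aut (H7.quotAut φ B h) hX (hV.to_quotient B)
  obtain ⟨v, rfl⟩ := QuotientGroup.mk_surjective v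
  refine ⟨v, fun h0 => h1 ((QuotientGroup.eq_one_iff v).2 h0),
    (QuotientGroup.eq_one_iff _).1 (by rw [QuotientGroup.mk_pow]; exact h2), fun x => ?_⟩
  have := h3 x
  rw [H7.quotAut_mk] at this
  rw [← QuotientGroup.eq_one_iff, QuotientGroup.mk_mul, this, QuotientGroup.mk_inv, mul_inv_cancel]

end H1
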