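import Cfsg.Agent.H1.CIT13
import Cfsg.Agent.H25.Zsig

/-! Arithmetic for the recognition of CIT groups by their prime graph. -/

set_option autoImplicit false
set_option linter.unusedSectionVars false

namespace H1.CIT
open Subgroup Cfsg H10
open scoped MatrixGroups

variable {G : Type*} [Group G] [Finite G]

theorem El.quot_odd {n : ℕ} (ho : Odd n) (h : El G n) : El (G ⧸ pCore 2 G) n := by
  obtain ⟨x, rfl⟩ := h
  refine ⟨x, Nat.dvd_antisymm (orderOf_map_dvd (QuotientGroup.mk' _) x) (orderOf_dvd_of_pow_eq_one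
    (eq_one_of_pg isPGroup_pCore' ((QuotientGroup.eq_one_iff _).1 ?_)
      (ho.of_dvd_nat (orderOf_pow_dvd _))))⟩
  rw [QuotientGroup.mk_pow, pow_orderOf_eq_one]

theorem ppd_dvd {n k r : ℕ} (hn : 0 < n) (h : H25.Ppd 2 n r) (hk : r ∣ 2 ^ k - 1) : n ∣ k :=
  ((H25.ppd_iff one_le_two hn).1 h).2 ▸ (H25.dvd_pow_sub_one_iff one_le_two k).1 hk

theorem ppd_two {n : ℕ} (hn : 3 ≤ n) (h6 : n ≠ 6) : ∃ r, H25.Ppd 2 n r :=
  H25.zsigmondy le_rfl (by omega) (fun h => h6 h.2) fun h => by omega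

theorem not_dvd_two_pow {n k r : ℕ} (hn : 0 < n) (hr : r.Prime) (h : r ∣ 2 ^ n - 1) : ¬ r ∣ 2 ^ k :=
  fun e => by
  obtain rfl := (Nat.prime_dvd_prime_iff_eq hr Nat.prime_two).1 (hr.dvd_of_dvd_pow e)
  have : 2 ∣ 2 ^ n := dvd_pow_self 2 hn.ne'
  have : 0 < 2 ^ n := by positivity
  omega

theorem sq_sub_one (q : ℕ) : q ^ 2 - 1 = (q + 1) * (q - 1) := by
  simpa using Nat.sq_sub_sq q 1

section
variable {F : Type*} [Field F] [Fintype F]

theorem card_psl_even {n : ℕ} (hn : 0 < n) (h : Fintype.card F = 2 ^ n) :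
    Nat.card PSL(2, F) = 2 ^ n * (2 ^ (2 * n) - 1) :=
  card_psl_of h (by
    rw [Nat.coprime_two_left.2 (Nat.Even.sub_odd Nat.one_le_two_pow (Nat.even_pow.2 ⟨even_two, by omega⟩)
      odd_one), one_mul, ← pow_mul, mul_comm n])

theorem card_psl_dvd : Nat.card PSL(2, F) ∣
    Fintype.card F * ((Fintype.card F + 1) * (Fintype.card F - 1)) := by
  rw [← sq_sub_one, ← H4.card_psl]; exact dvd_mul_left _ _

omit [Finite G] in
theorem sz_dvd {m : ℕ} (M : H26.SzModel G F m) (h : Fintype.card F = 2 ^ (2 * m + 1)) :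
    Nat.card G ∣ 2 ^ (2 * (2 * m + 1)) * (2 ^ (4 * (2 * m + 1)) - 1) := by
  rw [M.card_G, h, mul_assoc, ← pow_mul, mul_comm _ 2, show 4 * (2 * m + 1) = 2 * (2 * m + 1) * 2 by ring,
    pow_mul 2 (2 * (2 * m + 1)), sq_sub_one]
  refine Nat.mul_dvd_mul_left _ (Nat.mul_dvd_mul_left _ ?_)
  rw [mul_comm 2 (2 * m + 1), pow_mul 2 (2 * m + 1), sq_sub_one]
  exact dvd_mul_left _ _

omit [Finite G] in
theorem ppd_sz {m r : ℕ} (M : H26.SzModel G F m) (h : Fintype.card F = 2 ^ (2 * m + 1))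
    (hr : H25.Ppd 2 (4 * (2 * m + 1)) r) : r ∣ Nat.card G := by
  have h1 := hr.2.1
  rw [show 4 * (2 * m + 1) = (2 * m + 1) * 2 * 2 by ring, pow_mul 2 _ 2, sq_sub_one] at h1
  rw [M.card_G, h, ← pow_mul]
  exact (((hr.1.dvd_mul.1 h1).resolve_right (hr.2.2 _ (by omega) (by omega))).mul_left _).mul_right _

omit [Finite G] in
theorem sz_not_three {m : ℕ} (M : H26.SzModel G F m) (h : Fintype.card F = 2 ^ (2 * m + 1)) :
    ¬ 3 ∣ Nat.card G := by
  have e : 2 ^ (2 * m + 1) % 3 = 2 := by simp [pow_succ, pow_mul, Nat.mul_mod, Nat.pow_mod]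
  rw [M.card_G, h]
  generalize 2 ^ (2 * m + 1) = q at e
  have e2 : q ^ 2 % 3 = 1 := by simp [Nat.pow_mod, e]
  simp only [Nat.prime_three.dvd_mul]
  omega

theorem sz_le {G' F' : Type*} [Group G'] [Field F'] [Fintype F'] {m n : ℕ} (M : H26.SzModel G F m)
    (h : Fintype.card F = 2 ^ (2 * m + 1)) (M' : H26.SzModel G' F' n)
    (h' : Fintype.card F' = 2 ^ (2 * n + 1))
    (hd : ∀ r : ℕ, r.Prime → r ∣ Nat.card G → r ∣ Nat.card G') : m ≤ n := by
  obtain ⟨r, hr⟩ := ppd_two (n := 4 * (2 * m + 1)) (by omega) (by omega)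
  have := Nat.le_of_dvd (by omega) (ppd_dvd (by omega) hr ((hr.1.dvd_mul.1 ((hd r hr.1
    (ppd_sz M h hr)).trans (sz_dvd M' h'))).resolve_left (not_dvd_two_pow (by omega) hr.1 hr.2.1)))
  omega

omit [Finite G] in
theorem sz_equiv {G' F' : Type*} [Group G'] [Field F'] [Fintype F'] {m n : ℕ} (M : H26.SzModel G F m)
    (M' : H26.SzModel G' F' n) (h : Fintype.card F = Fintype.card F') : Nonempty (G ≃* G') :=
  (M.nonempty_sub_equiv M' (E := ⊤) (by
    rw [← h, ← Nat.card_eq_fintype_card]; exact Nat.card_congr Subfield.topEquiv.toEquiv)).map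
    ((MulEquiv.subgroupCongr M.sub_top).trans topEquiv).symm.trans

theorem psl_dvd {F' : Type*} [Field F'] [Fintype F'] {m n : ℕ} (hm : 2 ≤ m) (h3 : m ≠ 3) (hn : 0 < n)
    (h : Fintype.card F = 2 ^ m) (h' : Fintype.card F' = 2 ^ n)
    (hd : ∀ r : ℕ, r.Prime → r ∣ Nat.card PSL(2, F) → r ∣ Nat.card PSL(2, F')) : m ≤ n := by
  obtain ⟨r, hr⟩ := ppd_two (n := 2 * m) (by omega) (by omega)
  have := hd r hr.1 (card_psl_even (by omega) h ▸ hr.2.1.mul_left _)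
  rw [card_psl_even hn h'] at this
  have := Nat.le_of_dvd (by omega) (ppd_dvd (by omega) hr ((hr.1.dvd_mul.1 this).resolve_left
    (not_dvd_two_pow (by omega) hr.1 hr.2.1)))
  omega

end

theorem pow_of_primes {n p : ℕ} (h0 : n ≠ 0) (h : ∀ r : ℕ, r.Prime → r ∣ n → r = p) : ∃ j, n = p ^ j :=
  ⟨_, Nat.eq_prime_pow_of_unique_prime_dvd h0 fun hr hd => h _ hr hd⟩

omit [Finite G] in
theorem MT.three (h : MT G) : 3 ∣ Nat.card G := by rw [h.card]; norm_num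

omit [Finite G] in
theorem Kn.three (h : Kn G) : 3 ∣ Nat.card G ∨ Lie.IsoSuzuki G := by
  rcases h with (⟨F, i1, i2, n, h1, h2, ⟨f⟩⟩ | h) | ⟨F, i1, i2, k, h1, h2, h3, ⟨f⟩⟩ | ⟨⟨f⟩⟩
  exacts [.inl (Nat.card_congr f.toEquiv ▸ three_dvd_psl), .inr h,
    .inl (Nat.card_congr f.toEquiv ▸ three_dvd_psl),
    .inl (by rw [Nat.card_congr f.toEquiv, card_psl34]; norm_num)]

end H1.CIT
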