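import Cfsg.Agent.H1.CIT14
import Cfsg.Agent.H6.MaxCl
import Cfsg.Agent.H19.Ev
import Cfsg.Agent.H4.Tor3

/-! Groups whose non-cyclic subgroups are self-centralizing. -/

set_option autoImplicit false
set_option linter.unusedSectionVars false

namespace H1.CIT
open Subgroup Cfsg H10
open GW (C1 mem_C1)
open H6 (ord2_of ord2_mul_self ord2_ne_one ord2_inv ord2_conj)
open scoped MatrixGroups

variable {G : Type*} [Group G] [Finite G]

/-- non-cyclic subgroups are self-centralizing -/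
def SCy (G : Type*) [Group G] : Prop := ∀ H : Subgroup G, ¬ IsCyclic H → CC(H) ≤ H

omit [Finite G] in
theorem SCy.inj (h : SCy G) {K : Type*} [Group K] {f : K →* G} (hf : Function.Injective f) : SCy K :=
  fun H hH x hx => by
  obtain ⟨y, hy, e⟩ := h (H.map f) (fun e => hH (isCyclic_of_surjective _
    (H.equivMapOfInjective f hf).symm.surjective)) (map_CC_le f H ⟨x, hx, rfl⟩)
  exact hf e ▸ hy

theorem SCy.card_le (h : SCy G) {s t : G} (os : orderOf s = 2) (ot : orderOf t = 2) (hne : s ≠ t)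
    (hc : Commute s t) : Nat.card (C1 s ⊓ C1 t : Subgroup G) ≤ 4 := by
  have h1 := card_sup_dvd (H := zpowers s) (N := zpowers t)
    ((zpowers_le.2 ((CC_zpowers t).ge (mem_C1.2 hc.eq))).trans (CC_le_NN _))
  rw [Nat.card_zpowers, Nat.card_zpowers, os, ot] at h1
  refine (card_le_of_le ?_).trans (Nat.le_of_dvd (by norm_num) h1)
  rw [C1, C1, ← CC_zpowers, ← CC_zpowers, ← CC_sup]
  exact h _ fun e => hne (H6.ord2_unique_of_isCyclic e (mem_sup_left (mem_zpowers s))
    (mem_sup_right (mem_zpowers t)) os ot)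

theorem SCy.pg (h : SCy G) {t u : G} (ot : orderOf t = 2) (ht : C1 t = ⊤) (ou : orderOf u = 2)
    (hne : u ≠ t) : IsPGroup 2 G := by
  have zt : ∀ g, g * t = t * g := fun g => mem_C1.1 (ht.ge (mem_top g))
  have c4 : Nat.card (C1 u) ≤ 4 := by simpa [ht] using h.card_le ou ot hne (zt u)
  set Q := pCore 2 G
  have hu : u ∈ Q := by
    by_contra hn
    obtain ⟨P⟩ : Nonempty (Sylow 2 G) := inferInstance
    obtain ⟨y, y1, oy, hy, -⟩ := H6.exists_odd_inverted ou P (by rwa [← H1.pCore_eq_normalCore_sylow])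
    have hN : zpowers u ≤ NN(zpowers y) := zpowers_le.2 (mem_NN.2 (by rw [cj_zpowers, hy, zpowers_inv]))
    obtain ⟨a, ha, b, hb, e⟩ := (mem_sup_of_NN hN).1 (h (zpowers u ⊔ zpowers y) (fun e => y1 (by
      have := e.isMulCommutative.1.1 ⟨u, mem_sup_left (mem_zpowers u)⟩ ⟨y, mem_sup_right (mem_zpowers y)⟩
      rw [conj_eq_of_comm (congrArg Subtype.val this)] at hy
      exact H26.SzModel.eq_one_of_inv_eq_of_odd oy hy.symm)) (mem_CC.2 fun g _ => zt g))
    have hb2 : b * b = 1 := by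
      have e' : b = a⁻¹ * t := by rw [← e]; group
      have : a * a = 1 := by
        obtain ⟨k, rfl⟩ := ha
        simp only [← (Commute.refl u).mul_zpow, ord2_mul_self ou, one_zpow]
      rw [e', mul_assoc, ← mul_assoc t, ← zt, mul_assoc, ord2_mul_self ot, mul_one, ← mul_inv_rev, this,
        inv_one]
    have b1 : b = 1 := H26.SzModel.eq_one_of_inv_eq_of_odd (oy.of_dvd_nat (orderOf_dvd_of_mem_zpowers hb))
      (inv_eq_of_mul_eq_one_left hb2)
    rw [b1, mul_one] at e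
    exact hne (H6.ord2_unique_of_isCyclic inferInstance (mem_zpowers u) (e ▸ ha) ou ot)
  have hQ : IsPGroup 2 Q := isPGroup_pCore'
  by_contra hn
  have i3 : 3 ≤ Q.index := by
    obtain ⟨k, hk⟩ := IsPGroup.iff_card.1 hQ
    have := Q.card_mul_index
    have := Q.index_ne_zero_of_finite
    by_contra hi
    have : Q.index = 1 ∨ Q.index = 2 := by omega
    rcases this with e | e
    · exact hn (IsPGroup.of_card (n := k) (by simp_all))
    · exact hn (IsPGroup.of_card (n := k + 1) (by simp_all [pow_succ]))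
  have : (zpowers t).Normal := ⟨fun x hx g => by
    obtain ⟨k, rfl⟩ := hx
    simp [conj_eq_of_comm (Commute.zpow_right (zt g) k).eq]⟩
  have tQ : t ∈ Q := le_pCore' (GW.isPGroup_zp2 ot) (mem_zpowers t)
  let S : Set G := {y | y ∈ Q ∧ y * y = 1}
  have h1 : (C1 u).index + 2 ≤ S.ncard := by
    rw [← H19.ncard_isConj, ← Set.ncard_pair (ord2_ne_one ot), ← Set.ncard_union_eq]
    · refine Set.ncard_le_ncard ?_
      rintro y (hy | rfl | rfl)
      · obtain ⟨g, rfl⟩ := isConj_iff.1 hy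
        exact ⟨Normal.conj_mem inferInstance u hu g, ord2_mul_self (ord2_conj ou g)⟩
      exacts [⟨tQ, ord2_mul_self ot⟩, ⟨one_mem _, one_mul _⟩]
    · refine Set.disjoint_right.2 ?_
      rintro y (rfl | rfl) hy
      · obtain ⟨g, hg⟩ := isConj_iff.1 hy.symm
        exact hne (by rw [← hg, zt, mul_inv_cancel_right])
      · exact ord2_ne_one ou (isConj_one_left.1 hy)
  have h2 : ((u * ·) '' S).ncard = S.ncard := Set.ncard_image_of_injective _ (mul_right_injective u)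
  have h3 : (S ∪ (u * ·) '' S).ncard ≤ Nat.card Q := Set.ncard_le_ncard (t := (Q : Set G)) (by
    rintro y (hy | ⟨y, hy, rfl⟩)
    exacts [hy.1, mul_mem hu hy.1])
  have h4 : (S ∩ (u * ·) '' S).ncard ≤ Nat.card (C1 u) := Set.ncard_le_ncard (t := (C1 u : Set G)) (by
    rintro _ ⟨hy, y, hy', rfl⟩
    refine mem_C1.2 ?_
    rw [mul_assoc, mul_right_inj, ← inv_eq_of_mul_eq_one_left hy.2, mul_inv_rev, ord2_inv ou,
      inv_eq_of_mul_eq_one_left hy'.2])
  have h5 := Set.ncard_union_add_ncard_inter S ((u * ·) '' S)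
  have h6 := (C1 u).card_mul_index
  have h7 := Q.card_mul_index
  have h8 : 0 < Nat.card Q := Nat.card_pos
  nlinarith

theorem SCy.cit [IsSimpleGroup G] (h : SCy G) (hn : ¬ IsMulCommutative G) : Cit G := by
  refine cit_of fun t ot => ?_
  by_cases hi : IsIsolatedInvolution t
  · have := H19.zstar_center hi ((IsSimpleGroup.eq_bot_or_eq_top_of_normal _ inferInstance).resolve_right
      fun e => H6.odd_card_iff.1 odd_O t (e.ge (mem_top t)) ot)
    rcases IsSimpleGroup.eq_bot_or_eq_top_of_normal (center G) inferInstance with e | e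
    · exact absurd (e.le this) (ord2_ne_one ot)
    · exact absurd ⟨⟨fun a b => mem_center_iff.1 (e.ge (mem_top b)) a⟩⟩ hn
  obtain ⟨g, hc, hg⟩ : ∃ g, Commute t (g * t * g⁻¹) ∧ g * t * g⁻¹ ≠ t := by
    by_contra h'
    push Not at h'
    exact hi ⟨ot, h'⟩
  exact (h.inj (C1 t).subtype_injective).pg (t := ⟨t, mem_C1.2 rfl⟩) (u := ⟨_, mem_C1.2 hc.symm.eq⟩)
    ((orderOf_mk _ _).trans ot) (eq_top_iff.2 fun x _ => mem_C1.2 (Subtype.ext (mem_C1.1 x.2)))
    ((orderOf_mk _ _).trans (ord2_conj ot g)) fun e => hg (congrArg Subtype.val e)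

theorem SCy.el_four (h : SCy G) (h4 : Four G) (h8 : 8 ∣ Nat.card G) {k : ℕ}
    (hk : 2 ^ (k + 1) ∣ Nat.card G) : El G (2 ^ k) := by
  obtain ⟨s, t, os, ot, hne, hc⟩ := h4
  obtain ⟨S, hS, hle⟩ := exists_isSylowIn_ge (isPGroup_sup_of_NN (GW.isPGroup_zp2 os)
    (GW.isPGroup_zp2 ot) ((zpowers_le.2 ((CC_zpowers t).ge (mem_C1.2 hc.eq))).trans (CC_le_NN _))) le_top
  have ms := hle (mem_sup_left (mem_zpowers s))
  have mt := hle (mem_sup_right (mem_zpowers t))
  obtain ⟨z, hz, oz⟩ := exists_orderOf_eq_of_ne_bot (hS.isPGroup.to_le inf_le_left)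
    (center_ne_bot hS.isPGroup fun e => ord2_ne_one os (e.le ms))
  obtain ⟨u, hu, ou, h1⟩ : ∃ u ∈ S, orderOf u = 2 ∧ u ≠ z := by
    by_cases e : s = z
    exacts [⟨t, mt, ot, e ▸ hne.symm⟩, ⟨s, ms, os, e⟩]
  have c4 : Nat.card (C1 (⟨u, hu⟩ : S)) ≤ 4 := by
    rw [← card_map_subtype]
    refine (card_le_of_le ?_).trans (h.card_le ou oz h1 (mem_CC.1 hz.2 u hu))
    rintro _ ⟨x, hx, rfl⟩
    exact ⟨mem_C1.2 (congrArg Subtype.val (mem_C1.1 hx)), mem_C1.2 (mem_CC.1 hz.2 x x.2)⟩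
  have hd : ∀ j, 2 ^ j ∣ Nat.card G → 2 ^ j ∣ Nat.card S := fun j e => by
    rw [hS.card_eq_pow, card_top]
    exact pow_dvd_pow 2 ((Nat.prime_two.pow_dvd_iff_le_factorization Nat.card_pos.ne').1 e)
  rcases H6.taussky_aux _ S rfl hS.isPGroup ((H6.index_commutator_le_card_cent _).trans c4) with
    e | ⟨a, e⟩
  · rw [show C1 (⟨u, hu⟩ : S) = ⊤ from eq_top_iff.2 fun x _ => mem_C1.2 (e.1.1 _ _), card_top] at c4
    exact absurd (Nat.le_of_dvd Nat.card_pos (hd 3 h8)) (by omega)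
  · have := hd _ hk
    rw [← (zpowers a).card_mul_index, e, pow_succ, Nat.card_zpowers] at this
    exact El.dvd ⟨a, orderOf_coe a⟩ (Nat.dvd_of_mul_dvd_mul_right two_pos this)

theorem scy_psl {F : Type*} [Field F] [Fintype F] (hC : Cit PSL(2, F)) {p : ℕ} (hp : p.Prime)
    (h : Fintype.card F ∣ p ^ 2) : SCy PSL(2, F) := fun H hH c hc => by
  have hle : H ≤ C1 c := fun x hx => mem_C1.2 (mem_CC.1 hc x hx)
  rcases H4.psl_cases c with rfl | ⟨u, a, hu, rfl⟩ | ⟨u, hu, rfl⟩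
  · exact one_mem _
  · have := Fact.mk hp
    have h1 := H4.card_cent_un hu
    obtain ⟨i, hi, e⟩ := (Nat.dvd_prime_pow hp).1 ((card_dvd_of_le hle).trans (h1 ▸ h))
    obtain rfl : i = 2 := by
      by_contra hn
      exact hH (isCyclic_of_card_dvd_prime (p := p) (e ▸ (pow_dvd_pow p (by omega : i ≤ 1)).trans (by simp)))
    exact (eq_of_le_of_card_ge hle (e ▸ h1 ▸ Nat.le_of_dvd (pow_pos hp.pos _) h)).ge (mem_C1.2 rfl)
  by_contra hn
  have c1 : (u : PSL(2, F)) ≠ 1 := fun e => hn (e ▸ one_mem _)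
  have D := (H4.dih_pN hu).comap H4.psl2pgl_injective
  have m : (u : PSL(2, F)) ∈ (H4.pT (H4.sgl u)).comap H4.psl2pgl := H4.pmk_mem_pT_self _
  by_cases h2 : (2 : F) = 0 ∨ (u : PSL(2, F)) * u ≠ 1
  · rw [C1, H4.cent_psl, H4.cent_eq_pT (H4.not_sc_of_disc hu) m
      (fun h => c1 (H4.psl2pgl_injective (h.trans (map_one _).symm))) (h2.imp_right fun h h3 =>
      h (H4.psl2pgl_injective (by rw [map_mul, h3, map_one])))] at hle
    exact hH (cyc_le D.cyc hle)
  push Not at h2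
  have o := ord2_of h2.2 c1
  have hP := (hC.pg2 o).to_le hle
  rw [C1, H4.cent_psl, H4.psl2pgl_mk, ← H4.pmk_sgl, H4.cent_eq_pN (H4.trace_eq_zero_of_ord2
    ((H4.orderOf_psl _).trans o))] at hle
  have D' := D.mono hle
  have h1 := D'.card_dvd
  obtain ⟨x, hx, ox⟩ := exists_orderOf_eq_of_ne_bot (hP.to_le D'.le) fun e =>
    hH (isCyclic_of_card_dvd_prime (p := 2) (by simpa [e] using h1))
  exact hn (H6.ord2_unique_of_isCyclic D.cyc hx.1 m ox o ▸ hx.2)

end H1.CIT
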