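import Cfsg.Agent.H1.Hig1
import Cfsg.Agent.H10.Act
import Cfsg.Agent.H4.Dk3
import Cfsg.Agent.H12.Qd
import Cfsg.Agent.H18.Small
import Cfsg.Agent.H8.CT

/-! Higman's theorem on extensions of `SL(2, 2^n)` with a fixed point free element of order three. -/

set_option autoImplicit false
set_option linter.unusedSectionVars false

namespace H1.Hig
open Subgroup H4 H10 Cfsg
open scoped MatrixGroups commutatorElement

variable {G : Type*} [Group G]

theorem cop {w : G} {k : ℕ} (h : w ^ 3 = 1) (hk : w ^ 2 ^ k = 1) : w = 1 :=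
  orderOf_eq_one_iff.1 (Nat.eq_one_of_dvd_coprimes (Nat.Coprime.pow_right k (by decide : Nat.Coprime 3 2))
    (orderOf_dvd_of_pow_eq_one h) (orderOf_dvd_of_pow_eq_one hk))

/-- `1 + y + y² = 0` on `Q` -/
def P3 (Q : Subgroup G) (y : G) : Prop :=
  ∀ a ∈ Q, a * (y * a * y⁻¹) * (y * (y * a * y⁻¹) * y⁻¹) = 1

theorem p3_of_fpf [Finite G] {Q : Subgroup G} {x : G} (hn : x ∈ NN(Q)) (hx : x * x * x = 1)
    (hf : ∀ q ∈ Q, x * q * x⁻¹ = q → q = 1) : P3 Q x := fun a ha => by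
  have inj : Function.Injective fun b : Q =>
      (⟨(b : G)⁻¹ * (x * b * x⁻¹), mul_mem (inv_mem b.2) (conj_mem_of_mem_NN hn b.2)⟩ : Q) := by
    intro b c e
    have e : (b : G)⁻¹ * (x * b * x⁻¹) = (c : G)⁻¹ * (x * c * x⁻¹) := congrArg Subtype.val e
    refine Subtype.ext (mul_inv_eq_one.1 (hf _ (mul_mem b.2 (inv_mem c.2)) ?_))
    calc x * (b * (c : G)⁻¹) * x⁻¹ = b * ((b : G)⁻¹ * (x * b * x⁻¹)) * (x * c * x⁻¹)⁻¹ := by group
      _ = _ := by rw [e]; group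
  obtain ⟨b, hb⟩ := Finite.surjective_of_injective inj ⟨a, ha⟩
  obtain rfl : (b : G)⁻¹ * (x * b * x⁻¹) = a := congrArg Subtype.val hb
  calc _ = (b : G)⁻¹ * (x * x * x * b * (x * x * x)⁻¹) := by group
    _ = 1 := by rw [hx]; group

variable {Q : Subgroup G} [hQ : Q.Normal] {y z : G}

theorem P3.conj (h : P3 Q y) (g : G) : P3 Q (g * y * g⁻¹) := fun a ha => by
  have := congrArg (fun x => g * x * g⁻¹) (h _ (hQ.conj_mem' a ha g))
  simpa [mul_assoc] using this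

omit hQ in
theorem P3.map (h : P3 Q y) {H : Type*} [Group H] (f : G →* H) : P3 (Q.map f) (f y) := by
  rintro _ ⟨a, ha, rfl⟩
  simpa using congrArg f (h a ha)

omit hQ in
theorem P3.comm (h : P3 Q y) {a : G} (ha : a ∈ Q) : ⁅a, y * a * y⁻¹⁆ = 1 := by
  have h1 := eq_inv_of_mul_eq_one_left (h a ha)
  have h2 := h _ (inv_mem ha)
  rw [commutatorElement_def, h1]
  calc _ = (y * (y * a * y⁻¹) * y⁻¹)⁻¹ * (a⁻¹ * (y * a⁻¹ * y⁻¹) * (y * (y * a⁻¹ * y⁻¹) * y⁻¹)) *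
      (y * (y * a * y⁻¹) * y⁻¹) := by group
    _ = 1 := by rw [h2]; group

section class2
variable (hc : Q ≤ CC((⁅Q, Q⁆ : Subgroup G)))
include hc

theorem bl {a b c : G} (ha : a ∈ Q) (hb : b ∈ Q) (h : c ∈ Q) : ⁅a * b, c⁆ = ⁅b, c⁆ * ⁅a, c⁆ := by
  calc ⁅a * b, c⁆ = a * ⁅b, c⁆ * a⁻¹ * ⁅a, c⁆ := by simp only [commutatorElement_def]; group
    _ = _ := by rw [← mem_CC.1 (hc ha) _ (commutator_mem_commutator hb h), mul_inv_cancel_right]

theorem br {a b c : G} (ha : a ∈ Q) (hb : b ∈ Q) (h : c ∈ Q) : ⁅c, a * b⁆ = ⁅c, a⁆ * ⁅c, b⁆ := by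
  rw [← commutatorElement_inv, bl hc ha hb h, mul_inv_rev, commutatorElement_inv, commutatorElement_inv]

theorem P3.adj (h : P3 Q y) {a b : G} (ha : a ∈ Q) (hb : b ∈ Q) :
    ⁅a, y * b * y⁻¹⁆ = ⁅y * a * y⁻¹, b⁆ := by
  have e := h.comm (mul_mem ha hb)
  have ma := hQ.conj_mem a ha y
  have mb := hQ.conj_mem b hb y
  rw [← conj_mul, bl hc ha hb (mul_mem ma mb), br hc ma mb hb, br hc ma mb ha, h.comm ha, h.comm hb,
    mul_one, one_mul] at e
  rw [eq_inv_of_mul_eq_one_right e, commutatorElement_inv]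

theorem P3.swap (hy : P3 Q y) (hz : P3 Q z) : (z * y)⁻¹ * (y * z) ∈ CC((⁅Q, Q⁆ : Subgroup G)) := by
  have cj : ∀ g a b : G, g * ⁅a, b⁆ * g⁻¹ = ⁅g * a * g⁻¹, g * b * g⁻¹⁆ := fun g a b =>
    conjugate_commutatorElement a b g
  have m := hQ.conj_mem
  have : ⁅Q, Q⁆ ≤ centralizer {(z * y)⁻¹ * (y * z)} := commutator_le.2 fun a ha b hb => by
    have e1 : y * (z * ⁅a, b⁆ * z⁻¹) * y⁻¹ = ⁅y * (y * a * y⁻¹) * y⁻¹, z * (z * b * z⁻¹) * z⁻¹⁆ := by
      rw [cj z, ← hz.adj hc ha (m b hb z), cj y, hy.adj hc (m a ha y) (m _ (m b hb z) z)]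
    have e2 : z * (y * ⁅a, b⁆ * y⁻¹) * z⁻¹ = ⁅y * (y * a * y⁻¹) * y⁻¹, z * (z * b * z⁻¹) * z⁻¹⁆ := by
      rw [cj y, hy.adj hc (m a ha y) hb, cj z, ← hz.adj hc (m _ (m a ha y) y) (m b hb z)]
    rw [mem_centralizer_singleton_iff]
    generalize ⁅a, b⁆ = c at e1 e2 ⊢
    calc _ = (z * y)⁻¹ * (z * (y * c * y⁻¹) * z⁻¹) * (y * z) := by group
      _ = _ := by rw [e2, ← e1]; group
  exact mem_CC.2 fun h hh => mem_centralizer_singleton_iff.1 (this hh)

theorem comm_bot2 (h2 : IsPGroup 2 Q) (hy : P3 Q y) (hz : P3 Q z) (ht : Q ⊔ closure {y, z} = ⊤)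
    {g : G} (hg : g * y * g⁻¹ * y ∈ Q) : ⁅Q, Q⁆ = ⊥ := by
  set C := CC((⁅Q, Q⁆ : Subgroup G))
  have hD : (centralizer {(y : G ⧸ C)}).comap (QuotientGroup.mk' C) = ⊤ := by
    rw [eq_top_iff, ← ht, sup_le_iff, closure_le]
    refine ⟨fun a ha => ?_, ?_⟩
    · simp [(QuotientGroup.eq_one_iff a).2 (hc ha)]
    · rintro _ (rfl | rfl)
      · exact mem_centralizer_singleton_iff.2 rfl
      · exact mem_centralizer_singleton_iff.2 (QuotientGroup.eq.2 (hy.swap hc hz))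
  have h1 : (g : G ⧸ C) * y = y * g := mem_centralizer_singleton_iff.1 (hD.ge (mem_top g))
  have h3 : y * y ∈ C := by
    rw [← QuotientGroup.eq_one_iff, ← (QuotientGroup.eq_one_iff _).2 (hc hg)]
    simp [h1]
  refine (eq_bot_iff_forall _).2 fun w hw => ?_
  have hw' : w ∈ Q := commutator_le_left Q Q hw
  have e1 : y * (y * w * y⁻¹) * y⁻¹ = w := by
    calc _ = y * y * w * (y * y)⁻¹ := by group
      _ = w := by rw [← mem_CC.1 h3 w hw, mul_inv_cancel_right]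
  have e2 : y * w * y⁻¹ = w⁻¹ * w⁻¹ := by
    have := hy w hw'
    rw [e1] at this
    calc _ = w⁻¹ * (w * (y * w * y⁻¹) * w) * w⁻¹ := by group
      _ = _ := by rw [this, mul_one]
  have e3 : w ^ 3 = 1 := by
    rw [e2, ← conj_mul, ← conj_inv, e2] at e1
    calc w ^ 3 = (w⁻¹ * w⁻¹)⁻¹ * (w⁻¹ * w⁻¹)⁻¹ * w⁻¹ := by group
      _ = 1 := by rw [e1, mul_inv_cancel]
  obtain ⟨k, hk⟩ := h2 ⟨w, hw'⟩
  exact cop e3 (congrArg Subtype.val hk)

end class2

theorem comm_bot [Finite G] (h2 : IsPGroup 2 Q) (hy : P3 Q y) (hz : P3 Q z)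
    (ht : Q ⊔ closure {y, z} = ⊤) {g : G} (hg : g * y * g⁻¹ * y ∈ Q) : ⁅Q, Q⁆ = ⊥ := by
  set N : Subgroup G := ⁅⁅Q, Q⁆, Q⁆
  let f := QuotientGroup.mk' N
  haveI : (Q.map f).Normal := hQ.map f (QuotientGroup.mk'_surjective N)
  have hc : Q.map f ≤ CC((⁅Q.map f, Q.map f⁆ : Subgroup (G ⧸ N))) := by
    rw [le_CC_comm, ← commutator_eq_bot_iff_le_centralizer, ← map_commutator, ← map_commutator,
      Subgroup.map_eq_bot_iff, QuotientGroup.ker_mk']
  have := comm_bot2 hc (h2.map f) (hy.map f) (hz.map f) (g := f g) (by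
    rw [← Set.image_pair, ← MonoidHom.map_closure, ← Subgroup.map_sup, ht,
      map_top_of_surjective _ (QuotientGroup.mk'_surjective N)]) ⟨_, hg, by simp⟩
  rw [← map_commutator, Subgroup.map_eq_bot_iff, QuotientGroup.ker_mk'] at this
  exact eq_bot_of_le_comm h2 (commutator_le_left Q Q) le_rfl this

variable {K : Type*} [Field K] [Finite K] [CharP K 2] {π : G →* SL(2, K)}

theorem tr_cube {u : SL(2, K)} (h : u * u * u = 1) (h1 : u ≠ 1) : u.1.trace = 1 := by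
  have e : (u.1.trace ^ 2 - 1) • u.1 = (u.1.trace + 1) • (1 : Matrix (Fin 2) (Fin 2) K) := by
    have : u.1 * u.1 * u.1 = 1 := congrArg Subtype.val h
    rw [sl_cayley, sub_mul, smul_mul_assoc, sl_cayley, one_mul] at this
    linear_combination (norm := module) this
  by_contra ht
  have h2 : u.1.trace + 1 ≠ 0 := fun h => ht (by rw [eq_neg_of_add_eq_zero_left h, CharTwo.neg_eq])
  have e2 : u.1.trace ^ 2 - 1 = (u.1.trace + 1) * (u.1.trace + 1) := by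
    rw [CharTwo.add_mul_self, CharTwo.sub_eq_add]; ring
  rw [e2, mul_smul] at e
  have e3 := smul_right_injective _ h2 e
  have := congrArg Matrix.trace e3
  simp only [Matrix.trace_smul, Matrix.trace_one, Fintype.card_fin, Nat.cast_ofNat, CharTwo.two_eq_zero,
    smul_eq_mul, mul_eq_zero, h2, false_or] at this
  rw [this, zero_add, one_smul] at e3
  exact h1 (Subtype.ext e3)

theorem conj_tr {u v : SL(2, K)} (hu : u.1.trace = 1) (hv : v.1.trace = 1) : IsConj u v :=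
  sl_isConj_of_disc (hu.trans hv.symm) (by
    rw [hu, show (4 : K) = 2 * 2 by norm_num, CharTwo.two_eq_zero]; simp)

/-- Higman's hypothesis -/
structure Hy (π : G →* SL(2, K)) : Prop where
  surj : Function.Surjective π
  two : IsPGroup 2 π.ker
  ex : ∃ x : G, orderOf x = 3 ∧ ∀ q ∈ π.ker, x * q * x⁻¹ = q → q = 1
  big : ∃ μ : K, μ ≠ 0 ∧ μ ≠ 1

/-- an equivariant map from the natural module -/
def NatEmb (π : G →* SL(2, K)) (τ : Multiplicative (Fin 2 → K) →* G) : Prop :=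
  τ.range ≤ π.ker ∧ ∀ g v, τ (Multiplicative.ofAdd (π g • v)) = g * τ (Multiplicative.ofAdd v) * g⁻¹

variable [Finite G]

theorem Hy.lift (h : Hy π) {u : SL(2, K)} (hu : u.1.trace = 1) : ∃ y, π y = u ∧ P3 π.ker y := by
  obtain ⟨x, hx, hf⟩ := h.ex
  have h3 : x * x * x = 1 := by rw [← pow_three', ← hx, pow_orderOf_eq_one]
  have h1 : π x ≠ 1 := fun h1 => by
    obtain ⟨k, hk⟩ := h.two ⟨x, h1⟩
    rw [cop (w := x) (pow_three' x ▸ h3) (congrArg Subtype.val hk), orderOf_one] at hx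
    omega
  obtain ⟨c, hc⟩ := isConj_iff.1 (conj_tr (tr_cube (by rw [← map_mul, ← map_mul, h3, map_one]) h1) hu)
  obtain ⟨g, rfl⟩ := h.surj c
  exact ⟨g * x * g⁻¹, by simpa using hc,
    (p3_of_fpf (by rw [normalizer_eq_top]; trivial) h3 hf).conj g⟩

theorem Hy.comm (h : Hy π) : ⁅π.ker, π.ker⁆ = ⊥ := by
  obtain ⟨μ, h0, h1⟩ := h.big
  obtain ⟨u, v, hu, hv, huv⟩ := gen2 h0 h1
  obtain ⟨y, rfl, hy⟩ := h.lift hu
  obtain ⟨z, rfl, hz⟩ := h.lift hv
  obtain ⟨c, hc⟩ := isConj_iff.1 (conj_tr hu (v := (π y)⁻¹) (by rw [sl_trace_inv, hu]))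
  obtain ⟨g, rfl⟩ := h.surj c
  refine comm_bot h.two hy hz (g := g) ?_ (by simp [hc])
  rw [sup_comm, ← comap_map_eq, MonoidHom.map_closure, Set.image_pair, huv, comap_top]

theorem Hy.emb (h : Hy π) : (∀ q ∈ π.ker, q * q = 1) ∧ ∀ q ∈ π.ker, ∃ τ τ', NatEmb π τ ∧ NatEmb π τ' ∧
    ∃ v w, q = τ v * τ' w := by
  obtain ⟨μ, h0, h1⟩ := h.big
  have hc := commutator_eq_bot_iff_le_centralizer.1 h.comm
  let _ : CommGroup π.ker := { (inferInstance : Group π.ker) with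
    mul_comm := fun a b => Subtype.ext (mem_CC.1 (hc b.2) a a.2) }
  let c : SL(2, K) →* MulAut π.ker := π.liftOfSurjective h.surj ⟨MulAut.conjNormal, fun a ha => by
    ext b
    rw [MulAut.conjNormal_apply, ← mem_CC.1 (hc ha) b b.2]; simp⟩
  have hcπ : ∀ g, c (π g) = MulAut.conjNormal g := fun g => MonoidHom.liftOfRightInverse_comp_apply ..
  let φ : SL(2, K) →* AddMonoid.End (Additive π.ker) :=
    { toFun := fun g => MonoidHom.toAdditive (c g).toMonoidHom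
      map_one' := by rw [map_one]; rfl
      map_mul' := fun a b => by rw [map_mul]; rfl }
  have hφ : ∀ g m, ((φ (π g) m).toMul : G) = g * m.toMul * g⁻¹ := fun g m => by
    show (c (π g) m.toMul : G) = _
    rw [hcπ]; rfl
  have h3 : ∀ g : SL(2, K), g.1.trace = 1 → φ g * φ g + φ g + 1 = 0 := fun u hu => by
    obtain ⟨y, rfl, hy⟩ := h.lift hu
    refine AddMonoidHom.ext fun m => ?_
    show φ (π y) (φ (π y) m) + φ (π y) m + m = 0
    rw [add_comm, add_comm (φ _ (φ _ _)), ← add_assoc]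
    refine Additive.toMul.injective (Subtype.ext ?_)
    simpa [hφ] using hy _ m.toMul.2
  have h2 : ∀ q ∈ π.ker, q * q = 1 := fun q hq => by
    have e : (6 • Additive.ofMul (⟨q, hq⟩ : π.ker)) = 0 := by
      simpa using DFunLike.congr_fun (six φ h3 h0 h1) (Additive.ofMul ⟨q, hq⟩)
    have e : q ^ 6 = 1 := congrArg (fun m : Additive π.ker => (m.toMul : G)) e
    obtain ⟨k, hk⟩ := h.two ⟨q * q, mul_mem hq hq⟩
    exact cop (by rw [← pow_two, ← pow_mul, e]) (congrArg Subtype.val hk)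
  refine ⟨h2, fun q hq => ?_⟩
  obtain ⟨τ, τ', a, b, v, w, e⟩ := exists_nat φ h3 h0 h1 (AddMonoidHom.ext fun m =>
    Additive.toMul.injective (Subtype.ext (h2 _ m.toMul.2))) (Additive.ofMul ⟨q, hq⟩)
  have key : ∀ τ : (Fin 2 → K) →+ Additive π.ker, (∀ (g : SL(2, K)) v, τ (g • v) = φ g (τ v)) →
      NatEmb π (π.ker.subtype.comp (AddMonoidHom.toMultiplicativeLeft τ)) := fun τ a =>
    ⟨by rintro _ ⟨v, rfl⟩; exact Subtype.property _, fun g v => by
      show ((τ (π g • v)).toMul : G) = _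
      rw [a, hφ]; rfl⟩
  exact ⟨_, _, key τ a, key τ' b, .ofAdd v, .ofAdd w, congrArg (fun m : Additive π.ker => (m.toMul : G)) e⟩

omit [Finite G]
variable {τ : Multiplicative (Fin 2 → K) →* G}

theorem NatEmb.normal (h : NatEmb π τ) : τ.range.Normal :=
  ⟨by rintro _ ⟨v, rfl⟩ g; exact ⟨_, h.2 g v.toAdd⟩⟩

theorem tr2 {v : Fin 2 → K} (hv : v ≠ 0) (w : Fin 2 → K) : w = 0 ∨ ∃ M : SL(2, K), M • v = w := by
  refine or_iff_not_imp_left.2 fun hw => ?_
  obtain ⟨M, rfl⟩ := H12.exists_smul_e1 hv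
  obtain ⟨N, rfl⟩ := H12.exists_smul_e1 hw
  exact ⟨N * M⁻¹, by simp [mul_smul]⟩

theorem NatEmb.le (h : NatEmb π τ) (hs : Function.Surjective π) {N : Subgroup G} (hN : N.Normal)
    {v : Multiplicative (Fin 2 → K)} (hv : v ≠ 1) (hm : τ v ∈ N) : τ.range ≤ N := by
  rintro _ ⟨w, rfl⟩
  rcases tr2 (v := v.toAdd) hv w.toAdd with hw | ⟨M, hM⟩
  · rw [show w = 1 from hw, map_one]; exact one_mem _
  · obtain ⟨g, rfl⟩ := hs M
    have := h.2 g v.toAdd
    rw [hM] at this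
    exact (show τ w = _ from this) ▸ hN.conj_mem _ hm g

theorem NatEmb.min (h : NatEmb π τ) (hs : Function.Surjective π) (N : Subgroup G) (hN : N.Normal)
    (hle : N ≤ τ.range) : N = ⊥ ∨ N = τ.range := by
  refine or_iff_not_imp_left.2 fun hb => ?_
  obtain ⟨⟨a, ha⟩, h1⟩ := ne_bot_iff_exists_ne_one.1 hb
  obtain ⟨v, rfl⟩ := hle ha
  exact le_antisymm hle (h.le hs hN (fun hv => h1 (Subtype.ext (by simp [hv]))) ha)

theorem NatEmb.inj (h : NatEmb π τ) (hs : Function.Surjective π) (hb : τ.range ≠ ⊥) :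
    Function.Injective τ := (injective_iff_map_eq_one τ).2 fun v hv => by
  by_contra h1
  exact hb (le_bot_iff.1 (h.le hs inferInstance h1 hv))

theorem NatEmb.acts (h : NatEmb π τ) (hs : Function.Surjective π) (hi : Function.Injective τ) :
    ActsAsSL2OnSection K ⊤ ⊤ τ.range ⊥ := by
  have := h.normal
  refine ⟨by rw [normalizer_eq_top], bot_le, π.comp (⊤ : Subgroup G).subtype, (MonoidHom.ofInjective hi).symm.toMonoidHom,
    ?_, (MonoidHom.ofInjective hi).symm.surjective, fun u => by simp, fun e u => ?_⟩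
  · exact MonoidHom.range_eq_top.2 fun M => let ⟨g, hg⟩ := hs M; ⟨⟨g, trivial⟩, hg⟩
  · obtain ⟨v, rfl⟩ := (MonoidHom.ofInjective hi).surjective u
    refine ⟨MonoidHom.ofInjective hi (.ofAdd (π e • v.toAdd)), h.2 e v.toAdd, ?_⟩
    simp only [MulEquiv.coe_toMonoidHom, MulEquiv.symm_apply_apply]
    rfl

theorem exists_indep {X : Type*} [Group X] [Finite X] (S : Set (Subgroup X))
    (hS : ∀ V ∈ S, V.Normal ∧ ∀ N : Subgroup X, N.Normal → N ≤ V → N = ⊥ ∨ N = V) :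
    ∃ (n : ℕ) (V : Fin n → Subgroup X), (∀ i, V i ∈ S) ∧ iSupIndep V ∧ (⨆ i, V i) = sSup S := by
  classical
  have ex : ∃ (k : ℕ) (B : Fin k → Subgroup X), (∀ i, B i ∈ S) ∧ ⨆ i, B i = sSup S := by
    obtain ⟨k, ⟨e⟩⟩ := Finite.exists_equiv_fin S
    refine ⟨k, fun i => e.symm i, fun i => (e.symm i).2, ?_⟩
    rw [sSup_eq_iSup', e.symm.iSup_comp (g := fun B : S => (B : Subgroup X))]
  obtain ⟨B, h1, h2⟩ := Nat.find_spec ex
  refine ⟨_, B, h1, fun i => ?_, h2⟩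
  rw [disjoint_iff]
  have hn : ∀ j, (B j).Normal := fun j => (hS _ (h1 j)).1
  have hn' : (⨆ j, ⨆ (_ : j ≠ i), B j).Normal := by
    rw [iSup_subtype']; exact Subgroup.iSup_normal _
  refine ((hS _ (h1 i)).2 _ inferInstance inf_le_left).resolve_right fun he => ?_
  have hle := inf_eq_left.1 he
  have hmin : ∀ m < Nat.find ex, ¬ ∃ B : Fin m → Subgroup X, (∀ i, B i ∈ S) ∧ ⨆ i, B i = sSup S :=
    fun m hm => Nat.find_min ex hm
  clear he hn'
  generalize Nat.find ex = k at *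
  obtain _ | k := k
  · exact i.elim0
  refine hmin k (Nat.lt_succ_self k) ⟨fun j => B (i.succAbove j), fun j => h1 _, ?_⟩
  rw [← h2]
  have h3 : ⨆ j, ⨆ (_ : j ≠ i), B j ≤ ⨆ j, B (i.succAbove j) := iSup₂_le fun j hj => by
    obtain ⟨j, rfl⟩ := Fin.exists_succAbove_eq hj
    exact le_iSup (fun j => B (i.succAbove j)) j
  refine le_antisymm (iSup_le fun j => le_iSup B _) (iSup_le fun j => ?_)
  by_cases hj : j = i
  · exact hj ▸ hle.trans h3
  · exact (le_iSup₂ (f := fun j (_ : j ≠ i) => B j) j hj).trans h3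

variable [Finite G]

/-- Higman's theorem -/
theorem Hy.sum (h : Hy π) : ∃ (n : ℕ) (V : Fin n → Subgroup G),
    (∀ i, ∃ τ, NatEmb π τ ∧ Function.Injective τ ∧ τ.range = V i) ∧ iSupIndep V ∧ ⨆ i, V i = π.ker := by
  obtain ⟨n, V, h1, h2, h3⟩ := exists_indep {V | ∃ τ, NatEmb π τ ∧ Function.Injective τ ∧ τ.range = V}
    (by rintro _ ⟨τ, a, -, rfl⟩; exact ⟨a.normal, a.min h.surj⟩)
  refine ⟨n, V, h1, h2, h3.trans (le_antisymm (sSup_le ?_) fun q hq => ?_)⟩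
  · rintro _ ⟨τ, a, -, rfl⟩; exact a.1
  · obtain ⟨τ, τ', a, b, v, w, rfl⟩ := h.emb.2 q hq
    have key : ∀ τ, NatEmb π τ → τ.range ≤
        sSup {V | ∃ τ, NatEmb π τ ∧ Function.Injective τ ∧ τ.range = V} := fun τ a => by
      by_cases hb : τ.range = ⊥
      · exact hb.le.trans bot_le
      · exact le_sSup ⟨τ, a, a.inj h.surj hb, rfl⟩
    exact mul_mem (key τ a ⟨v, rfl⟩) (key τ' b ⟨w, rfl⟩)

theorem Hy.ea (h : Hy π) : IsMulCommutative π.ker ∧ ∀ q ∈ π.ker, q ^ 2 = 1 :=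
  ⟨⟨⟨fun a b => Subtype.ext (mem_CC.1 (commutator_eq_bot_iff_le_centralizer.1 h.comm b.2) a a.2)⟩⟩,
    fun q hq => (pow_two q).trans (h.emb.1 q hq)⟩

omit [CharP K 2] in
theorem exists_mu (h : 2 < Nat.card K) : ∃ μ : K, μ ≠ 0 ∧ μ ≠ 1 := by
  by_contra! hc
  have : (Set.univ : Set K) ⊆ {0, 1} := fun μ _ => or_iff_not_imp_left.2 (hc μ)
  have := (Set.ncard_le_ncard this).trans (Set.ncard_insert_le ..)
  rw [Set.ncard_univ, Set.ncard_singleton] at this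
  omega

theorem ker_eq {Q : Subgroup G} [Q.Normal] {L : Type*} [Group L] (e : G ⧸ Q ≃* L) :
    (e.toMonoidHom.comp (QuotientGroup.mk' Q)).ker = Q := by
  ext; simp

theorem hy_of {Q : Subgroup G} [Q.Normal] (hQ : IsPGroup 2 Q) (e : G ⧸ Q ≃* SL(2, K))
    (hK : 2 < Nat.card K) {x : G} (hx : orderOf x = 3) (hf : ∀ q ∈ Q, x * q * x⁻¹ = q → q = 1) :
    Hy (e.toMonoidHom.comp (QuotientGroup.mk' Q)) :=
  ⟨e.surjective.comp (QuotientGroup.mk'_surjective Q), (ker_eq e).symm ▸ hQ,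
    ⟨x, hx, (ker_eq e).symm ▸ hf⟩, exists_mu hK⟩

theorem sl_a5 : ∃ (F : Type) (_ : Field F) (_ : Fintype F) (_ : CharP F 2), Fintype.card F = 4 ∧
    Nonempty (alternatingGroup (Fin 5) ≃* SL(2, F)) := by
  let _ := Fintype.ofFinite (GaloisField 2 2)
  have h : Fintype.card (GaloisField 2 2) = 4 := by
    rw [← Nat.card_eq_fintype_card, GaloisField.card 2 2 two_ne_zero]; rfl
  obtain ⟨e⟩ := H18.psl_a5 (Or.inl h)
  obtain ⟨f⟩ := H8.psl_equiv_sl (F := GaloisField 2 2) CharTwo.two_eq_zero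
  exact ⟨_, inferInstance, inferInstance, inferInstance, h, ⟨e.symm.trans f⟩⟩

/-- Higman's theorem for `A₅` -/
theorem ea_a5 {Q : Subgroup G} [Q.Normal] (hQ : IsPGroup 2 Q) (e : G ⧸ Q ≃* alternatingGroup (Fin 5))
    {x : G} (hx : orderOf x = 3) (hf : ∀ q ∈ Q, x * q * x⁻¹ = q → q = 1) :
    IsElementaryAbelian 2 Q := by
  obtain ⟨F, _, _, _, h, ⟨f⟩⟩ := sl_a5
  have := (hy_of hQ (e.trans f) (by rw [Nat.card_eq_fintype_card, h]; decide) hx hf).ea
  rwa [ker_eq] at this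

end H1.Hig
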