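import Cfsg.Agent.H1.CIT15
import Cfsg.Agent.H1.Hig2
import Cfsg.Agent.H26.LL1
import Cfsg.Agent.Lead.Frob
import Cfsg.Agent.H1.ClassNum

/-! Groups whose element orders are `1, …, 5`. -/

set_option autoImplicit false
set_option linter.unusedSectionVars false

namespace H1.CIT
open Subgroup Cfsg H10
open GW (C1 mem_C1)
open H6 (ord2_of ord2_mul_self ord2_ne_one ord2_inv ord2_conj)
open scoped MatrixGroups

variable {G : Type*} [Group G] [Finite G]

theorem el_of_cent {s t : G} (os : orderOf s = 2) (ot : orderOf t = 2) (hne : s ≠ t) (hc : Commute s t)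
    (h4 : Nat.card (C1 s ⊓ C1 t : Subgroup G) ≤ 4) (h8 : 8 ∣ Nat.card G) {k : ℕ}
    (hk : 2 ^ (k + 1) ∣ Nat.card G) : El G (2 ^ k) := by
  obtain ⟨S, hS, hle⟩ := exists_isSylowIn_ge (isPGroup_sup_of_NN (GW.isPGroup_zp2 os)
    (GW.isPGroup_zp2 ot) ((zpowers_le.2 ((CC_zpowers t).ge (mem_C1.2 hc.eq))).trans (CC_le_NN _))) le_top
  have ms := hle (mem_sup_left (mem_zpowers s))
  have mt := hle (mem_sup_right (mem_zpowers t))
  have cs : s ∈ C1 s ⊓ C1 t := ⟨mem_C1.2 rfl, mem_C1.2 hc.eq⟩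
  have ct : t ∈ C1 s ⊓ C1 t := ⟨mem_C1.2 hc.symm.eq, mem_C1.2 rfl⟩
  obtain ⟨z, hz, oz⟩ := exists_orderOf_eq_of_ne_bot (hS.isPGroup.to_le inf_le_left)
    (center_ne_bot hS.isPGroup fun e => ord2_ne_one os (e.le ms))
  obtain ⟨u, hu, cu, ou, h1⟩ : ∃ u ∈ S, u ∈ C1 s ⊓ C1 t ∧ orderOf u = 2 ∧ u ≠ z := by
    by_cases e : s = z
    exacts [⟨t, mt, ct, ot, e ▸ hne.symm⟩, ⟨s, ms, cs, os, e⟩]
  have c4 : Nat.card (C1 (⟨u, hu⟩ : S)) ≤ 4 := by
    rw [← card_map_subtype]
    refine (card_le_of_le ?_).trans h4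
    rintro _ ⟨x, hx, rfl⟩
    have e : C1 s ⊓ C1 t ⊓ C1 x = C1 s ⊓ C1 t := eq_of_le_of_card_ge inf_le_left (h4.trans
      (H26.card_four_le ⟨cu, mem_C1.2 (congrArg Subtype.val (mem_C1.1 hx)).symm⟩
        ⟨⟨mem_C1.2 (mem_CC.1 hz.2 s ms).symm, mem_C1.2 (mem_CC.1 hz.2 t mt).symm⟩,
          mem_C1.2 (mem_CC.1 hz.2 x x.2).symm⟩ (ord2_ne_one ou) (ord2_ne_one oz) h1 (ord2_mul_self ou)))
    exact ⟨mem_C1.2 (mem_C1.1 (e.ge cs).2).symm, mem_C1.2 (mem_C1.1 (e.ge ct).2).symm⟩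
  have hd : ∀ j, 2 ^ j ∣ Nat.card G → 2 ^ j ∣ Nat.card S := fun j e => by
    rw [hS.card_eq_pow, card_top]
    exact pow_dvd_pow 2 ((Nat.prime_two.pow_dvd_iff_le_factorization Nat.card_pos.ne').1 e)
  rcases H6.taussky_aux _ S rfl hS.isPGroup ((H6.index_commutator_le_card_cent _).trans c4) with
    e | ⟨a, e⟩
  · rw [show C1 (⟨u, hu⟩ : S) = ⊤ from eq_top_iff.2 fun x _ => mem_C1.2 (e.1.1 _ _), card_top] at c4
    exact absurd (Nat.le_of_dvd Nat.card_pos (hd 3 h8)) (by omega)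
  · have := hd _ hk
    rw [← (zpowers a).card_mul_index, e, pow_succ, Nat.card_zpowers] at this
    exact El.dvd ⟨a, orderOf_coe a⟩ (Nat.dvd_of_mul_dvd_mul_right two_pos this)

theorem Cit.mod_three (hG : Cit G) {Q : Subgroup G} (hQ : IsPGroup 2 Q) {y : G} (oy : orderOf y = 3)
    (hn : y ∈ NN(Q)) : Nat.card Q % 3 = 1 := by
  have h := FT.sreg_dvd (K := Q) (H := zpowers y) (zpowers_le.2 hn)
    (hG.fpf hQ (K := zpowers y) (by rw [Nat.card_zpowers, oy]; decide))
  rw [Nat.card_zpowers, oy] at h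
  have : 0 < Nat.card Q := Nat.card_pos
  omega

theorem a6_data : ∃ s y : alternatingGroup (Fin 6), orderOf s = 2 ∧ orderOf y = 3 ∧ s ≠ y * s * y⁻¹ ∧
    Commute s (y * s * y⁻¹) ∧ y * (y * s * y⁻¹) * y⁻¹ = s * (y * s * y⁻¹) :=
  ⟨⟨Equiv.swap 0 1 * Equiv.swap 2 3, Equiv.Perm.mem_alternatingGroup.2 (by decide)⟩,
    ⟨Equiv.swap 0 1 * Equiv.swap 1 2, Equiv.Perm.mem_alternatingGroup.2 (by decide)⟩,
    orderOf_eq_prime (by decide) (by decide), orderOf_eq_prime (by decide) (by decide), by decide,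
    by unfold Commute SemiconjBy; decide, by decide⟩

theorem MT.el_eight (h : MT G) (hG : Cit G) : El G 8 := by
  have hc := h.card
  obtain ⟨N, _, h1, F, i1, i2, h2, ⟨f⟩⟩ := h
  obtain ⟨g⟩ := H18.psl_a6 h2
  let j := N.subtype.comp (f.trans g).symm.toMonoidHom
  have hj : Function.Injective j := N.subtype_injective.comp (f.trans g).symm.injective
  obtain ⟨s, y, os, oy, hne, hcm, e⟩ := a6_data
  have yN : j y ∈ N := Subtype.property _
  rw [← orderOf_injective j hj] at os oy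
  replace hne := hj.ne hne
  replace hcm := hcm.map j
  replace e := congrArg j e
  simp only [map_mul, map_inv] at hne hcm e
  generalize j s = s, j y = y at *
  set t := y * s * y⁻¹ with ht
  have hn : y ∈ NN(C1 s ⊓ C1 t) := mem_NN_of_conj_mem fun x hx => by
    have a : Commute (y * x * y⁻¹) t := (show Commute x s from mem_C1.1 hx.1).map (MulAut.conj y)
    have b : Commute (y * x * y⁻¹) (s * t) :=
      e ▸ (show Commute x t from mem_C1.1 hx.2).map (MulAut.conj y)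
    exact ⟨mem_C1.2 (show Commute _ _ by simpa using b.mul_right a.inv_right), mem_C1.2 a⟩
  have hp : IsPGroup 2 (C1 s ⊓ C1 t : Subgroup G) := (hG.pg2 os).to_le inf_le_left
  have m1 := hG.mod_three hp oy hn
  have m2 := hG.mod_three (hp.to_le (inf_le_left (b := N))) oy (mem_NN_inf hn (le_NN_of_normal _ _ yN))
  have cN : Nat.card N = 360 := by have := N.card_mul_index; rw [h1] at this; omega
  refine el_of_cent (k := 3) os (ord2_conj os y) hne hcm ?_ (by rw [hc]; decide) (by rw [hc]; decide)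
  generalize C1 s ⊓ C1 t = C at *
  have d1 := h1 ▸ inf_comm N C ▸ card_le_index_mul_card_inf N C
  obtain ⟨a, ha⟩ := IsPGroup.iff_card.1 hp
  obtain ⟨b, hb⟩ := IsPGroup.iff_card.1 (hp.to_le (inf_le_left (b := N)))
  have d2 : 2 ^ b ∣ 360 := hb ▸ cN ▸ card_dvd_of_le inf_le_right
  rw [ha, hb, ← pow_succ'] at d1
  have d3 := (Nat.pow_le_pow_iff_right one_lt_two).1 d1
  have d4 : b < 4 := by
    by_contra hh
    exact absurd ((pow_dvd_pow 2 (not_lt.1 hh)).trans d2) (by decide)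
  rw [ha] at m1 ⊢
  rw [hb] at m2
  have : a ≤ 4 := by omega
  interval_cases b <;> interval_cases a <;> omega

theorem Cit.five (h : ∀ n, El G n ↔ 1 ≤ n ∧ n ≤ 5) : Cit G ∧
    (Nonempty (G ≃* alternatingGroup (Fin 6)) ∨ Nonempty (G ⧸ pCore 2 G ≃* alternatingGroup (Fin 5))) := by
  have he : Eppo G := fun n p hn hp hd => by
    obtain ⟨h1, h5⟩ := (h n).1 hn
    have := Nat.le_of_dvd h1 hd
    have := hp.two_le
    have : p ≤ 5 := by omega
    interval_cases n <;> interval_cases p <;> first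
      | omega | exact absurd hp (by decide) | exact ⟨1, rfl⟩ | exact ⟨2, rfl⟩
  have hG := he.cit
  have hns : ¬ Group.IsSolvable G := fun hs => by
    rcases three_primes hs Nat.prime_two Nat.prime_three Nat.prime_five (by decide) (by decide) (by decide)
      ((h 2).2 (by decide)).card ((h 3).2 (by decide)).card ((h 5).2 (by decide)).card with e | e | e <;>
    exact absurd ((h _).1 e) (by decide)
  have hs := QuotientGroup.mk'_surjective (pCore 2 G)
  have no : ∀ n, 5 < n → ¬ El (G ⧸ pCore 2 G) n := fun n hn e => by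
    have := (h n).1 (e.lift hs); omega
  have np : ∀ {p}, p.Prime → 5 < p → ¬ p ∣ Nat.card (G ⧸ pCore 2 G) := fun hp h5 e =>
    no _ h5 (el_of_prime hp e)
  refine ⟨hG, ?_⟩
  rcases hG.struct' hns with hK | hK
  swap
  · exact absurd (hK.el_eight (hG.quot hs)) (no 8 (by decide))
  rcases hK.eppo (he.quot hs) with ⟨F, i1, i2, hF, ⟨f⟩⟩ | ⟨⟨f⟩⟩ | ⟨F, i1, i2, ⟨hF, ⟨f⟩⟩ | ⟨hF, ⟨f⟩⟩⟩
  · have c := Nat.card_congr f.toEquiv
    simp only [Finset.mem_insert, Finset.mem_singleton] at hF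
    rcases hF with hF | hF | hF | hF | hF
    · exact .inr ((H18.psl_a5 (.inl hF)).map f.trans)
    · exact absurd (by rw [c, card_psl_of (n := 168) hF (by norm_num)]; decide) (np (p := 7) (by decide) (by decide))
    · exact absurd (by rw [c, card_psl_of (n := 504) hF (by norm_num)]; decide) (np (p := 7) (by decide) (by decide))
    · by_cases h0 : pCore 2 G = ⊥
      · obtain ⟨g⟩ := equiv_of_bot h0
        exact .inl ((H18.psl_a6 hF).map (g.trans f).trans)
      · exact absurd (hG.el_nine h0 (by rw [c, card_psl_of (n := 360) hF (by norm_num)]; decide))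
          (no 9 (by decide))
    · exact absurd (by rw [c, card_psl_of (n := 2448) hF (by norm_num)]; decide)
        (np (p := 17) (by decide) (by decide))
  · exact absurd ((El.congr f).2 (el_psl34.2 (by simp))) (no 7 (by decide))
  · exact absurd ((el_sz ((H26.Sz.lieModel (m := 1) le_rfl hF).ofEquiv f) hF).2 (by simp)) (no 7 (by decide))
  · exact absurd ((el_sz ((H26.Sz.lieModel (m := 2) one_le_two hF).ofEquiv f) hF).2 (by simp))
      (no 31 (by decide))

theorem Cit.fpf3 (hG : Cit G) {Q : Subgroup G} (hQ : IsPGroup 2 Q) {x : G} (hx : orderOf x = 3) :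
    ∀ q ∈ Q, x * q * x⁻¹ = q → q = 1 := fun q hq e => by
  by_contra h1
  rw [hG.two hQ hq h1 (x := x) (by rw [hx]; decide) (mul_inv_eq_iff_eq_mul.1 e).symm, orderOf_one] at hx
  omega

end H1.CIT
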