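import Cfsg.Prelude.Def_LieExceptional
import Cfsg.Prelude.Def_OddOrderLocal
import Cfsg.Agent.H10.PMin3
import Cfsg.Agent.H1.Coprime
import Cfsg.Agent.H1.HallTop
import Cfsg.Agent.H2.FrobCompl
import Cfsg.Agent.S0069
import Cfsg.Agent.S0039

/-! Elementary theory of CN-groups. -/

set_option autoImplicit false
set_option linter.unusedSectionVars false

namespace H1.CN
open Subgroup Cfsg H10

variable {G : Type*} [Group G] [Finite G]

local notation "C₁" x => centralizer ({x} : Set _)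

omit [Finite G] in
theorem mC {x y : G} : y ∈ (C₁ x) ↔ Commute y x := mem_centralizer_singleton_iff

theorem le_of_pg {K H : Subgroup G}
    (h : ∀ (p : ℕ) [Fact p.Prime] (P : Subgroup G), IsPGroup p P → P ≠ ⊥ → P ≤ K → P ≤ H) : K ≤ H :=
  le_of_forall_sylow fun q _ hq =>
    let ⟨T, hT⟩ := exists_isSylowIn q K; ⟨T, hT, h q T hT.isPGroup (hT.ne_bot hq) hT.le⟩

theorem exists_z {P : Subgroup G} (hP : Group.IsNilpotent P) (h0 : P ≠ ⊥) :
    ∃ z ∈ P, z ≠ 1 ∧ P ≤ (C₁ z) := by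
  obtain ⟨⟨z, hz⟩, h1⟩ := ne_bot_iff_exists_ne_one.1
    (inf_centralizer_ne_bot hP le_rfl le_normalizer h0)
  exact ⟨z, hz.1, fun e => h1 (Subtype.ext e), fun a ha => mC.2 (mem_CC.1 hz.2 a ha)⟩

theorem cop_pg {p q : ℕ} [Fact p.Prime] [Fact q.Prime] (h : p ≠ q) {P Q : Subgroup G} (hP : IsPGroup p P)
    (hQ : IsPGroup q Q) : (Nat.card P).Coprime (Nat.card Q) := IsPGroup.coprime_card_of_ne p q h P Q hP hQ

theorem exists_prime_pow {x : G} (h : x ≠ 1) : ∃ (p : ℕ) (_ : Fact p.Prime) (k : ℕ), orderOf (x ^ k) = p := by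
  obtain ⟨p, hp, hd⟩ := Nat.exists_prime_and_dvd (mt orderOf_eq_one_iff.1 h)
  exact ⟨p, ⟨hp⟩, _, orderOf_pow_orderOf_div (orderOf_pos x).ne' hd⟩

theorem C_le_pow (x : G) (k : ℕ) : (C₁ x) ≤ (C₁ (x ^ k)) := fun _ h => mC.2 ((mC.1 h).pow_right k)

theorem le_syl {p : ℕ} [Fact p.Prime] {H P S : Subgroup G} (hH : Group.IsNilpotent H) (hP : IsSylowIn p P H)
    (hS : IsPGroup p S) (hle : S ≤ H) : S ≤ P := by
  refine hP.le_of_le_NN hS hle (hle.trans ?_)
  rw [← hP.map_toSylow]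
  exact le_normalizer_map_subtype_iff.2
    (Sylow.normal_of_normalizerCondition normalizerCondition_of_isNilpotent _)

section
variable (h : IsCNGroup G)
include h

theorem nil {K : Subgroup G} {z : G} (h1 : z ≠ 1) (hK : K ≤ (C₁ z)) : Group.IsNilpotent K :=
  isNilpotent_of_le (h z h1) hK

theorem key {P Q : Subgroup G} (hP : Group.IsNilpotent P) (hQ : Group.IsNilpotent Q)
    (hc : (Nat.card P).Coprime (Nat.card Q)) {x y : G} (hx : x ∈ P) (hy : y ∈ Q) (x1 : x ≠ 1)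
    (y1 : y ≠ 1) (hxy : Commute x y) : P ≤ CC(Q) := by
  have cm : ∀ {a b c : G}, c ≠ 1 → a ∈ P → b ∈ Q → Commute a c → Commute b c → Commute a b :=
    fun {a b c} c1 ha hb h1 h2 => (mem_CC.1 (le_centralizer_of_coprime_of_isNilpotent (h c c1)
      (zpowers_le.2 (mC.2 h1)) (zpowers_le.2 (mC.2 h2)) ((hc.coprime_dvd_left (card_dvd_of_le
        (zpowers_le.2 ha))).coprime_dvd_right (card_dvd_of_le (zpowers_le.2 hb))) (mem_zpowers a)) b
        (mem_zpowers b)).symm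
  obtain ⟨z, hz, z1, Pz⟩ := exists_z hP fun e => x1 (e.le hx)
  obtain ⟨w, hw, w1, Qw⟩ := exists_z hQ fun e => y1 (e.le hy)
  have zw := cm y1 hz hw (cm x1 hz hy (mC.1 (Pz hx)).symm hxy.symm) (mC.1 (Qw hy)).symm
  exact fun a ha => mem_CC.2 fun b hb =>
    (cm w1 ha hb (cm z1 ha hw (mC.1 (Pz ha)) zw.symm) (mC.1 (Qw hb))).symm

variable {p q : ℕ} [Fact p.Prime] [Fact q.Prime]

theorem keyp (hne : p ≠ q) {P Q : Subgroup G} (hP : IsPGroup p P) (hQ : IsPGroup q Q) {x y : G}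
    (hx : x ∈ P) (hy : y ∈ Q) (x1 : x ≠ 1) (y1 : y ≠ 1) (hxy : Commute x y) : P ≤ CC(Q) :=
  key h hP.isNilpotent hQ.isNilpotent (cop_pg hne hP hQ) hx hy x1 y1 hxy

/-- a `q`-element commuting with a `p`-element, when `O_p ≠ 1` -/
theorem pcore (hne : p ≠ q) {N : Subgroup G} [N.Normal] (hN : IsPGroup p N) (h0 : N ≠ ⊥) {x y : G}
    (hx : IsPGroup p (zpowers x)) (hy : IsPGroup q (zpowers y)) (x1 : x ≠ 1) (y1 : y ≠ 1)
    (hxy : Commute x y) : IsSylowIn q (pCore q G) ⊤ ∧ pCore q G ≠ ⊥ ∧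
      ∀ P : Subgroup G, IsPGroup p P → P ≤ CC(pCore q G) := by
  obtain ⟨P, hP, xP⟩ := exists_isSylowIn_ge hx le_top
  obtain ⟨Q, hQ, yQ⟩ := exists_isSylowIn_ge hy le_top
  have h1 := keyp h hne hP.isPGroup hQ.isPGroup (xP (mem_zpowers x)) (yQ (mem_zpowers y)) x1 y1 hxy
  obtain ⟨z, hz, z1, -⟩ := exists_z hN.isNilpotent h0
  have h2 : Q ≤ pCore q G := le_pCore_of_le_fitting hQ.isPGroup ((le_CC_symm ((hP.le_of_NN hN le_top
    (le_NN_of_normal _ _)).trans h1)).trans (le_fitting (nil h z1 fun a ha => mC.2 (mem_CC.1 ha z hz).symm)))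
  obtain rfl := hQ.eq_of_le isPGroup_pCore' h2 le_top
  refine ⟨hQ, fun e => y1 (e.le (yQ (mem_zpowers y))), fun R hR => ?_⟩
  obtain ⟨g, -, hg⟩ := hP.exists_le_cj hR le_top
  exact hg.trans (cj_le_of_mem_NN (le_NN_of_normal _ _ (mem_top g)) h1)

theorem quot_p {K : Type*} [Group K] {f : G →* K} (hf : Function.Surjective f) (hk : IsPGroup p f.ker) :
    IsCNGroup K := fun g g1 => by
  have := Finite.of_surjective f hf
  obtain ⟨q, _, k, hq⟩ := exists_prime_pow g1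
  refine isNilpotent_of_le ?_ (C_le_pow g k)
  generalize g ^ k = g at hq
  replace g1 := ne_one_of_orderOf_eq hq
  have lift : ∀ (r : ℕ) [Fact r.Prime] (y : K), p ≠ r → orderOf y = r → ∃ x : G, f x = y ∧
      IsPGroup r (zpowers x) ∧ x ≠ 1 ∧ (C₁ x).map f = C₁ y := fun r _ y hr hy => by
    obtain ⟨R, hR⟩ := exists_isSylowIn r ((zpowers y).comap f)
    have e := hR.map f
    rw [map_comap_eq_self_of_surjective hf] at e
    obtain ⟨x, hx, rfl⟩ := (e.eq_of_le (isPGroup_zpowers_of_orderOf_eq hy) e.le le_rfl).le (mem_zpowers y)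
    have hx' := hR.isPGroup.to_le (zpowers_le.2 hx)
    refine ⟨x, rfl, hx', fun e => ne_one_of_orderOf_eq hy (by simp [e]), ?_⟩
    rw [← CC_zpowers, ← CC_zpowers, ← MonoidHom.map_zpowers]
    exact map_centralizer_of_surjective hf (cop_pg hr.symm hx' hk) (.inl (have := hx'.isNilpotent; inferInstance))
  by_cases hpq : p ≠ q
  · obtain ⟨x, -, -, x1, e⟩ := lift q g hpq hq
    exact e ▸ isNilpotent_map (h x x1) f
  obtain rfl := not_not.1 hpq
  by_cases h0 : f.ker = ⊥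
  · obtain ⟨x, rfl⟩ := hf g
    refine isNilpotent_of_le (isNilpotent_map (h x fun e => g1 (by simp [e])) f) fun y hy => ?_
    obtain ⟨y, rfl⟩ := hf y
    exact ⟨y, mC.2 ((f.ker_eq_bot_iff.1 h0) (by simpa using (mC.1 hy).eq)), rfl⟩
  have core : ∀ (r : ℕ) [Fact r.Prime], p ≠ r → r ∣ Nat.card (C₁ g) → IsSylowIn r (pCore r G) ⊤ ∧
      pCore r G ≠ ⊥ ∧ ∀ P : Subgroup G, IsPGroup p P → P ≤ CC(pCore r G) := fun r _ hr hd => by
    obtain ⟨y, hy, oy⟩ := exists_orderOf_eq_of_dvd hd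
    obtain ⟨y, rfl, py, y1, e⟩ := lift r y hr oy
    obtain ⟨x, hx, rfl⟩ := e.ge (mC.2 (mC.1 hy).symm)
    exact pcore h hr hk h0 (((isPGroup_zpowers_of_orderOf_eq hq).comap_of_ker_isPGroup f hk).to_le
      (zpowers_le.2 (mem_zpowers _))) py (fun e => g1 (by simp [e])) y1 (mC.1 hx)
  by_cases hp : IsPGroup p (C₁ g)
  · exact hp.isNilpotent
  obtain ⟨r, hr, hd, hne⟩ : ∃ r, r.Prime ∧ r ∣ Nat.card (C₁ g) ∧ p ≠ r := by
    by_contra! hc
    exact hp (IsPGroup.iff_card.2 ⟨_, Nat.eq_prime_pow_of_unique_prime_dvd Nat.card_pos.ne'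
      fun hr hd => (hc _ hr hd).symm⟩)
  have := Fact.mk hr
  obtain ⟨h1, h2, h3⟩ := core r hne hd
  obtain ⟨z, hz, z1, hzc⟩ := exists_z (isPGroup_pCore' (p := r)).isNilpotent h2
  rw [← map_comap_eq_self_of_surjective hf (C₁ g)]
  refine isNilpotent_map (nil h z1 (le_of_pg fun s _ S hS S0 hle a ha => ?_)) f
  by_cases e : p = s
  · subst e; exact mC.2 (mem_CC.1 (h3 S hS ha) z hz).symm
  have hs : s ∣ Nat.card (C₁ g) := dvd_card_of_le (hS.map f) (fun e' => S0 (le_bot_iff.1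
    ((le_inf le_rfl ((Subgroup.map_eq_bot_iff S).1 e')).trans
      (inf_eq_bot_of_coprime' (cop_pg (Ne.symm e) hS hk)).le))) (map_le_iff_le_comap.2 hle)
  have ha' := (core s e hs).1.le_of_le_NN hS le_top (le_NN_of_normal _ _) ha
  by_cases e' : s = r
  · subst e'; exact hzc ha'
  · exact mC.2 (commute_of_normal_of_disjoint _ _ inferInstance inferInstance (disjoint_iff.2
      (inf_eq_bot_of_coprime' (cop_pg e' isPGroup_pCore' isPGroup_pCore'))) _ _ ha' hz)

theorem inj {K : Type*} [Group K] {f : K →* G} (hf : Function.Injective f) : IsCNGroup K := fun g g1 =>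
  have := nil h (K := (C₁ g).map f) (z := f g) (by simpa using hf.ne g1)
    (by rintro _ ⟨x, hx, rfl⟩; exact mC.2 ((mC.1 hx).map f))
  Group.nilpotent_of_mulEquiv ((C₁ g).equivMapOfInjective f hf).symm

end

theorem quot_aux.{u} (n : ℕ) : ∀ (G : Type u) [Group G] [Finite G], Nat.card G = n → IsCNGroup G →
    ∀ (N : Subgroup G) [N.Normal], Group.IsSolvable N → IsCNGroup (G ⧸ N) := by
  induction n using Nat.strong_induction_on with | _ n ih
  intro G _ _ hn h N _ hN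
  by_cases h0 : N = ⊥
  · subst h0; exact inj h (f := QuotientGroup.quotientBot.toMonoidHom) QuotientGroup.quotientBot.injective
  obtain ⟨M, p, _, M0, hle, hp, -, -, hM, -⟩ := exists_minimal_normal_elementary N hN h0
  have := Fact.mk hp
  have := ih _ (hn ▸ card_quotient_lt M0) (G ⧸ M) rfl (quot_p h (QuotientGroup.mk'_surjective M)
    ((QuotientGroup.ker_mk' M).symm ▸ hM)) (N.map (QuotientGroup.mk' M)) (isSolvable_map hN _)
  exact inj this (f := (QuotientGroup.quotientQuotientEquivQuotient M N hle).symm.toMonoidHom)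
    (MulEquiv.injective _)

variable (h : IsCNGroup G)
include h

section maxnil
variable {H : Subgroup G} (hH : Group.IsNilpotent H)
  (hmax : ∀ L : Subgroup G, Group.IsNilpotent L → H ≤ L → L = H)
include hH hmax

theorem mx_cent {p : ℕ} [Fact p.Prime] {P : Subgroup G} (hP : IsSylowIn p P H) (h0 : P ≠ ⊥) :
    IsSylowIn p P ⊤ ∧ ∃ z ∈ P, z ≠ 1 ∧ (C₁ z) = H := by
  obtain ⟨R, hR, hPR⟩ := exists_isSylowIn_ge hP.isPGroup le_top
  obtain ⟨z, hz, z1, hzc⟩ := exists_z hR.isPGroup.isNilpotent fun e => h0 (le_bot_iff.1 (hPR.trans e.le))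
  have e : (C₁ z) = H := hmax _ (h z z1) (le_of_pg fun s _ S hS S0 hle a ha => by
    by_cases e : p = s
    · subst e; exact hzc (hPR (le_syl hH hP hS hle ha))
    obtain ⟨x, hx, ox⟩ := exists_orderOf_eq_of_ne_bot hP.isPGroup h0
    obtain ⟨y, hy, oy⟩ := exists_orderOf_eq_of_ne_bot hS S0
    exact mC.2 (mem_CC.1 (keyp h e hR.isPGroup hS (hPR hx) hy (ne_one_of_orderOf_eq ox)
      (ne_one_of_orderOf_eq oy) (mem_CC.1 (le_centralizer_of_coprime_of_isNilpotent hH hle hP.le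
      (cop_pg (Ne.symm e) hS hP.isPGroup) hy) x hx) hz) a ha))
  obtain rfl := hP.eq_of_le hR.isPGroup hPR (hzc.trans e.le)
  exact ⟨hR, z, hz, z1, e⟩

theorem mx_hall : (Nat.card H).Coprime H.index := by
  refine Nat.coprime_of_dvd fun p hp h1 h2 => ?_
  have := Fact.mk hp
  obtain ⟨P, hP⟩ := exists_isSylowIn p H
  refine (mx_cent h hH hmax hP (hP.ne_bot h1)).1.not_dvd_relIndex ?_
  rw [relIndex_top_right]
  exact h2.trans (index_dvd_of_le hP.le)

theorem mx_ti (hp : ¬ IsPrimePow (Nat.card H)) {g : G} (hg : H ⊓ cj g H ≠ ⊥) : cj g H = H := by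
  obtain ⟨p, pp, hd⟩ := exists_prime_dvd_card hg
  have := Fact.mk pp
  obtain ⟨x, hx, ox⟩ := exists_orderOf_eq_of_dvd hd
  obtain ⟨q, hq, hd', hne⟩ : ∃ r, r.Prime ∧ r ∣ Nat.card H ∧ p ≠ r := by
    by_contra! hc
    have e := Nat.eq_prime_pow_of_unique_prime_dvd (p := p) Nat.card_pos.ne' fun hr hd => (hc _ hr hd).symm
    refine hp ((isPrimePow_nat_iff _).2 ⟨p, _, pp, Nat.pos_of_ne_zero fun e' => ?_, e.symm⟩)
    rw [e', pow_zero, card_eq_one] at e
    exact hg (by simp [e])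
  have := Fact.mk hq
  obtain ⟨Q, hQ⟩ := exists_isSylowIn q H
  obtain ⟨h1, z, hz, z1, e⟩ := mx_cent h hH hmax hQ (hQ.ne_bot hd')
  have px := isPGroup_zpowers_of_orderOf_eq ox
  have hH' : Group.IsNilpotent (cj g H) := isNilpotent_map hH _
  have cx : ∀ {K R : Subgroup G}, Group.IsNilpotent K → x ∈ K → IsSylowIn q R K → R ≤ (C₁ x) :=
    fun hK hx hR => CC_zpowers x ▸ le_centralizer_of_coprime_of_isNilpotent hK hR.le (zpowers_le.2 hx)
      (cop_pg hne.symm hR.isPGroup px)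
  have e1 : Q ≤ cj g Q := le_syl (h x (ne_one_of_orderOf_eq ox)) ((h1.cj_top g).of_le
    (cx hH' hx.2 (hQ.cj g)) le_top) hQ.isPGroup (cx hH hx.1 hQ)
  refine eq_of_le_of_card_ge (LE.le.trans (le_of_pg fun s _ S hS S0 hle a ha => ?_) e.le) (card_cj g H).ge
  by_cases e' : q = s
  · subst e'
    exact e.ge (hQ.le ((h1.eq_of_le (hQ.cj g).isPGroup e1 le_top).le (le_syl hH' (hQ.cj g) hS hle ha)))
  · exact mC.2 (mem_CC.1 (le_centralizer_of_coprime_of_isNilpotent hH' hle (hQ.cj g).le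
      (cop_pg (Ne.symm e') hS (hQ.cj g).isPGroup) ha) z (e1 hz)).symm

theorem mx_cc (hT : ∀ g, H ⊓ cj g H ≠ ⊥ → cj g H = H) {x : G} (hx : x ∈ H) (x1 : x ≠ 1) : (C₁ x) ≤ H := by
  obtain ⟨p, _, k, ox⟩ := exists_prime_pow x1
  refine (C_le_pow x k).trans ?_
  replace hx := pow_mem hx k
  generalize x ^ k = x at hx ox
  replace x1 := ne_one_of_orderOf_eq ox
  have hn : (C₁ x) ≤ NN(H) := fun y hy => mem_NN.2 (hT y fun e => x1 (e.le ⟨hx, by
    rw [← mul_inv_eq_iff_eq_mul.2 (mC.1 hy).eq]; exact conj_mem_cj hx⟩))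
  refine le_of_pg fun s _ S hS S0 hle => ?_
  by_cases hs : s ∣ Nat.card H
  · obtain ⟨T, hT⟩ := exists_isSylowIn s H
    refine ((mx_cent h hH hmax hT (hT.ne_bot hs)).1.le_of_le_NN hS le_top fun a ha => ?_).trans hT.le
    have := hT.cj_of_mem_NN (hn (hle ha))
    exact mem_NN_of_cj_le (le_syl hH hT this.isPGroup this.le)
  obtain ⟨P, hP, xP⟩ := exists_isSylowIn_ge (isPGroup_zpowers_of_orderOf_eq ox) (zpowers_le.2 hx)
  obtain ⟨-, z, hz, -, e⟩ := mx_cent h hH hmax hP fun e => x1 (e.le (xP (mem_zpowers x)))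
  obtain ⟨y, hy, oy⟩ := exists_orderOf_eq_of_ne_bot hS S0
  have hne : p ≠ s := by rintro rfl; exact hs (ox ▸ Subgroup.orderOf_dvd_natCard H hx)
  exact e ▸ fun a ha => mC.2 (mem_CC.1 (keyp h hne hP.isPGroup hS (xP (mem_zpowers x)) hy x1
    (ne_one_of_orderOf_eq oy) (mC.1 (hle hy)).symm hz) a ha)

end maxnil

omit h in
theorem fh_spec : Group.IsNilpotent (fittingHall G) ∧ (Nat.card (fittingHall G)).Coprime (fittingHall G).index := by
  refine sSup_normal_induction (fun N => Group.IsNilpotent N ∧ (Nat.card N).Coprime N.index)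
    ⟨inferInstance, by simp⟩ (fun A B _ _ hA hB => ⟨isNilpotent_sup_normal hA.1 hB.1, ?_⟩) _ fun N hN => hN
  exact (Nat.Coprime.mul_left (hA.2.coprime_dvd_right (index_dvd_of_le le_sup_left))
    (hB.2.coprime_dvd_right (index_dvd_of_le le_sup_right))).coprime_dvd_left (card_sup_dvd_normal A B)

omit h in
theorem le_fh {q : ℕ} [Fact q.Prime] {Q : Subgroup G} [hn : Q.Normal] (hQ : IsSylowIn q Q ⊤) : Q ≤ fittingHall G := by
  refine le_sSup ⟨hn, hQ.isPGroup.isNilpotent, ?_⟩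
  rw [hQ.card_eq_pow]
  exact ((Nat.Prime.coprime_iff_not_dvd Fact.out).2 (relIndex_top_right Q ▸ hQ.not_dvd_relIndex)).pow_left _

theorem nil_fpf {K E : Subgroup G} [K.Normal] (hK : K ≠ ⊥) (hf : ∀ e ∈ E, e ≠ 1 → K ⊓ (C₁ e) = ⊥) :
    Group.IsNilpotent E := by
  by_cases h0 : E = ⊥
  · subst h0; infer_instance
  have hd : K ⊓ E = ⊥ := eq_bot_iff.2 fun a ha => by_contra fun a1 => a1 ((hf a ha.2 a1).le ⟨ha.1, mC.2 rfl⟩)
  have := Cfsg.Agent.S0069.result (K.subgroupOf (K ⊔ E)) (E.subgroupOf (K ⊔ E))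
    (isComplement'_of_inf_sup (by rw [subgroupOf, subgroupOf, ← comap_inf, hd, ← subgroupOf, bot_subgroupOf])
      (by rw [← subgroupOf_sup le_sup_left le_sup_right, subgroupOf_self]))
    (fun e => hK ((subgroupOf_eq_bot.1 e).eq_bot_of_le le_sup_left))
    (fun e => h0 ((subgroupOf_eq_bot.1 e).eq_bot_of_le le_sup_right))
    fun a ha a1 => eq_bot_iff.2 fun b hb => Subtype.ext ((hf a ha fun e => a1 (Subtype.ext e)).le
      ⟨hb.1, mC.2 (congrArg Subtype.val (mC.1 hb.2).eq)⟩)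
  obtain ⟨⟨z, hz⟩, z1⟩ := ne_bot_iff_exists_ne_one.1 this
  refine nil h (z := z) (fun e => z1 (Subtype.ext (Subtype.ext (Subtype.ext e)))) fun a ha => mC.2 ?_
  exact congrArg (fun x : E.subgroupOf (K ⊔ E) => (x : G)) (mem_center_iff.1 hz ⟨⟨a, mem_sup_right ha⟩, ha⟩)

theorem frob (hnn : ¬ Group.IsNilpotent G) (h0 : fittingHall G ≠ ⊥) : fittingHall G ≠ ⊤ ∧ ∃ E : Subgroup G,
    IsComplement' (fittingHall G) E ∧ IsFrobeniusComplement E ∧
      (∀ e ∈ E, e ≠ 1 → fittingHall G ⊓ (C₁ e) = ⊥) ∧ Group.IsNilpotent E := by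
  have ht : fittingHall G ≠ ⊤ := fun e => hnn (fitting_eq_top_iff.1 (eq_top_iff.2 (e ▸ le_fitting fh_spec.1)))
  obtain ⟨E, hE⟩ := exists_right_complement'_of_coprime (fh_spec (G := G)).2
  have hc : (Nat.card (fittingHall G)).Coprime (Nat.card E) := hE.symm.index_eq_card ▸ fh_spec.2
  have hf : ∀ e ∈ E, e ≠ 1 → fittingHall G ⊓ (C₁ e) = ⊥ := fun y hy y1 => eq_bot_iff.2 fun x hx => by
    by_contra x1
    obtain ⟨p, _, k, ox⟩ := exists_prime_pow x1
    obtain ⟨q, _, l, oy⟩ := exists_prime_pow y1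
    have dp := ox ▸ Subgroup.orderOf_dvd_natCard _ (pow_mem hx.1 k)
    have dq := oy ▸ Subgroup.orderOf_dvd_natCard _ (pow_mem hy l)
    have nq : ¬ q ∣ Nat.card (fittingHall G) := fun e =>
      (Nat.Prime.one_lt Fact.out).ne' (Nat.eq_one_of_dvd_coprimes hc e dq)
    obtain ⟨P, hP⟩ := exists_isSylowIn p (fittingHall G)
    have : P.Normal := ⟨fun a ha g => by
      have := hP.cj_of_mem_NN (le_NN_of_normal ⊤ _ (mem_top g))
      exact le_syl fh_spec.1 hP this.isPGroup this.le (conj_mem_cj ha)⟩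
    obtain ⟨h1, h2, -⟩ := pcore h (fun e : p = q => nq (e ▸ dp)) hP.isPGroup (hP.ne_bot dp)
      (isPGroup_zpowers_of_orderOf_eq ox) (isPGroup_zpowers_of_orderOf_eq oy) (ne_one_of_orderOf_eq ox)
      (ne_one_of_orderOf_eq oy) ((mC.1 hx.2).pow_pow k l)
    exact nq (dvd_card_of_le isPGroup_pCore' h2 (le_fh h1))
  exact ⟨ht, E, hE, (Cfsg.Agent.S0039.result _ E hE h0 fun e => ht (isComplement'_bot_right.1 (e ▸ hE))).2 hf,
    hf, nil_fpf h h0 hf⟩

omit h in
theorem shape {K E : Subgroup G} [K.Normal] (hK : K ≠ ⊥) (hf : ∀ e ∈ E, e ≠ 1 → K ⊓ (C₁ e) = ⊥)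
    (hE : Group.IsNilpotent E) : IsCyclic E ∨ ∃ C Q : Subgroup G, C ⊔ Q = E ∧ (∀ a ∈ C, ∀ b ∈ Q, a * b = b * a) ∧
      IsCyclic C ∧ Odd (Nat.card C) ∧ ∃ n : ℕ, Nonempty (Q ≃* QuaternionGroup (2 ^ n)) := by
  refine or_iff_not_imp_left.2 fun hc => ?_
  obtain ⟨p, hp, P, hP⟩ : ∃ p, p.Prime ∧ ∃ P : Sylow p E, ¬ IsCyclic P := by
    by_contra! hz
    have : IsZGroup E := ⟨hz⟩
    exact hc inferInstance
  have := Fact.mk hp
  have hS := isSylowIn_map_subtype P
  obtain e | ⟨rfl, e⟩ := H2.sylow_cyclic_or_quaternion_of_fpf hK (le_NN_of_normal _ _)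
    (fun a ha => hf a (hS.le ha)) hS.isPGroup
  · exact absurd (isCyclic_of_surjective _ ((P : Subgroup E).equivMapOfInjective _ E.subtype_injective).symm.surjective) hP
  have hc : (Nat.card ((pPrimeCore 2 E).map E.subtype)).Coprime 2 := by
    rw [card_map_of_injective E.subtype_injective]; exact coprime_card_pPrimeCore 2
  have ho := Nat.coprime_two_right.1 hc
  have := H2.isZGroup_of_fpf_odd hK (le_NN_of_normal _ _) (fun a ha => hf a (map_subtype_le _ ha)) ho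
  have := isNilpotent_of_le hE (map_subtype_le (pPrimeCore 2 E))
  refine ⟨_, _, ?_, fun a ha b hb => (mem_CC.1 (le_centralizer_of_coprime_of_isNilpotent hE (map_subtype_le _)
    hS.le (hS.card_eq_pow ▸ hc.pow_right _) ha) b hb).symm, inferInstance, ho, e⟩
  rw [← Subgroup.map_sup, eq_top_iff.2 ((pCore_sup_pPrimeCore_eq_top 2).ge.trans (sup_le
    ((pCore_le_sylow P).trans le_sup_right) le_sup_left)), ← MonoidHom.range_eq_map, range_subtype]

theorem three [Group.IsSolvable G] (hnn : ¬ Group.IsNilpotent G) (h0 : fittingHall G = ⊥) :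
    ∃ p : ℕ, p.Prime ∧ IsThreeStepGroup p G := by
  have : Nontrivial G := not_subsingleton_iff_nontrivial.1 fun _ => hnn inferInstance
  obtain ⟨p, hp, hH⟩ := exists_pCore_ne_bot (G := G)
  have := Fact.mk hp
  have nd : ∀ y : G, y ≠ 1 → (orderOf y).Coprime p → ¬ p ∣ Nat.card (C₁ y) := fun y y1 hy hd => by
    obtain ⟨x, hx, ox⟩ := exists_orderOf_eq_of_dvd hd
    obtain ⟨q, _, l, oy⟩ := exists_prime_pow y1
    obtain ⟨h1, h2, -⟩ := pcore h (fun e : p = q => hp.coprime_iff_not_dvd.1 hy.symm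
      ((e ▸ oy) ▸ orderOf_pow_dvd l)) isPGroup_pCore' hH (isPGroup_zpowers_of_orderOf_eq ox)
      (isPGroup_zpowers_of_orderOf_eq oy) (ne_one_of_orderOf_eq ox) (ne_one_of_orderOf_eq oy)
      ((mC.1 hx).pow_right l)
    exact h2 (le_bot_iff.1 ((le_fh h1).trans h0.le))
  obtain ⟨A, hA⟩ := (hallOK_of_isSolvable {p}ᶜ (inferInstance : Group.IsSolvable G)).exists_isPiHall
  obtain ⟨hA1, hA2⟩ := isPiHall_iff.1 hA
  rw [isPiNat_compl_singleton_iff hp] at hA1
  rw [compl_compl, isPiNat_singleton_iff hp index_ne_zero_of_finite] at hA2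
  have oA : ∀ a ∈ A, (orderOf a).Coprime p := fun a ha => hA1.coprime_dvd_left (A.orderOf_dvd_natCard ha)
  have fp : ∀ a, a ≠ 1 → (orderOf a).Coprime p → pCore p G ⊓ (C₁ a) = ⊥ := fun a a1 ha =>
    eq_bot_of_isPGroup_of_not_dvd (isPGroup_pCore'.to_le inf_le_left) inf_le_right (nd a a1 ha)
  have hf : ∀ a ∈ A, a ≠ 1 → pCore p G ⊓ (C₁ a) = ⊥ := fun a ha a1 => fp a a1 (oA a ha)
  have hO : pPrimeCore p G = ⊥ := (eq_bot_iff_forall _).2 fun a ha => by_contra fun a1 => hH (by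
    rw [← fp a a1 ((coprime_card_pPrimeCore p).coprime_dvd_left (Subgroup.orderOf_dvd_natCard _ ha)),
      left_eq_inf]
    exact fun b hb => mC.2 (commute_of_normal_of_disjoint _ _ inferInstance inferInstance
      (disjoint_iff.2 (inf_eq_bot_of_coprime' ((IsPGroup.iff_card.1 isPGroup_pCore').elim fun _ e =>
      e ▸ (coprime_card_pPrimeCore p).symm.pow_left _))) _ _ hb ha))
  let f := QuotientGroup.mk' (pCore p G)
  have hs : Function.Surjective f := QuotientGroup.mk'_surjective _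
  have nd' : ∀ a ∈ A, a ≠ 1 → ¬ p ∣ Nat.card (C₁ (f a)) := fun a ha a1 hd => by
    rw [← CC_zpowers, ← MonoidHom.map_zpowers, ← map_centralizer_mk' _ ((IsPGroup.iff_card.1
      isPGroup_pCore').elim fun _ e => by rw [e, Nat.card_zpowers]; exact (oA a ha).pow_right _)
      (.inr inferInstance), CC_zpowers] at hd
    exact nd a a1 (oA a ha) (hd.trans (card_map_dvd _ _))
  have pd : p ∣ Nat.card (G ⧸ pCore p G) := by
    by_contra hd
    exact hH (le_bot_iff.1 ((le_fh (isSylowIn_of_not_dvd le_top isPGroup_pCore'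
      (by rwa [relIndex_top_right]))).trans h0.le))
  have ho : Odd (Nat.card A) := Nat.not_even_iff_odd.1 fun he => by
    have := Fact.mk Nat.prime_two
    obtain ⟨i, hi, oi⟩ := exists_orderOf_eq_of_dvd he.two_dvd
    have i1 := ne_one_of_orderOf_eq oi
    have ii : i * i = 1 := by rw [← sq, ← oi, pow_orderOf_eq_one]
    have inv : ∀ k ∈ pCore p G, i * k * i⁻¹ = k⁻¹ := fun k hk => by
      obtain ⟨n, -, e⟩ := H2.fpf_conj_surj (le_NN_of_normal ⊤ _ (mem_top i)) (hf i hi i1) hk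
      have h2 : k * i * (k * i) = 1 := by
        rw [← e]
        calc n⁻¹ * i * n * (n⁻¹ * i * n) = n⁻¹ * (i * i) * n := by group
          _ = 1 := by rw [ii]; group
      calc _ = k⁻¹ * (k * i * (k * i)) * (i * i)⁻¹ := by group
        _ = _ := by rw [h2, ii]; group
    refine nd' i hi i1 (pd.trans ?_)
    rw [← card_top]
    refine card_dvd_of_le fun g _ => ?_
    obtain ⟨g, rfl⟩ := hs g
    refine mC.2 (QuotientGroup.eq.2 (centralizer_pCore_le hO (mem_CC.2 fun k hk => ?_)))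
    calc _ = i⁻¹ * (i * k * i⁻¹) ⁻¹⁻¹ * i * ((g * i)⁻¹ * (i * g)) := by group
      _ = (g * i)⁻¹ * (g * k * g⁻¹)⁻¹ * (i * g) * (g⁻¹ * i⁻¹ * g * i * ((g * i)⁻¹ * (i * g))) := by
        rw [inv k hk]; group
      _ = _ := by rw [← inv _ (Normal.conj_mem inferInstance k hk g)]; group
  have := H2.isZGroup_of_fpf_odd hH (le_NN_of_normal _ _) hf ho
  have := nil_fpf h hH hf
  have hc : IsCyclic A := inferInstance
  have cA : (Nat.card (A.map f)).Coprime p := hA1.coprime_dvd_left (card_map_dvd _ _)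
  have iA : ∃ k, (A.map f).index = p ^ k := by
    obtain ⟨k, hk⟩ := hA2
    obtain ⟨j, -, hj⟩ := (Nat.dvd_prime_pow hp).1 (hk ▸ index_map_dvd A hs)
    exact ⟨j, hj⟩
  have F1 : fittingSubgroup (G ⧸ pCore p G) ≤ A.map f := by
    refine (fitting_le_pCore_sup_pPrimeCore p).trans ?_
    rw [pCore_quotient_pCore, bot_sup_eq]
    exact normal_le_of_isPiNat_index (π := {p}ᶜ) ((isPiNat_compl_singleton_iff hp).2 (coprime_card_pPrimeCore p))
      (by rw [compl_compl, isPiNat_singleton_iff hp index_ne_zero_of_finite]; exact iA)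
  have F2 : A.map f = fittingSubgroup _ := le_antisymm (LE.le.trans (by
    rintro _ ⟨a, ha, rfl⟩
    refine mem_CC.2 fun b hb => ?_
    obtain ⟨b, hb', rfl⟩ := F1 hb
    rw [← map_mul, ← map_mul]
    exact congrArg (fun x : A => f x) (hc.isMulCommutative.1.1 ⟨b, hb'⟩ ⟨a, ha⟩)) centralizer_fitting_le) F1
  have e : (A.map f).comap f = pCore p G ⊔ A := by rw [comap_map_eq, QuotientGroup.ker_mk', sup_comm]
  have : (A.map f).Normal := F2 ▸ inferInstance
  refine ⟨p, hp, hH, A, ?_, hc, ho, hA1, e ▸ inferInstance, fun e' => ?_, ?_, hf, fun x hx a ha a1 hm => hx ?_⟩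
  · rintro rfl
    rw [index_bot] at hA2
    exact hnn (IsPGroup.iff_card.2 hA2).isNilpotent
  · rw [← map_comap_eq_self_of_surjective hs (A.map f), e, e', map_top_of_surjective _ hs, card_top] at cA
    exact hp.coprime_iff_not_dvd.1 cA.symm pd
  · rw [← e, index_comap_of_surjective _ hs]; exact iA
  · obtain ⟨k, hk⟩ := iA
    refine e.le (le_of_coprime_index (H := C₁ (f a)) (hk ▸ ((hp.coprime_iff_not_dvd.2 (nd' a ha a1)).symm.pow_right _))
      (mC.2 (commutatorElement_eq_one_iff_commute.1 ?_)))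
    exact (map_commutatorElement f x a).symm.trans ((QuotientGroup.eq_one_iff _).2 hm)

end H1.CN
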