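import Cfsg.Agent.H1.Basic
/-! A simplicity criterion and an index bound for a group with a subgroup `2^11 : M24`. -/
set_option autoImplicit false
set_option maxRecDepth 10000
set_option linter.unusedSectionVars false
namespace H1.Crit
open Subgroup
open scoped commutatorElement Pointwise
variable {G : Type*} [Group G] [Finite G]
theorem fixm {H : Subgroup G} {y : G} {r : ℕ} (hr : r.Prime) (h1 : ∀ u ∈ H, y * u * y⁻¹ ∈ H) (h2 : y ^ r = 1) :
    Nat.card H ≡ Nat.card (H ⊓ Subgroup.centralizer {y} : Subgroup G) [MOD r] := by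
  classical
  have := Fact.mk hr
  let := Fintype.ofFinite H
  let f : Function.End H := fun u => ⟨y * u * y⁻¹, h1 u u.2⟩
  have h3 : ∀ (k : ℕ) (u : H), ((f ^ k) u).1 = y ^ k * u * (y ^ k)⁻¹ := fun k u => by
    induction k with
    | zero => simp; rfl
    | succ k ih =>
      rw [pow_succ']
      change y * ((f ^ k) u).1 * y⁻¹ = _
      rw [ih, pow_succ']; group
  have h4 := Equiv.Perm.card_fixedPoints_modEq (f := f) (p := r) (n := 1) (funext fun u =>
    Subtype.ext (by rw [pow_one, h3, h2, one_mul, inv_one, mul_one]; rfl))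
  rw [← Nat.card_eq_fintype_card, ← Nat.card_eq_fintype_card] at h4
  convert h4 using 1
  refine Nat.card_congr ⟨fun u => ⟨⟨u.1, u.2.1⟩, Subtype.ext ?_⟩, fun u => ⟨u.1.1, u.1.2, ?_⟩,
    fun _ => rfl, fun _ => rfl⟩
  · change y * u * y⁻¹ = u
    rw [← Subgroup.mem_centralizer_singleton_iff.1 u.2.2, mul_inv_cancel_right]
  · have : y * u.1.1 * y⁻¹ = u.1.1 := congrArg Subtype.val u.2
    exact Subgroup.mem_centralizer_singleton_iff.2 (mul_inv_eq_iff_eq_mul.1 this).symm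
theorem pz {p : ℕ} {g : G} (h : g ^ p = 1) : IsPGroup p (zpowers g) := by
  rintro ⟨_, i, rfl⟩
  exact ⟨1, Subtype.ext (by simp only [pow_one, SubmonoidClass.coe_pow, OneMemClass.coe_one]; rw [← zpow_natCast, ← zpow_mul, mul_comm, zpow_mul, zpow_natCast, h, one_zpow])⟩
theorem nz {g c : G} (h : Commute c g) : zpowers g ≤ normalizer (zpowers c : Set G) :=
  (zpowers_le.2 (mem_centralizer_iff.2 (by rintro _ ⟨i, rfl⟩; exact h.zpow_left i))).trans (centralizer_le_normalizer (zpowers c : Set G))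
theorem ex11 {a b : G} (ha : a ^ 11 = 1) (hb : b ^ 11 = 1) (hc : ⁅a, b⁆ ^ 11 = 1) (ca : Commute ⁅a, b⁆ a) (cb : Commute ⁅a, b⁆ b)
    (c1 : ⁅a, b⁆ ≠ 1) : ∃ P : Subgroup G, ∃ n, 3 ≤ n ∧ Nat.card P = 11 ^ n ∧ a ∈ P ∧ b ∈ P ∧ P ≤ centralizer {⁅a, b⁆} := by
  have : Fact (Nat.Prime 11) := ⟨by norm_num⟩
  have p1 := (pz hc).to_sup_of_normal_left' (pz ha) (nz ca)
  have p2 := p1.to_sup_of_normal_left' (pz hb) (zpowers_le.2 (mem_normalizer_fintype fun x hx => by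
    have : zpowers ⁅a, b⁆ ⊔ zpowers a ≤ (zpowers ⁅a, b⁆ ⊔ zpowers a).comap (MulAut.conj b).toMonoidHom := sup_le (zpowers_le.2 (by
      rw [mem_comap]
      change b * _ * b⁻¹ ∈ zpowers ⁅a, b⁆ ⊔ zpowers a
      rw [← cb.eq, mul_inv_cancel_right]; exact mem_sup_left (mem_zpowers _))) (zpowers_le.2 (by
      rw [mem_comap]
      change b * _ * b⁻¹ ∈ zpowers ⁅a, b⁆ ⊔ zpowers a
      rw [show b * a * b⁻¹ = ⁅a, b⁆⁻¹ * a by rw [commutatorElement_def]; group]
      exact mul_mem (mem_sup_left (inv_mem (mem_zpowers _))) (mem_sup_right (mem_zpowers _))))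
    exact this hx))
  obtain ⟨n, hn⟩ := IsPGroup.iff_card.1 p2
  have ma : a ∈ zpowers ⁅a, b⁆ ⊔ zpowers a ⊔ zpowers b := mem_sup_left (mem_sup_right (mem_zpowers a))
  have mb : b ∈ zpowers ⁅a, b⁆ ⊔ zpowers a ⊔ zpowers b := mem_sup_right (mem_zpowers b)
  refine ⟨_, n, ?_, hn, ma, mb, sup_le (sup_le (zpowers_le.2 (mem_centralizer_singleton_iff.2 rfl))
    (zpowers_le.2 (mem_centralizer_singleton_iff.2 ca.symm))) (zpowers_le.2 (mem_centralizer_singleton_iff.2 cb.symm))⟩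
  by_contra c
  generalize zpowers ⁅a, b⁆ ⊔ zpowers a ⊔ zpowers b = P at *
  refine c1 (commutatorElement_eq_one_iff_mul_comm.2 (congrArg Subtype.val (?_ : (⟨a, ma⟩ * ⟨b, mb⟩ : P) = ⟨b, mb⟩ * ⟨a, ma⟩)))
  by_cases h2 : n = 2
  · exact (IsPGroup.isMulCommutative_of_card_eq_prime_sq (h2 ▸ hn)).is_comm.comm _ _
  · have := isCyclic_of_card_dvd_prime (p := 11) (hn ▸ (pow_dvd_pow 11 (show n ≤ 1 by omega)).trans (by norm_num))
    exact IsCyclic.isMulCommutative.is_comm.comm _ _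
theorem low (K E : Subgroup G) (hK : Nat.card K = 244823040) (hE : Nat.card E = 2^11) (hKE : K ≤ Subgroup.normalizer (E : Set G))
    (hp : ∀ p ∈ [29,31,37,43], ∃ g : G, g ^ p = 1 ∧ g ≠ 1) (h11 : ∃ a b : G, a^11 = 1 ∧ b^11 = 1 ∧ ⁅a,b⁆^11 = 1 ∧ Commute ⁅a,b⁆ a ∧
    Commute ⁅a,b⁆ b ∧ ⁅a,b⁆ ≠ 1) : 173067389 ∣ (E ⊔ K).index := by
  have d := card_sup_dvd hKE
  rw [hK, hE, sup_comm] at d
  have d2 : Nat.card G ∣ 244823040 * 2 ^ 11 * (E ⊔ K).index := (E ⊔ K).card_mul_index ▸ mul_dvd_mul_right d _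
  have t : ∀ p ∈ [29, 31, 37, 43], p ∣ (E ⊔ K).index := fun p h => by
    obtain ⟨g, g1, g2⟩ := hp p h
    have := (by decide +kernel : ∀ p ∈ [29, 31, 37, 43], p.Prime ∧ p.Coprime (244823040 * 2 ^ 11)) p h
    have _ := Fact.mk this.1
    exact this.2.dvd_of_dvd_mul_left ((orderOf_eq_prime g1 g2 ▸ orderOf_dvd_natCard g).trans d2)
  obtain ⟨a, b, h1, h2, h3, h4, h5, h6⟩ := h11
  obtain ⟨P, n, n3, cP, -⟩ := ex11 h1 h2 h3 h4 h5 h6
  have e := ((pow_dvd_pow 11 n3).trans (cP ▸ card_subgroup_dvd_card P)).trans d2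
  rw [show 244823040 * 2 ^ 11 = 11 * (22256640 * 2 ^ 11) by norm_num, mul_assoc, pow_succ', Nat.mul_dvd_mul_iff_left (by norm_num)] at e
  have e2 := (show Nat.Coprime (11 ^ 2) (22256640 * 2 ^ 11) by norm_num).dvd_of_dvd_mul_left e
  rw [show 173067389 = 11 ^ 2 * 29 * 31 * 37 * 43 by norm_num]
  exact Nat.Coprime.mul_dvd_of_dvd_of_dvd (by norm_num) (Nat.Coprime.mul_dvd_of_dvd_of_dvd (by norm_num)
    (Nat.Coprime.mul_dvd_of_dvd_of_dvd (by norm_num) (Nat.Coprime.mul_dvd_of_dvd_of_dvd (by norm_num) e2 (t 29 (by simp)))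
    (t 31 (by simp))) (t 37 (by simp))) (t 43 (by simp))
def DL : List ℕ := [1, 11, 29, 31, 37, 43, 121, 319, 341, 407, 473, 899, 1073, 1147, 1247, 1333, 1591, 3509, 3751, 4477, 5203, 9889, 11803, 12617, 13717, 14663, 17501, 33263, 38657, 46139, 49321, 108779, 129833, 138787, 150887, 161293, 192511, 365893, 425227, 507529, 542531, 1430309, 4024823, 4677497, 5582819, 5967841, 15733399, 173067389]
theorem mem_DL {m : ℕ} (h : m ∣ 173067389) : m ∈ DL := by
  rw [show 173067389 = 11 * (11 * (29 * (31 * (37 * 43)))) by norm_num] at h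
  obtain ⟨a, _, ha, h1, rfl⟩ := (Nat.dvd_mul).1 h
  obtain ⟨b, _, hb, h2, rfl⟩ := (Nat.dvd_mul).1 h1
  obtain ⟨c, _, hc, h3, rfl⟩ := (Nat.dvd_mul).1 h2
  obtain ⟨d, _, hd, h4, rfl⟩ := (Nat.dvd_mul).1 h3
  obtain ⟨e, f, he, hf, rfl⟩ := (Nat.dvd_mul).1 h4
  clear h h1 h2 h3 h4
  rw [Nat.dvd_prime (by norm_num)] at ha hb hc hd he hf
  rcases ha with rfl | rfl <;> rcases hb with rfl | rfl <;> rcases hc with rfl | rfl <;> rcases hd with rfl | rfl <;>
    rcases he with rfl | rfl <;> rcases hf with rfl | rfl <;> decide +kernel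
theorem crit (hG : Nat.card G = 86775571046077562880) (K E : Subgroup G) (hKs : IsSimpleGroup K) (hK : Nat.card K = 244823040)
    (hE : Nat.card E = 2^11) (hKE : K ≤ Subgroup.normalizer (E : Set G)) (hnt : ¬ K ≤ Subgroup.centralizer (E : Set G))
    (hgen : ∀ N : Subgroup G, N.Normal → E ≤ N → N = ⊤) (hp : ∀ p ∈ [29,31,37,43], ∃ g : G, g ^ p = 1 ∧ g ∉ Subgroup.center G)
    (h11 : ∃ a b : G, a^11 = 1 ∧ b^11 = 1 ∧ ⁅a,b⁆^11 = 1 ∧ Commute ⁅a,b⁆ a ∧ Commute ⁅a,b⁆ b ∧ ⁅a,b⁆ ∉ Subgroup.center G) :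
    IsSimpleGroup G := by
  have : Fact (Nat.Prime 23) := ⟨by norm_num⟩
  have : Nontrivial G := Finite.one_lt_card_iff_nontrivial.1 (by rw [hG]; norm_num)
  obtain ⟨⟨s, sK⟩, os⟩ := exists_prime_orderOf_dvd_card' (G := K) 23 (by rw [hK]; norm_num)
  rw [orderOf_mk] at os
  have s1 : s ≠ 1 := fun c => by simp [c] at os
  have s23 : s ^ 23 = 1 := os ▸ pow_orderOf_eq_one s
  have ks : ∀ {M : Subgroup G} {x}, (∀ k ∈ K, ∀ m ∈ M, k * m * k⁻¹ ∈ M) → x ∈ K → x ≠ 1 → x ∈ M → K ≤ M := fun {M x} h xK x1 xM =>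
    subgroupOf_eq_top.1 ((hKs.eq_bot_or_eq_top_of_normal (M.subgroupOf K) ⟨fun m hm k => h k k.2 m hm⟩).resolve_left fun c =>
      x1 (congrArg Subtype.val (mem_bot.1 (c.le (xM : (⟨x, xK⟩ : K) ∈ M.subgroupOf K)) : (⟨x, xK⟩ : K) = 1)))
  have nE : ∀ k ∈ K, ∀ m ∈ E, k * m * k⁻¹ ∈ E := fun k hk m hm => (mem_normalizer_iff.1 (hKE hk) m).1 hm
  have nC : ∀ k ∈ K, ∀ m ∈ centralizer (E : Set G), k * m * k⁻¹ ∈ centralizer (E : Set G) := fun k hk m hm e he => by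
    have := hm _ (nE _ (inv_mem hk) e he)
    calc e * (k * m * k⁻¹) = k * (k⁻¹ * e * k⁻¹⁻¹ * m) * k⁻¹ := by group
      _ = _ := by rw [this]; group
  have pw : ∀ {F : Subgroup G}, F ≤ E → ∃ j ≤ 11, Nat.card F = 2 ^ j := fun h =>
    (Nat.dvd_prime_pow Nat.prime_two).1 (hE ▸ card_dvd_of_le h)
  have two : ∀ j ≤ 11, 2 ^ j % 23 = 1 → j = 0 ∨ j = 11 := by decide
  have eE : ∀ {F : Subgroup G}, F ≤ E → Nat.card F % 23 = 1 → F = ⊥ ∨ F = E := fun h c => by
    obtain ⟨j, hj, e⟩ := pw h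
    exact (two j hj (e ▸ c)).imp (fun c => card_eq_one.1 (by rw [e, c]; rfl)) fun c => eq_of_le_of_card_ge h (by rw [e, c, hE])
  have cs : E ⊓ centralizer {s} = ⊥ := (eE inf_le_left (Eq.trans (fixm (by norm_num) (nE s sK) s23).symm (by rw [hE]; rfl))).resolve_right
    fun c => hnt (ks nC sK s1 fun e he => mem_centralizer_singleton_iff.1 (c.ge he).2)
  have irr : ∀ {F : Subgroup G}, F ≤ E → (∀ u ∈ F, s * u * s⁻¹ ∈ F) → F = ⊥ ∨ F = E := fun {F} h c => eE h (by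
    have := fixm (by norm_num) c s23
    rwa [eq_bot_iff.2 ((inf_le_inf_right _ h).trans cs.le), card_bot] at this)
  have nE0 : ∀ {M : Subgroup G}, M.Normal → M ≠ ⊤ → ∀ x ∈ M, x ∈ normalizer (E : Set G) → x ∈ centralizer (E : Set G) :=
    fun {M} hM h x hx hn e he => by
      have := (irr (F := E ⊓ M) inf_le_left fun u hu => ⟨nE s sK u hu.1, hM.conj_mem u hu.2 s⟩).resolve_right fun c =>
        h (hgen M hM (c.ge.trans inf_le_right))
      have e1 : x * e * x⁻¹ * e⁻¹ ∈ E ⊓ M := mem_inf.2 ⟨mul_mem ((mem_normalizer_iff.1 hn e).1 he) (E.inv_mem he), by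
        simpa [mul_assoc] using mul_mem hx (hM.conj_mem _ (inv_mem hx) e)⟩
      rw [this, mem_bot, mul_inv_eq_one, mul_inv_eq_iff_eq_mul] at e1
      exact e1.symm
  have ab : E ≤ centralizer (E : Set G) := by
    have : Nontrivial E := Finite.one_lt_card_iff_nontrivial.1 (by rw [hE]; norm_num)
    obtain ⟨⟨⟨z, zE⟩, zc⟩, z1⟩ := (IsPGroup.of_card hE).center_nontrivial |> fun h => @exists_ne _ h 1
    exact ((irr (F := E ⊓ centralizer (E : Set G)) inf_le_left fun u hu => ⟨nE s sK u hu.1, nC s sK u hu.2⟩).resolve_left fun c =>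
      z1 (Subtype.ext (Subtype.ext (mem_bot.1 (c ▸ ⟨zE, fun e he => congrArg Subtype.val (mem_center_iff.1 zc ⟨e, he⟩)⟩))))).ge.trans
      inf_le_right
  refine ⟨fun N hN => by_contra fun c => ?_⟩
  obtain ⟨N0, N1⟩ := not_or.1 c
  have KE : K ⊓ E = ⊥ := eq_bot_iff.2 fun x hx => by_contra fun c => absurd (card_dvd_of_le (ks nE hx.1 c hx.2)) (by rw [hK, hE]; norm_num)
  have HN : (E ⊔ K) ⊓ N = ⊥ := eq_bot_iff.2 fun l hl => by
    have c := nE0 hN N1 l hl.2 (sup_le le_normalizer hKE hl.1)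
    obtain ⟨e, he, k, hk, rfl⟩ := (Set.ext_iff.1 (coe_mul_of_right_le_normalizer_left E K hKE) l).1 hl.1
    by_cases k1 : k = 1
    · have := (irr (F := E ⊓ N) inf_le_left fun u hu => ⟨nE s sK u hu.1, hN.conj_mem u hu.2 s⟩).resolve_right fun c =>
        N1 (hgen N hN (c.ge.trans inf_le_right))
      exact this.le ⟨by simpa [k1] using he, hl.2⟩
    · exact absurd (ks nC hk k1 ((mul_mem_cancel_left (ab he)).1 c)) hnt
  have dN := card_subgroup_dvd_card (E ⊔ K ⊔ N)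
  rw [card_sup_of_disjoint le_normalizer_of_normal HN, sup_comm, card_sup_of_disjoint hKE KE, hK, hE, hG,
    show 86775571046077562880 = 244823040 * 2 ^ 11 * 173067389 by norm_num, Nat.mul_dvd_mul_iff_left (by norm_num)] at dN
  obtain ⟨p, hp', pd, pu⟩ := (by decide +kernel : ∀ d ∈ DL, d ≠ 1 → ∃ p ∈ [11, 29, 31, 37, 43], p ∣ d ∧
    ∀ m ∈ DL, m ∣ d → m % p = 1 → m = 1) _ (mem_DL dN) fun c => N0 (card_eq_one.1 c)
  obtain ⟨pp, p3, p23⟩ := (by decide +kernel : ∀ p ∈ [11, 29, 31, 37, 43], p.Prime ∧ ¬ p ^ 3 ∣ 173067389 ∧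
    ∀ k ≤ 2, ∀ j ≤ k, p ^ k ∣ 173067389 → p ^ k % 23 = p ^ j % 23 → j = k) p hp'
  have := Fact.mk pp
  obtain ⟨P⟩ := (inferInstance : Nonempty (Sylow p N))
  have d1 := P.card_dvd_index.trans (index_dvd_card _)
  have : Subsingleton (Sylow p N) := (Nat.card_eq_one_iff_unique.1 (pu _ (mem_DL (d1.trans dN)) d1
    (Eq.trans (card_sylow_modEq_one p N) (Nat.mod_eq_of_lt pp.one_lt)))).1
  have nF : (P.1.map N.subtype).Normal := inferInstance
  obtain ⟨k, hk⟩ := IsPGroup.iff_card.1 (P.isPGroup'.map N.subtype)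
  have pF : p ∣ Nat.card (P.1.map N.subtype) := by
    rw [card_map_of_injective N.subtype_injective]; exact P.dvd_card_of_dvd_card pd
  have dF := (card_dvd_of_le (map_subtype_le P.1)).trans dN
  generalize P.1.map N.subtype = F at *
  obtain ⟨j, jk, hj⟩ := (Nat.dvd_prime_pow pp).1 (hk ▸ card_dvd_of_le (inf_le_left : F ⊓ centralizer {s} ≤ F))
  have k2 : k ≤ 2 := by
    by_contra c
    exact p3 ((pow_dvd_pow p (show 3 ≤ k by omega)).trans (hk ▸ dF))
  have f := fixm (by norm_num) (fun u hu => nF.conj_mem u hu s) s23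
  rw [hk, hj] at f
  have e1 := eq_of_le_of_card_ge (inf_le_left : F ⊓ centralizer {s} ≤ F) (by rw [hk, hj, p23 k k2 j jk (hk ▸ dF) f])
  have ct : centralizer (F : Set G) = ⊤ := by_contra fun c => hnt fun x hx => nE0 inferInstance c x
    (ks (fun k _ m hm => (inferInstance : (centralizer (F : Set G)).Normal).conj_mem m hm k) sK s1
      (fun u hu => mem_centralizer_singleton_iff.1 (e1.ge hu).2) hx) (hKE hx)
  obtain ⟨⟨z, zF⟩, oz⟩ := exists_prime_orderOf_dvd_card' p pF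
  rw [orderOf_mk] at oz
  have zc : z ∈ center G := mem_center_iff.2 fun g => ((ct.ge (mem_top g)) z zF).symm
  have zp : z ^ p = 1 := oz ▸ pow_orderOf_eq_one z
  have lz : zpowers z ≤ center G := zpowers_le.2 zc
  have : (zpowers z).Normal := ⟨fun x hx g => by rw [mem_center_iff.1 (lz hx) g, mul_inv_cancel_right]; exact hx⟩
  have syl : ∀ {R : Subgroup G} {n : ℕ}, Nat.card R = p ^ n → ¬ p ^ (n + 1) ∣ Nat.card G → ∀ {T : Subgroup G}, IsPGroup p (R ⊔ T : Subgroup G) →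
      T ≤ R := fun {R n} h1 h2 T h3 => by
    obtain ⟨i, hi⟩ := IsPGroup.iff_card.1 h3
    refine le_sup_right.trans (eq_of_le_of_card_ge le_sup_left ?_).ge
    rw [hi, h1]
    exact Nat.pow_le_pow_right pp.pos (not_lt.1 fun c => h2 ((pow_dvd_pow p c).trans (hi ▸ card_subgroup_dvd_card _)))
  rcases List.mem_cons.1 hp' with rfl | hp'
  · obtain ⟨a, b, h1, h2, h3, h4, h5, h6⟩ := h11
    obtain ⟨P, n, n3, cP, aP, bP, le⟩ := ex11 h1 h2 h3 h4 h5 fun c => h6 (c ▸ one_mem _)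
    obtain rfl : n = 3 := le_antisymm (not_lt.1 fun c => absurd ((pow_dvd_pow 11 c).trans (cP ▸ card_subgroup_dvd_card P))
      (by rw [hG]; norm_num)) n3
    have zP := syl cP (by rw [hG]; norm_num) ((IsPGroup.of_card cP).to_sup_of_normal_right (pz zp)) (mem_zpowers z)
    have cP' : ⁅a, b⁆ ∈ P := mul_mem (mul_mem (mul_mem aP bP) (inv_mem aP)) (inv_mem bP)
    obtain ⟨i, -, hi⟩ := IsPGroup.card_center_eq_prime_pow cP (by norm_num)
    have e2 := (center P).card_mul_index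
    rw [hi, cP] at e2
    by_cases i1 : i ≤ 1
    · have := eq_of_le_of_card_ge (show zpowers z ≤ (center P).map P.subtype from zpowers_le.2
        ⟨⟨z, zP⟩, mem_center_iff.2 fun g => Subtype.ext (mem_center_iff.1 zc g), rfl⟩) (by
          rw [card_map_of_injective P.subtype_injective, hi, Nat.card_zpowers, oz]; interval_cases i <;> norm_num)
      exact h6 (lz (this.ge ⟨⟨_, cP'⟩, mem_center_iff.2 fun g => Subtype.ext (mem_centralizer_singleton_iff.1 (le g.2)), rfl⟩))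
    · have : IsCyclic (P ⧸ center P) := isCyclic_of_card_dvd_prime (p := 11) (by
        rw [← index_eq_card]
        refine Nat.dvd_of_mul_dvd_mul_left (k := 11 ^ 2) (by norm_num) ?_
        rw [← pow_succ, ← e2]; exact mul_dvd_mul_right (pow_dvd_pow 11 (by omega)) _)
      have := ((QuotientGroup.mk' (center P)).isMulCommutative_of_isCyclic_of_ker_le_center (QuotientGroup.ker_mk' _).le).is_comm.comm
        ⟨a, aP⟩ ⟨b, bP⟩
      exact h6 (commutatorElement_eq_one_iff_mul_comm.2 (congrArg Subtype.val this) ▸ one_mem _)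
  · obtain ⟨g, g1, g2⟩ := hp p hp'
    exact g2 (lz (syl (n := 1) (by rw [Nat.card_zpowers, oz, pow_one]) (by
      rw [hG]; exact (by decide +kernel : ∀ p ∈ [29, 31, 37, 43], ¬ p ^ (1 + 1) ∣ 86775571046077562880) p hp')
      ((pz zp).to_sup_of_normal_left (pz g1)) (mem_zpowers g)))
end H1.Crit
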