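import Mathlib
import Cfsg.Agent.H1.PSolv
import Cfsg.Agent.H1.HallTop
import Cfsg.Agent.S0205

/-! Consequences of the odd order theorem for coprime action and Hall subgroups. -/

set_option autoImplicit false
open Cfsg Subgroup
open scoped Pointwise

namespace H1

universe u

theorem ft_odd {G : Type*} [Group G] [Finite G] (h : Odd (Nat.card G)) : Group.IsSolvable G :=
  Cfsg.Agent.S0205.result h

theorem ft_not_two {G : Type*} [Group G] [Finite G] (h : ¬ 2 ∣ Nat.card G) : Group.IsSolvable G :=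
  ft_odd (Nat.odd_iff.2 (Nat.two_dvd_ne_zero.1 h))

theorem ft_coprime {A B : Type*} [Group A] [Group B] [Finite A] [Finite B]
    (h : (Nat.card A).Coprime (Nat.card B)) : Group.IsSolvable A ∨ Group.IsSolvable B := by
  by_cases h2 : 2 ∣ Nat.card A
  · refine Or.inr (ft_not_two fun h3 => ?_)
    have := Nat.eq_one_of_dvd_coprimes h h2 h3
    omega
  · exact Or.inl (ft_not_two h2)

theorem ft_two_dvd {G : Type*} [Group G] [Finite G] (h : ¬ Group.IsSolvable G) : 2 ∣ Nat.card G := by
  by_contra h2; exact h (ft_not_two h2)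

theorem ft_isPiNat {π : Set ℕ} (h2 : 2 ∉ π) (X : Type*) [Group X] [Finite X]
    (h : IsPiNat π (Nat.card X)) : Group.IsSolvable X :=
  ft_not_two fun h3 => h2 (h 2 Nat.prime_two h3)

theorem PiSep.hallOK' {G : Type u} [Group G] [Finite G] {π : Set ℕ} (h : PiSep π G) :
    HallOK π G := by
  refine h.hallOK ?_
  by_cases h2 : 2 ∈ π
  · exact Or.inr fun X _ _ hX => ft_isPiNat (π := πᶜ) (fun h => h h2) X hX
  · exact Or.inl fun X _ _ hX => ft_isPiNat h2 X hX

theorem sz_conj {G : Type*} [Group G] [Finite G] (N : Subgroup G) [N.Normal] {H K : Subgroup G}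
    (hc : (Nat.card N).Coprime (Nat.card H)) (hH : IsComplement' N H) (hK : IsComplement' N K) :
    ∃ g ∈ N, MulAut.conj g • H = K :=
  schurZassenhaus_conj N hc (ft_coprime hc) hH hK

theorem sz_conj_of_sup_eq {G : Type*} [Group G] [Finite G] {N A B : Subgroup G}
    (hA : A ≤ normalizer (N : Set G)) (hcA : (Nat.card N).Coprime (Nat.card A))
    (hcB : (Nat.card N).Coprime (Nat.card B)) (h : N ⊔ A = N ⊔ B) :
    ∃ g ∈ N, MulAut.conj g • A = B :=
  schurZassenhaus_conj_of_sup_eq hA hcA hcB (ft_coprime hcA) h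

theorem sz_conj_le {G : Type*} [Group G] [Finite G] {N A B : Subgroup G}
    (hA : A ≤ normalizer (N : Set G)) (hcA : (Nat.card N).Coprime (Nat.card A))
    (hcB : (Nat.card N).Coprime (Nat.card B)) (h : B ≤ N ⊔ A) :
    ∃ g ∈ N, MulAut.conj g • B ≤ A :=
  schurZassenhaus_conj_le hA hcA hcB (ft_coprime hcB) h

theorem piSep_of_relIndex {G : Type*} [Group G] [Finite G] {π : Set ℕ} {K L : Subgroup G}
    (hKL : K ≤ L) (hn : L ≤ normalizer (K : Set G)) (hK : PiSep π K)
    (hi : IsPiNat π (K.relIndex L) ∨ IsPiNat πᶜ (K.relIndex L)) : PiSep π L := by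
  have : (K.subgroupOf L).Normal := (normal_subgroupOf_iff_le_normalizer hKL).2 hn
  refine PiSep.of_normal_quotient (K.subgroupOf L) (hK.of_equiv (subgroupOfEquivOfLe hKL).symm) ?_
  exact hi.elim (fun h => piSep_of_isPiNat h) fun h => piSep_of_isPiNat_compl h

end H1
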