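import Cfsg.Agent.H2.FrobCompl
import Cfsg.Agent.H2.Frob
import Cfsg.Agent.S0035
import Cfsg.Agent.H6.Dihedral

/-!
Which groups occur as Frobenius complements: fixed-point-free actions on finite groups, and their
construction from fixed-point-free representations.
-/

set_option autoImplicit false

namespace H1

open Subgroup

universe u

/-- `H` acts fixed-point-freely on some finite group of order `m`. -/
def FPF (H : Type*) [Group H] (m : ℕ) : Prop :=
  ∃ (V : Type) (_ : Group V) (_ : Finite V) (φ : H →* MulAut V), Nat.card V = m ∧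
    ∀ h : H, h ≠ 1 → ∀ v : V, φ h v = v → v = 1

theorem exists_type0_mulEquiv (V : Type*) [Group V] [Finite V] :
    ∃ (K : Type) (_ : Group K) (_ : Finite K), Nonempty (K ≃* V) := by
  have : Small.{0} V := small_of_injective (f := (Finite.equivFin V)) (Finite.equivFin V).injective
  let e : Shrink.{0} V ≃* V := Shrink.mulEquiv
  exact ⟨Shrink.{0} V, inferInstance, Finite.of_equiv V e.symm.toEquiv, ⟨e⟩⟩

variable {H : Type*} [Group H]

theorem FPF.intro {V : Type*} [Group V] [Finite V] (φ : H →* MulAut V)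
    (hf : ∀ h : H, h ≠ 1 → ∀ v : V, φ h v = v → v = 1) : FPF H (Nat.card V) := by
  obtain ⟨K, _, _, ⟨e⟩⟩ := exists_type0_mulEquiv V
  refine ⟨K, inferInstance, inferInstance,
    (MulAut.congr e.symm).toMonoidHom.comp φ, Nat.card_congr e.toEquiv, fun h hh v hv => ?_⟩
  have h1 : φ h (e v) = e v := by
    have : e.symm (φ h (e v)) = v := by simpa [MulAut.congr] using hv
    rw [← this]; simp [this]
    rw [← e.apply_symm_apply (φ h (e v)), this]
  have := hf h hh _ h1
  simpa using this

theorem FPF.pos {m : ℕ} (h : FPF H m) : 0 < m := by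
  obtain ⟨V, _, _, φ, rfl, -⟩ := h
  exact Nat.card_pos

theorem FPF.of_injective {K : Type*} [Group K] (f : K →* H) (hf : Function.Injective f) {m : ℕ}
    (h : FPF H m) : FPF K m := by
  obtain ⟨V, _, _, φ, rfl, hφ⟩ := h
  exact FPF.intro (φ.comp f) fun k hk v hv =>
    hφ (f k) (fun h1 => hk (hf (by rw [h1, map_one]))) v hv

theorem FPF.one : FPF H 1 := by
  have := FPF.intro (H := H) (V := Unit) 1 (fun _ _ _ _ => rfl)
  simpa using this

theorem FPF.mul {m n : ℕ} (h1 : FPF H m) (h2 : FPF H n) : FPF H (m * n) := by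
  obtain ⟨V, _, _, φ, rfl, hφ⟩ := h1
  obtain ⟨W, _, _, ψ, rfl, hψ⟩ := h2
  let χ : H →* MulAut (V × W) :=
    { toFun := fun h => MulEquiv.prodCongr (φ h) (ψ h)
      map_one' := by ext x <;> simp <;> rfl
      map_mul' := fun a b => by ext x <;> simp <;> rfl }
  rw [← Nat.card_prod]
  refine FPF.intro χ fun h hh v hv => ?_
  have e1 : φ h v.1 = v.1 := congrArg Prod.fst hv
  have e2 : ψ h v.2 = v.2 := congrArg Prod.snd hv
  exact Prod.ext (hφ h hh _ e1) (hψ h hh _ e2)

theorem FPF.exists_frob [Finite H] [Nontrivial H] {m : ℕ} (h : FPF H m) (hm : 1 < m) :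
    ∃ (L : Type) (_ : Group L) (_ : Finite L) (C : Subgroup L), Cfsg.IsFrobeniusComplement C ∧
      Nonempty (H ≃* C) ∧ Nat.card (Cfsg.frobeniusKernel C) = m := by
  obtain ⟨K, _, _, ⟨e⟩⟩ := exists_type0_mulEquiv H
  have h' : FPF K m := h.of_injective e.toMonoidHom e.injective
  have : Nontrivial K := e.toEquiv.nontrivial
  obtain ⟨V, _, _, φ, rfl, hφ⟩ := h'
  haveI : Finite (V ⋊[φ] K) := Finite.of_equiv _ SemidirectProduct.equivProd.symm
  have hV : Nontrivial V := Finite.one_lt_card_iff_nontrivial.1 hm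
  have hmem : ∀ x : V ⋊[φ] K, x ∈ (SemidirectProduct.inr : K →* V ⋊[φ] K).range ↔ x.left = 1 := by
    intro x
    constructor
    · rintro ⟨k, rfl⟩; rfl
    · intro hx; exact ⟨x.right, by ext <;> simp [hx]⟩
  have hF : Cfsg.IsFrobeniusComplement (SemidirectProduct.inr : K →* V ⋊[φ] K).range := by
    rw [H2.isFrob_iff]
    refine ⟨?_, ?_, ?_⟩
    · obtain ⟨k, hk⟩ := exists_ne (1 : K)
      intro h0
      have : (SemidirectProduct.inr k : V ⋊[φ] K) ∈ (⊥ : Subgroup (V ⋊[φ] K)) := h0 ▸ ⟨k, rfl⟩
      exact hk (SemidirectProduct.inr_injective (by rw [mem_bot.1 this, map_one]))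
    · obtain ⟨v, hv⟩ := exists_ne (1 : V)
      intro h0
      have : (SemidirectProduct.inl v : V ⋊[φ] K) ∈ (SemidirectProduct.inr : K →* V ⋊[φ] K).range :=
        h0 ▸ mem_top _
      exact hv ((hmem _).1 this)
    · rintro _ ⟨k, rfl⟩ hk g hg
      rw [hmem] at hg ⊢
      have hk1 : k ≠ 1 := fun h0 => hk (by rw [h0, map_one])
      simp only [SemidirectProduct.mul_left, SemidirectProduct.inv_left, SemidirectProduct.left_inr,
        map_one, mul_one, SemidirectProduct.mul_right, SemidirectProduct.inv_right,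
        SemidirectProduct.right_inr, map_mul φ, MulAut.mul_apply] at hg
      rw [← map_mul (φ g.right⁻¹), EmbeddingLike.map_eq_one_iff] at hg
      exact hφ k hk1 _ (inv_mul_eq_one.1 hg).symm
  refine ⟨V ⋊[φ] K, inferInstance, inferInstance, _, hF,
    ⟨e.symm.trans (MonoidHom.ofInjective SemidirectProduct.inr_injective)⟩, ?_⟩
  rw [H2.card_frobKernel hF]
  have h1 := (SemidirectProduct.inr : K →* V ⋊[φ] K).range.card_mul_index
  rw [SemidirectProduct.card, ← Nat.card_congr (MonoidHom.ofInjective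
    (SemidirectProduct.inr_injective (φ := φ))).toEquiv, mul_comm (Nat.card V)] at h1
  exact Nat.eq_of_mul_eq_mul_left Nat.card_pos h1

theorem FPF.of_frob {L : Type*} [Group L] [Finite L] {C : Subgroup L}
    (hC : Cfsg.IsFrobeniusComplement C) :
    FPF C (Nat.card (Cfsg.frobeniusKernel C)) ∧ 1 < Nat.card (Cfsg.frobeniusKernel C) := by
  obtain ⟨N, hN, hn, hc⟩ := Cfsg.Agent.S0035.result C hC
  constructor
  · have : Nat.card (Cfsg.frobeniusKernel C) = Nat.card N := by rw [← hN]; rfl
    rw [this]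
    refine FPF.intro ((MulAut.conjNormal (H := N)).comp C.subtype) fun h hh v hv => ?_
    by_contra hv1
    have hv' : (h : L) * v * (h : L)⁻¹ = v := by
      have := congrArg Subtype.val hv
      simpa using this
    have hvk : (v : L) ∈ Cfsg.frobeniusKernel C := by rw [← hN]; exact v.2
    have h2 : (h : L) ∈ Cfsg.frobeniusKernel C :=
      H2.mem_frobKernel_of_commute hC hvk (fun h0 => hv1 (Subtype.ext h0)) (mul_inv_eq_iff_eq_mul.1 hv').symm
    exact hh (Subtype.ext (H2.eq_one_of_mem_frobKernel h2 1 (by simp)))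
  · rw [H2.card_frobKernel hC]
    exact H2.two_le_index_of_ne_top hC.2.1

/-- The additive form of `FPF.intro`. -/
theorem FPF.of_rep {R M : Type*} [CommSemiring R] [AddCommGroup M] [Module R M] [Finite M]
    (ρ : Representation R H M) (hf : ∀ h : H, h ≠ 1 → ∀ v : M, ρ h v = v → v = 0) :
    FPF H (Nat.card M) := by
  let φ : H →* MulAut (Multiplicative M) :=
    { toFun := fun h =>
        { toFun := fun v => Multiplicative.ofAdd (ρ h v.toAdd)
          invFun := fun v => Multiplicative.ofAdd (ρ h⁻¹ v.toAdd)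
          left_inv := fun v => by simp [← Module.End.mul_apply, ← map_mul]
          right_inv := fun v => by simp [← Module.End.mul_apply, ← map_mul]
          map_mul' := fun v w => by simp }
      map_one' := by ext v; simp
      map_mul' := fun a b => by ext v; simp }
  have := FPF.intro φ fun h hh v hv => by
    have : ρ h v.toAdd = v.toAdd := congrArg Multiplicative.toAdd hv
    exact hf h hh _ this
  exact this

section Norm

variable {R M : Type*} [CommRing R] [AddCommGroup M] [Module R M]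

/-- The norm of `h` in a representation. -/
noncomputable def repNrm (ρ : Representation R H M) (h : H) (v : M) : M :=
  ∑ i ∈ Finset.range (orderOf h), ρ (h ^ i) v

theorem repNrm_fixed (ρ : Representation R H M) (h : H) (v : M) :
    ρ h (repNrm ρ h v) = repNrm ρ h v := by
  unfold repNrm
  rw [map_sum]
  have h1 : ∀ i, ρ h (ρ (h ^ i) v) = ρ (h ^ (i + 1)) v := fun i => by
    rw [← Module.End.mul_apply, ← map_mul, pow_succ']
  simp only [h1]
  have h2 := Finset.sum_range_succ' (fun i => ρ (h ^ i) v) (orderOf h)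
  rw [Finset.sum_range_succ, pow_orderOf_eq_one, pow_zero] at h2
  exact (add_right_cancel h2).symm

theorem repNrm_of_fixed (ρ : Representation R H M) {h : H} {v : M} (hv : ρ h v = v) :
    repNrm ρ h v = orderOf h • v := by
  unfold repNrm
  have h1 : ∀ i, ρ (h ^ i) v = v := fun i => by
    induction i with
    | zero => simp
    | succ i ih => rw [pow_succ, map_mul, Module.End.mul_apply, hv, ih]
  simp [-map_pow, h1]

theorem repNrm_add (ρ : Representation R H M) (h : H) (v w : M) :
    repNrm ρ h (v + w) = repNrm ρ h v + repNrm ρ h w := by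
  simp [repNrm, Finset.sum_add_distrib]

theorem repNrm_smul (ρ : Representation R H M) (h : H) (c : R) (v : M) :
    repNrm ρ h (c • v) = c • repNrm ρ h v := by
  simp [repNrm, Finset.smul_sum]

theorem repNrm_map {N : Type*} [AddCommGroup N] [Module R N] (ρ : Representation R H M)
    (σ : Representation R H N) (f : M →+ N) (hf : ∀ h v, f (ρ h v) = σ h (f v)) (h : H) (v : M) :
    f (repNrm ρ h v) = repNrm σ h (f v) := by
  simp [repNrm, hf, -map_pow]

end Norm

theorem eq_zero_of_coprime_nsmul {M : Type*} [AddCommGroup M] {a b : ℕ} (hab : a.Coprime b) {v : M}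
    (ha : a • v = 0) (hb : b • v = 0) : v = 0 := by
  have h1 := addOrderOf_dvd_of_nsmul_eq_zero ha
  have h2 := addOrderOf_dvd_of_nsmul_eq_zero hb
  exact AddMonoid.addOrderOf_eq_one_iff.1 (Nat.eq_one_of_dvd_coprimes hab h1 h2)

/-- A finitely generated infinite abelian group is not `r`-divisible, and its quotient by `r` is
finite. -/
theorem quotient_finite_nontrivial {M : Type*} [AddCommGroup M] [Module.Finite ℤ M] [Infinite M]
    {r : ℕ} (hr : 1 < r) :
    Finite (M ⧸ LinearMap.range ((r : ℤ) • LinearMap.id : M →ₗ[ℤ] M)) ∧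
      Nontrivial (M ⧸ LinearMap.range ((r : ℤ) • LinearMap.id : M →ₗ[ℤ] M)) := by
  constructor
  · apply Module.finite_of_fg_torsion
    intro x
    refine ⟨⟨(r : ℤ), mem_nonZeroDivisors_of_ne_zero (by omega)⟩, ?_⟩
    obtain ⟨x, rfl⟩ := Submodule.Quotient.mk_surjective _ x
    rw [Submonoid.smul_def, ← Submodule.Quotient.mk_smul, Submodule.Quotient.mk_eq_zero]
    exact ⟨x, rfl⟩
  · rw [Submodule.Quotient.nontrivial_iff]
    intro h0
    obtain ⟨n, hn, hn0⟩ := Submodule.exists_sub_one_mem_and_smul_eq_zero_of_fg_of_le_smul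
      (Ideal.span {(r : ℤ)}) (⊤ : Submodule ℤ M) Module.Finite.fg_top (by
        intro x _
        have : x ∈ LinearMap.range ((r : ℤ) • LinearMap.id : M →ₗ[ℤ] M) := h0 ▸ Submodule.mem_top
        obtain ⟨y, rfl⟩ := this
        exact Submodule.smul_mem_smul (Ideal.mem_span_singleton_self _) Submodule.mem_top)
    have hn1 : n ≠ 0 := by
      rintro rfl
      rw [Ideal.mem_span_singleton] at hn
      have := Int.natAbs_dvd_natAbs.2 hn
      simp at this
      omega
    have : Finite M := Module.finite_of_fg_torsion M fun x =>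
      ⟨⟨n, mem_nonZeroDivisors_of_ne_zero hn1⟩, hn0 x Submodule.mem_top⟩
    exact not_finite M

/-- The span of an orbit. -/
theorem orbit_span_le_comap {R M : Type*} [CommRing R] [AddCommGroup M] [Module R M]
    (ρ : Representation R H M) (v : M) (g : H) :
    Submodule.span R (Set.range fun h => ρ h v) ≤
      (Submodule.span R (Set.range fun h => ρ h v)).comap (ρ g) := by
  rw [Submodule.span_le]
  rintro _ ⟨h, rfl⟩
  apply Submodule.subset_span
  exact ⟨g * h, by simp⟩

theorem range_smul_le_comap {R M : Type*} [CommRing R] [AddCommGroup M] [Module R M]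
    (ρ : Representation R H M) (c : R) (g : H) :
    LinearMap.range (c • LinearMap.id : M →ₗ[R] M) ≤
      (LinearMap.range (c • LinearMap.id : M →ₗ[R] M)).comap (ρ g) := by
  rintro _ ⟨x, rfl⟩
  exact ⟨ρ g x, by simp⟩

/-- Reduction modulo `r` of a finitely generated infinite module on which the norms vanish. -/
theorem exists_rep_mod {M : Type u} [AddCommGroup M] [Module.Finite ℤ M] [Infinite M]
    (ρ : Representation ℤ H M) (hf : ∀ h : H, h ≠ 1 → ∀ v : M, repNrm ρ h v = 0) {r : ℕ}
    (hr : 1 < r) :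
    ∃ (W : Type u) (_ : AddCommGroup W) (_ : Finite W) (_ : Nontrivial W) (σ : Representation ℤ H W),
      (∀ w : W, r • w = 0) ∧ ∀ h : H, h ≠ 1 → ∀ w : W, repNrm σ h w = 0 := by
  obtain ⟨h1, h2⟩ := quotient_finite_nontrivial (M := M) hr
  let σ := ρ.quotient _ (range_smul_le_comap ρ (r : ℤ))
  have hA : ∀ w : M ⧸ LinearMap.range ((r : ℤ) • LinearMap.id : M →ₗ[ℤ] M), r • w = 0 := by
    intro x
    obtain ⟨x, rfl⟩ := Submodule.Quotient.mk_surjective _ x
    rw [← natCast_zsmul, ← Submodule.Quotient.mk_smul, Submodule.Quotient.mk_eq_zero]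
    exact ⟨x, rfl⟩
  have hB : ∀ h : H, h ≠ 1 → ∀ w, repNrm σ h w = 0 := by
    intro h hh x
    obtain ⟨x, rfl⟩ := Submodule.Quotient.mk_surjective _ x
    have := repNrm_map ρ σ (Submodule.mkQ _).toAddMonoidHom (fun _ _ => rfl) h x
    rw [hf h hh, map_zero] at this
    exact this.symm
  exact ⟨_, _, h1, h2, σ, hA, hB⟩

theorem fpf_of_repNrm [Finite H] {R M : Type*} [CommRing R] [AddCommGroup M] [Module R M]
    (ρ : Representation R H M) (hf : ∀ h : H, h ≠ 1 → ∀ v : M, repNrm ρ h v = 0) {r : ℕ}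
    (hr : r.Coprime (Nat.card H)) (h0 : ∀ v : M, r • v = 0) (h : H) (hh : h ≠ 1) (v : M)
    (hv : ρ h v = v) : v = 0 := by
  have h1 := hf h hh v
  rw [repNrm_of_fixed ρ hv] at h1
  exact eq_zero_of_coprime_nsmul (hr.coprime_dvd_right (orderOf_dvd_natCard h)) (h0 v) h1

/-- A group acting fixed-point-freely on a nonzero abelian group acts fixed-point-freely on a
nontrivial finite group. -/
theorem exists_fpf_of_rep [Finite H] {M : Type*} [AddCommGroup M] [Nontrivial M]
    (ρ : Representation ℤ H M) (hf : ∀ h : H, h ≠ 1 → ∀ v : M, ρ h v = v → v = 0) :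
    ∃ m, 1 < m ∧ FPF H m := by
  obtain ⟨v, hv⟩ := exists_ne (0 : M)
  let σ := ρ.subrepresentation _ (orbit_span_le_comap ρ v)
  have hσ : ∀ h : H, h ≠ 1 → ∀ w, σ h w = w → w = 0 := fun h hh w hw =>
    Subtype.ext (hf h hh w (congrArg Subtype.val hw))
  have hfg : Module.Finite ℤ (Submodule.span ℤ (Set.range fun h => ρ h v)) :=
    Module.Finite.span_of_finite ℤ (Set.finite_range _)
  have hnt : Nontrivial (Submodule.span ℤ (Set.range fun h => ρ h v)) :=
    ⟨⟨⟨v, Submodule.subset_span ⟨1, by simp⟩⟩, 0, fun h => hv (congrArg Subtype.val h)⟩⟩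
  rcases finite_or_infinite (Submodule.span ℤ (Set.range fun h => ρ h v)) with hfin | hinf
  · exact ⟨_, Finite.one_lt_card_iff_nontrivial.2 hnt, FPF.of_rep σ hσ⟩
  · obtain ⟨W, _, _, _, τ, h1, h2⟩ := exists_rep_mod σ
      (fun h hh w => hσ h hh _ (repNrm_fixed σ h w)) (r := Nat.card H + 1)
      (by have := Nat.card_pos (α := H); omega)
    exact ⟨_, Finite.one_lt_card_iff_nontrivial.2 inferInstance,
      FPF.of_rep τ (fpf_of_repNrm τ h2 (by simp) h1)⟩

theorem exists_fpf_of_ring [Finite H] {D M : Type*} [Ring D] [AddCommGroup M] [Module D M]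
    [Nontrivial M] (f : H →* D) (hf : ∀ h : H, h ≠ 1 → ∀ v : M, f h • v = v → v = 0) :
    ∃ m, 1 < m ∧ FPF H m := by
  let ρ : Representation ℤ H M :=
    { toFun := fun h => (DistribSMul.toAddMonoidHom M (f h)).toIntLinearMap
      map_one' := by ext; simp
      map_mul' := fun a b => by ext; simp [mul_smul] }
  exact exists_fpf_of_rep ρ hf

theorem exists_fpf_of_divisionRing [Finite H] {D : Type*} [DivisionRing D] (f : H →* D)
    (hf : Function.Injective f) : ∃ m, 1 < m ∧ FPF H m := by
  refine exists_fpf_of_ring (M := D) f fun h hh v hv => ?_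
  have h1 : (f h - 1) * v = 0 := by rw [sub_mul, one_mul, sub_eq_zero]; exact hv
  rcases mul_eq_zero.1 h1 with h2 | h2
  · exact absurd (hf (by rw [map_one, ← sub_eq_zero, h2])) hh
  · exact h2

end H1
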