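import Cfsg.Agent.H1.FrobCons
import Cfsg.Agent.S0033

/-!
Lifting fixed-point-free representations to characteristic zero; direct products of Frobenius
complements of coprime orders.
-/

set_option autoImplicit false

namespace H1

open Subgroup
open scoped IsMulCommutative

universe u

variable {H : Type u} [Group H]

/-- The regular representation on integer valued functions. -/
def regRep (H : Type u) [Group H] : Representation ℤ H (H → ℤ) where
  toFun x := LinearMap.funLeft ℤ ℤ fun y => x⁻¹ * y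
  map_one' := by ext f y; simp
  map_mul' a b := by ext f y; simp [mul_assoc]

theorem regRep_apply (x : H) (f : H → ℤ) (y : H) : regRep H x f y = f (x⁻¹ * y) := rfl

theorem repNrm_conj {R M : Type*} [CommRing R] [AddCommGroup M] [Module R M]
    (ρ : Representation R H M) (x g : H) (v : M) :
    ρ x (repNrm ρ g v) = repNrm ρ (x * g * x⁻¹) (ρ x v) := by
  have h1 : orderOf (x * g * x⁻¹) = orderOf g := (MulAut.conj x).orderOf_eq g
  unfold repNrm
  rw [map_sum, h1]
  refine Finset.sum_congr rfl fun i _ => ?_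
  rw [conj_pow, ← Module.End.mul_apply, ← Module.End.mul_apply, ← map_mul, ← map_mul,
    inv_mul_cancel_right]

theorem exists_infinite_rep [Finite H] {p : ℕ} [hp : Fact p.Prime] (hc : p.Coprime (Nat.card H))
    {W : Type*} [AddCommGroup W] (ρ : Representation ℤ H W)
    (hf : ∀ h : H, h ≠ 1 → ∀ v : W, repNrm ρ h v = 0) (l : W →+ ZMod p) {w : W} (hw : l w ≠ 0) :
    ∃ (M : Type u) (_ : AddCommGroup M) (_ : Module.Finite ℤ M) (_ : Infinite M)
      (σ : Representation ℤ H M), ∀ h : H, h ≠ 1 → ∀ v : M, repNrm σ h v = 0 := by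
  classical
  have := Fintype.ofFinite H
  let J : Submodule ℤ (H → ℤ) := Submodule.span ℤ {v | ∃ g : H, g ≠ 1 ∧ ∃ f, v = repNrm (regRep H) g f}
  have hJ : ∀ x, J ≤ J.comap (regRep H x) := fun x => by
    rw [Submodule.span_le]
    rintro _ ⟨g, hg, f, rfl⟩
    apply Submodule.subset_span
    exact ⟨x * g * x⁻¹, by simpa using hg, _, repNrm_conj _ _ _ _⟩
  refine ⟨(H → ℤ) ⧸ J, inferInstance, inferInstance, ?_, (regRep H).quotient J hJ, ?_⟩
  swap
  · intro h hh x
    obtain ⟨x, rfl⟩ := Submodule.Quotient.mk_surjective _ x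
    have := repNrm_map (regRep H) ((regRep H).quotient J hJ) (Submodule.mkQ _).toAddMonoidHom
      (fun _ _ => rfl) h x
    refine this.symm.trans ?_
    exact (Submodule.Quotient.mk_eq_zero _).2 (Submodule.subset_span ⟨h, hh, x, rfl⟩)
  rw [← not_finite_iff_infinite]
  intro hfin
  let a : H → ℤ := fun x => (l (ρ x⁻¹ w)).val
  have ha : ∀ x, (a x : ZMod p) = l (ρ x⁻¹ w) := fun x => by simp [a]
  let A : Matrix H H ℤ := Matrix.of fun y h => a (h⁻¹ * y)
  let E : Module.End ℤ (H → ℤ) := Matrix.toLin' A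
  have hE : ∀ f y, E f y = ∑ h, a (h⁻¹ * y) * f h := fun f y => rfl
  have hcomm : ∀ x f, E (regRep H x f) = regRep H x (E f) := fun x f => by
    ext y
    rw [regRep_apply, hE, hE, ← Equiv.sum_comp (Equiv.mulLeft x)]
    simp [regRep_apply, mul_assoc]
  have hcomm' : ∀ g f, E (repNrm (regRep H) g f) = repNrm (regRep H) g (E f) := fun g f =>
    repNrm_map (regRep H) (regRep H) E.toAddMonoidHom hcomm g f
  have hdiv : ∀ g, g ≠ 1 → ∀ f, ∃ f', repNrm (regRep H) g (E f) = (p : ℤ) • f' := by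
    intro g hg f
    have : ∀ y, (p : ℤ) ∣ repNrm (regRep H) g (E f) y := fun y => by
      rw [← ZMod.intCast_zmod_eq_zero_iff_dvd]
      unfold repNrm
      simp only [Finset.sum_apply, regRep_apply, hE, Int.cast_sum, Int.cast_mul, ha]
      rw [Finset.sum_comm]
      refine Finset.sum_eq_zero fun h _ => ?_
      rw [← Finset.sum_mul, ← map_sum]
      have h1 : ∑ i ∈ Finset.range (orderOf g), ρ (h⁻¹ * ((g ^ i)⁻¹ * y))⁻¹ w =
          ρ y⁻¹ (repNrm ρ g (ρ h w)) := by
        unfold repNrm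
        rw [map_sum]
        refine Finset.sum_congr rfl fun i _ => ?_
        rw [← Module.End.mul_apply, ← Module.End.mul_apply, ← map_mul, ← map_mul]
        simp [mul_assoc]
      rw [h1, hf g hg]; simp
    choose f' hf' using this
    exact ⟨f', by ext y; simp [hf' y]⟩
  have hpow : ∀ g, g ≠ 1 → ∀ k : ℕ, ∀ f, ∃ f', (E ^ k) (repNrm (regRep H) g f) = (p : ℤ) ^ k • f' := by
    intro g hg k
    induction k with
    | zero => intro f; exact ⟨repNrm (regRep H) g f, by simp⟩
    | succ k ih =>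
      intro f
      obtain ⟨f', hf'⟩ := ih f
      obtain ⟨f'', hf''⟩ := hdiv g hg f'
      have h1 : (orderOf g : ℤ) • (E ^ (k + 1)) (repNrm (regRep H) g f) = (p : ℤ) ^ (k + 1) • f'' := by
        have h2 : ∀ j : ℕ, ∀ f, (E ^ j) (repNrm (regRep H) g f) = repNrm (regRep H) g ((E ^ j) f) := by
          intro j
          induction j with
          | zero => simp
          | succ j ihj => intro f; rw [pow_succ, Module.End.mul_apply, hcomm', ihj]; rfl
        rw [← map_smul, natCast_zsmul, ← repNrm_of_fixed _ (repNrm_fixed (regRep H) g f), h2,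
          pow_succ', Module.End.mul_apply, hf', map_smul, repNrm_smul, hf'', smul_smul, pow_succ]
      have hcop : IsCoprime ((p : ℤ) ^ (k + 1)) (orderOf g : ℤ) :=
        IsCoprime.pow_left (Nat.isCoprime_iff_coprime.2 (hc.coprime_dvd_right (orderOf_dvd_natCard g)))
      obtain ⟨s, t, hst⟩ := hcop
      refine ⟨s • (E ^ (k + 1)) (repNrm (regRep H) g f) + t • f'', ?_⟩
      rw [smul_add, smul_comm _ t, ← h1, smul_smul, smul_smul, ← add_smul, mul_comm _ s, hst, one_smul]
  have hJ2 : ∀ k : ℕ, ∀ v ∈ J, ∃ f', (E ^ k) v = (p : ℤ) ^ k • f' := by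
    intro k v hv
    induction hv using Submodule.span_induction with
    | mem v hv => obtain ⟨g, hg, f, rfl⟩ := hv; exact hpow g hg k f
    | zero => exact ⟨0, by simp⟩
    | add v v' _ _ h1 h2 =>
      obtain ⟨f, hf⟩ := h1
      obtain ⟨f', hf'⟩ := h2
      exact ⟨f + f', by rw [map_add, hf, hf', smul_add]⟩
    | smul c v _ h1 =>
      obtain ⟨f, hf⟩ := h1
      exact ⟨c • f, by rw [map_smul, hf, smul_comm]⟩
  obtain ⟨j, m, hm, hN⟩ := Nat.exists_eq_pow_mul_and_not_dvd (n := Nat.card ((H → ℤ) ⧸ J))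
    Nat.card_pos.ne' p hp.out.ne_one
  have hcol : ∀ y h, (p : ℤ) ∣ (A ^ (j + 1)) y h := by
    intro y h
    have h1 : (Nat.card ((H → ℤ) ⧸ J)) • (Pi.single h 1 : H → ℤ) ∈ J := by
      rw [← Submodule.Quotient.mk_eq_zero, ← Submodule.mkQ_apply, map_nsmul]
      exact card_nsmul_eq_zero'
    obtain ⟨f', hf'⟩ := hJ2 (j + 1) _ h1
    have h2 := congrFun hf' y
    rw [map_nsmul, hN, ← Matrix.toLin'_pow] at h2
    simp only [Matrix.toLin'_apply, Matrix.mulVec_single_one, Pi.smul_apply, Matrix.col_apply,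
      nsmul_eq_mul, smul_eq_mul, Nat.cast_mul, Nat.cast_pow] at h2
    rw [pow_succ (p : ℤ), mul_assoc, mul_assoc] at h2
    have h3 := mul_left_cancel₀ (pow_ne_zero j (by exact_mod_cast hp.out.ne_zero)) h2
    have h4 : IsCoprime (p : ℤ) (m : ℤ) :=
      Nat.isCoprime_iff_coprime.2 ((Nat.Prime.coprime_iff_not_dvd hp.out).2 hm)
    exact h4.dvd_of_dvd_mul_left ⟨_, h3⟩
  have hnil : IsNilpotent (A.map (Int.castRingHom (ZMod p))) := by
    refine ⟨j + 1, ?_⟩
    rw [← RingHom.mapMatrix_apply, ← map_pow]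
    ext y h
    simpa [ZMod.intCast_zmod_eq_zero_iff_dvd] using hcol y h
  have h5 := (Matrix.isNilpotent_trace_of_isNilpotent hnil).eq_zero
  simp only [Matrix.trace, Matrix.diag_apply, Matrix.map_apply, A, Matrix.of_apply, inv_mul_cancel,
    eq_intCast, ha, inv_one, map_one, Module.End.one_apply, Finset.sum_const, Finset.card_univ,
    nsmul_eq_mul] at h5
  rcases mul_eq_zero.1 h5 with h6 | h6
  · rw [ZMod.natCast_eq_zero_iff, ← Nat.card_eq_fintype_card] at h6
    exact (Nat.Prime.coprime_iff_not_dvd hp.out).1 hc h6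
  · exact hw h6

theorem FPF.coprime [Finite H] {m : ℕ} (h : FPF H m) : m.Coprime (Nat.card H) := by
  rcases subsingleton_or_nontrivial H with hH | hH
  · simp
  rcases (Nat.succ_le_of_lt h.pos).eq_or_lt with hm | hm
  · rw [← hm]; simp
  obtain ⟨L, _, _, C, h1, ⟨e⟩, h2⟩ := h.exists_frob hm
  rw [← h2, H2.card_frobKernel h1, Nat.card_congr e.toEquiv]
  exact (H2.frob_coprime h1).symm

theorem exists_add_hom_field_ne_zero (K : Type*) [Field K] {W : Type*} [AddCommGroup W]
    [Module K W] {w : W} (hw : w ≠ 0) : ∃ l : W →+ K, l w ≠ 0 := by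
  obtain ⟨l, hl⟩ := Module.Projective.exists_dual_ne_zero K hw
  exact ⟨l.toAddMonoidHom, hl⟩

theorem exists_add_hom_zmod_ne_zero {W : Type*} [AddCommGroup W] {p : ℕ} [Fact p.Prime]
    (h : ∀ w : W, p • w = 0) {w : W} (hw : w ≠ 0) : ∃ l : W →+ ZMod p, l w ≠ 0 := by
  let _ : Module (ZMod p) W := AddCommGroup.zmodModule h
  exact exists_add_hom_field_ne_zero (ZMod p) hw

theorem exists_add_hom_field_inj (K : Type*) [Field K] {W : Type*} [AddCommGroup W]
    [Module K W] {w : W} (hw : w ≠ 0) : ∃ l : K →+ W, ∀ c, l c = 0 → c = 0 :=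
  ⟨(smulAddHom K W).flip w, fun _ hc => (smul_eq_zero.1 hc).resolve_right hw⟩

theorem FPF.exists_infinite_rep [Finite H] [Nontrivial H] {m : ℕ} (h : FPF H m) (hm : 1 < m) :
    ∃ (M : Type u) (_ : AddCommGroup M) (_ : Module.Finite ℤ M) (_ : Infinite M)
      (σ : Representation ℤ H M), ∀ h : H, h ≠ 1 → ∀ v : M, repNrm σ h v = 0 := by
  have hcop := h.coprime
  obtain ⟨V, _, _, φ, rfl, hφ⟩ := h
  have : Nontrivial V := Finite.one_lt_card_iff_nontrivial.1 hm
  obtain ⟨q, hq, hqd⟩ := Nat.exists_prime_and_dvd (Finite.one_lt_card (α := H)).ne'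
  have : Fact q.Prime := ⟨hq⟩
  obtain ⟨x, hx⟩ := exists_prime_orderOf_dvd_card' q hqd
  have hx1 : x ≠ 1 := by rintro rfl; rw [orderOf_one] at hx; exact hq.one_lt.ne hx
  have hnil : Group.IsNilpotent V := by
    refine Cfsg.Agent.S0033.result (φ x) (hφ x hx1) q hq (orderOf_eq_prime ?_ ?_)
    · rw [← map_pow, ← hx, pow_orderOf_eq_one, map_one]
    · intro h0
      obtain ⟨v, hv⟩ := exists_ne (1 : V)
      exact hv (hφ x hx1 v (by rw [h0]; rfl))
  have hZ : Nontrivial (center V) := (nontrivial_iff_ne_bot _).2 (Group.IsNilpotent.center_ne_bot V)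
  obtain ⟨p, hp, hpd⟩ := Nat.exists_prime_and_dvd (Finite.one_lt_card (α := center V)).ne'
  have : Fact p.Prime := ⟨hp⟩
  obtain ⟨z, hz⟩ := exists_prime_orderOf_dvd_card' p hpd
  let S : Subgroup (center V) := (powMonoidHom p : center V →* center V).ker
  have hZφ : ∀ h : H, ∀ v ∈ center V, φ h v ∈ center V := fun h v hv => by
    rw [mem_center_iff] at hv ⊢
    intro g
    obtain ⟨g, rfl⟩ := (φ h).surjective g
    rw [← map_mul, hv, map_mul]
  let f : H → S →* S := fun h =>
    { toFun := fun s => ⟨⟨φ h s.1.1, hZφ h _ s.1.2⟩, Subtype.ext (by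
        have : (s.1.1 : V) ^ p = 1 := congrArg Subtype.val s.2
        change (φ h s.1.1) ^ p = 1
        rw [← map_pow, this, map_one])⟩
      map_one' := by ext; simp
      map_mul' := fun a b => by ext; simp }
  let ρ : Representation ℤ H (Additive S) :=
    { toFun := fun h => (MonoidHom.toAdditive (f h)).toIntLinearMap
      map_one' := by ext s; simp [f]
      map_mul' := fun a b => by ext s; simp [f] }
  have hρ : ∀ h : H, h ≠ 1 → ∀ v, ρ h v = v → v = 0 := fun h hh v hv =>
    Subtype.ext (Subtype.ext (hφ h hh _ (congrArg (fun s : Additive S => (s.toMul.1.1 : V)) hv)))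
  have hzS : z ∈ S := by change z ^ p = 1; rw [← hz, pow_orderOf_eq_one]
  obtain ⟨l, hl⟩ := exists_add_hom_zmod_ne_zero (W := Additive S) (p := p)
    (fun w => Subtype.ext w.toMul.2) (w := Additive.ofMul ⟨z, hzS⟩) (by
      intro h0
      have : z = 1 := congrArg (fun s : Additive S => s.toMul.1) h0
      rw [this, orderOf_one] at hz
      exact hp.one_lt.ne hz)
  exact H1.exists_infinite_rep (hcop.coprime_dvd_left (hpd.trans (card_subgroup_dvd_card _))) ρ
    (fun h hh v => hρ h hh _ (repNrm_fixed ρ h v)) l hl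

theorem FPF.exists_prod {A B : Type*} [Group A] [Finite A] [Nontrivial A] [Group B] [Finite B]
    [Nontrivial B] {m n : ℕ} (hA : FPF A m) (hm : 1 < m) (hB : FPF B n) (hn : 1 < n)
    (hc : (Nat.card A).Coprime (Nat.card B)) : ∃ k, 1 < k ∧ FPF (A × B) k := by
  obtain ⟨M, _, _, _, ρ, hρ⟩ := hA.exists_infinite_rep hm
  obtain ⟨N, _, _, _, σ, hσ⟩ := hB.exists_infinite_rep hn
  obtain ⟨r, hr1, hr⟩ := Nat.exists_infinite_primes (Nat.card A * Nat.card B + 1)
  have : Fact r.Prime := ⟨hr⟩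
  have hrc : r.Coprime (Nat.card A * Nat.card B) :=
    (Nat.Prime.coprime_iff_not_dvd hr).2 fun h =>
      absurd (Nat.le_of_dvd (Nat.mul_pos Nat.card_pos Nat.card_pos) h) (by omega)
  obtain ⟨V, _, _, _, ρ', hV, hρ'⟩ := exists_rep_mod ρ hρ hr.one_lt
  obtain ⟨W, _, _, _, σ', hW, hσ'⟩ := exists_rep_mod σ hσ hr.one_lt
  have : Nontrivial (V →ₗ[ℤ] W) := by
    obtain ⟨v, hv⟩ := exists_ne (0 : V)
    obtain ⟨w, hw⟩ := exists_ne (0 : W)
    obtain ⟨l, hl⟩ := exists_add_hom_zmod_ne_zero hV hv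
    let _ : Module (ZMod r) W := AddCommGroup.zmodModule hW
    obtain ⟨l', hl'⟩ := exists_add_hom_field_inj (ZMod r) hw
    exact ⟨⟨(l'.comp l).toIntLinearMap, 0, fun h =>
      hl (hl' _ (congrArg (fun f : V →ₗ[ℤ] W => f v) h))⟩⟩
  let τ : Representation ℤ (A × B) (V →ₗ[ℤ] W) :=
    Representation.linHom (ρ'.comp (MonoidHom.fst A B)) (σ'.comp (MonoidHom.snd A B))
  refine exists_fpf_of_rep τ ?_
  rintro ⟨a, b⟩ hab f hf
  have hpow : ∀ k : ℕ, τ ((a, b) ^ k) f = f := fun k => by
    induction k with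
    | zero => simp
    | succ k ih => rw [pow_succ, map_mul, Module.End.mul_apply, hf, ih]
  by_cases hb : b = 1
  · have ha : a⁻¹ ≠ 1 := fun h => hab (by rw [inv_eq_one.1 h, hb]; rfl)
    have h1 : ∀ v, f (ρ' a⁻¹ v) = f v := fun v => by
      have := congrArg (fun g : V →ₗ[ℤ] W => g v) hf
      simpa [τ, hb] using this
    have h2 : ∀ (i : ℕ) v, f (ρ' (a⁻¹ ^ i) v) = f v := fun i => by
      induction i with
      | zero => simp
      | succ i ih => intro v; rw [pow_succ', map_mul, Module.End.mul_apply, h1, ih]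
    ext v
    have h3 := congrArg f (hρ' _ ha v)
    simp only [repNrm, map_sum, h2, Finset.sum_const, Finset.card_range, map_zero] at h3
    exact eq_zero_of_coprime_nsmul ((Nat.Coprime.coprime_mul_right_right hrc).coprime_dvd_right
      (orderOf_dvd_natCard a⁻¹)) (hW _) h3
  · have hb' : b ^ Nat.card A ≠ 1 := fun h =>
      hb (orderOf_eq_one_iff.1 (Nat.eq_one_of_dvd_coprimes hc (orderOf_dvd_of_pow_eq_one h)
        (orderOf_dvd_natCard b)))
    ext v
    have := congrArg (fun g : V →ₗ[ℤ] W => g v) (hpow (Nat.card A))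
    refine fpf_of_repNrm σ' hσ' (Nat.Coprime.coprime_mul_left_right hrc) hW _ hb' _ ?_
    simpa [τ, -map_pow] using this

theorem FPF.isCyclic_of_comm [Finite H] {m : ℕ} (h : FPF H m) (hm : 1 < m)
    (hc : ∀ a b : H, a * b = b * a) : IsCyclic H := by
  rcases subsingleton_or_nontrivial H with hH | hH
  · infer_instance
  obtain ⟨L, _, _, C, hF, ⟨e⟩, h2⟩ := h.exists_frob hm
  obtain ⟨N, hN, hn, -⟩ := Cfsg.Agent.S0035.result C hF
  have hN0 : N ≠ ⊥ := by
    rintro rfl
    rw [← hN] at h2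
    simp at h2
    omega
  have : IsMulCommutative C := ⟨⟨fun a b => by
    obtain ⟨a, rfl⟩ := e.surjective a
    obtain ⟨b, rfl⟩ := e.surjective b
    rw [← map_mul, hc, map_mul]⟩⟩
  have := H2.isCyclic_of_fpf_comm' C N hN0 (by rw [Subgroup.normalizer_eq_top]; exact le_top) (by
    intro a ha ha1
    rw [eq_bot_iff]
    rintro v ⟨hv, hv2⟩
    by_contra hv1
    have hvk : v ∈ Cfsg.frobeniusKernel C := by rw [← hN]; exact hv
    have h3 := H2.mem_frobKernel_of_commute hF hvk hv1
      (Subgroup.mem_centralizer_singleton_iff.1 hv2)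
    exact ha1 (H2.eq_one_of_mem_frobKernel h3 1 (by simpa using ha)))
  exact isCyclic_of_surjective e.symm e.symm.surjective

theorem FPF.coprime_of_prod {A B : Type*} [Group A] [Finite A] [Group B] [Finite B] {m : ℕ}
    (h : FPF (A × B) m) (hm : 1 < m) : (Nat.card A).Coprime (Nat.card B) := by
  apply Nat.Coprime.symm
  apply Nat.coprime_of_dvd
  intro q hq hB hA
  have : Fact q.Prime := ⟨hq⟩
  obtain ⟨a, ha⟩ := exists_prime_orderOf_dvd_card' q hA
  obtain ⟨b, hb⟩ := exists_prime_orderOf_dvd_card' q hB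
  have h1 := h.of_injective (MonoidHom.prodMap (zpowers a).subtype (zpowers b).subtype)
    (Subtype.val_injective.prodMap Subtype.val_injective)
  have h2 := h1.isCyclic_of_comm hm fun x y => mul_comm' x y
  have h3 := coprime_card_of_isCyclic_prod (zpowers a) (zpowers b)
  rw [Nat.card_zpowers, Nat.card_zpowers, ha, hb, Nat.coprime_self] at h3
  exact hq.one_lt.ne' h3

end H1
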