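import Cfsg.Agent.H1.Fr
import Cfsg.Agent.H1.Fo2

/-! Fischer's theorem: two exceptional isomorphisms. -/

set_option autoImplicit false

namespace H1.Fi
open Cfsg H18 H28 H23 Module

variable {G : Type*} [Group G] {A : Set G}

theorem LM.tab {F K V W : Type*} [Field F] [Field K] {σ : F →+* F} {τ : K →+* K} [AddCommGroup V] [Module F V]
    [AddCommGroup W] [Module K W] {Φ : Form σ V} {Ψ : Form τ W} {P : Set V} {R : Set W} {π : V → G} (h : LM Φ P A π)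
    (k : PM Ψ R) (φ : W → V) (m : ∀ v ∈ R, φ v ∈ P) (s : ∀ u ∈ P, ∃ v ∈ R, ∃ t : F, u = t • φ v)
    (e : ∀ v ∈ R, ∀ w ∈ R, ((∃ t : F, φ w = t • φ v) → ∃ t : K, w = t • v) ∧ (∀ t : K, t ≠ 0 → φ (t • v) = φ v) ∧
      ∃ t : F, φ (v + Ψ.B w v • w) = t • (φ v + Φ.B (φ w) (φ v) • φ w)) : LM Ψ R A fun v => π (φ v) where
  toPM := k
  img := Set.Subset.antisymm (by rintro _ ⟨v, hv, rfl⟩; exact h.mem (m v hv)) fun a ha => by
    obtain ⟨u, hu, rfl⟩ := h.sur ha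
    obtain ⟨v, hv, q⟩ := s u hu
    exact ⟨v, hv, (h.eq _ (m v hv) u hu).2 q⟩
  eq v hv w hw := ⟨fun q => (e v hv w hw).1 ((h.eq _ (m v hv) _ (m w hw)).1 q), by
    rintro ⟨t, rfl⟩
    rw [(e v hv v hv).2.1 t fun q => k.ne _ hw (by simp [q])]⟩
  cj v hv w hw := (h.cj _ (m v hv) _ (m w hw)).trans
    ((h.eq _ (h.cl _ (m v hv) _ (m w hw)) _ (m _ (k.cl v hv w hw))).2 (e v hv w hw).2.2)

/-- diagonal forms in dimension five -/
def d5 (ε : F3) (x y : Fin 5 → F3) : F3 := x 0 * y 0 + x 1 * y 1 + x 2 * y 2 + x 3 * y 3 + ε * (x 4 * y 4)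
/-- diagonal forms in dimension five -/
def D5 (ε : F3) : Form (RingHom.id F3) (Fin 5 → F3) :=
  Form.ofSymm (LinearMap.mk₂ F3 (d5 ε) (fun _ _ _ => by simp [d5]; ring) (fun _ _ _ => by simp [d5]; ring)
    (fun _ _ _ => by simp [d5]; ring) (fun _ _ _ => by simp [d5]; ring)) ⟨fun x y => by simp [d5, mul_comm]⟩ (by decide)
theorem pmD5 {ε : F3} (h : ε ≠ 0) : PM (D5 ε) (P3 (D5 ε)) := pm3 (fun x q => funext fun i => by
  have : d5 ε x (Pi.single i 1) = 0 := q _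
  fin_cases i <;> simpa [d5, h] using this) rfl
/-- the index of a vector -/
def ix5 (x : Fin 5 → F3) : ℕ := (x 0).val + 3 * (x 1).val + 9 * (x 2).val + 27 * (x 3).val + 81 * (x 4).val
/-- the elliptic form in dimension six -/
def b6 (x y : Fin 6 → ZMod 2) : ZMod 2 := x 0 * y 1 + x 1 * y 0 + x 2 * y 3 + x 3 * y 2 + x 4 * y 5 + x 5 * y 4
/-- the elliptic form in dimension six -/
def q6 (x : Fin 6 → ZMod 2) : ZMod 2 := x 0 + x 0 * x 1 + x 1 + x 2 * x 3 + x 4 * x 5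
/-- a table -/
def ph6 (x : Fin 5 → F3) (i : Fin 6) : ZMod 2 := ((0x220000000000006800150005ec98000000000000048000000000002a00094002771600003d000fcc180000140007d3e0012c00c9000000000000000000a800000000000120009c002559c00000000000001a000000000000880017000566b000001c0005fb400003f000f4630024300b04000002b840a630000004d90116c00000000000000000306d10194c0000023a4086b000000000000000000c00000000000038000000000000e0000200008a280 >>> (6 * ix5 x + i) : ℕ) : ZMod 2)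
/-- the hermitian form in dimension four -/
def h4 (x y : Fin 4 → K4) : K4 := c4 (x 0) * y 0 + c4 (x 1) * y 1 + c4 (x 2) * y 2 + c4 (x 3) * y 3
/-- elements by codes -/
def k4 (n : ℕ) : K4 := ⟨n, (n / 2 : ℕ)⟩
/-- multiplication of codes -/
def m4 (x y : ℕ) : ℕ := (0x9c78e400 >>> (8 * (x % 4) + 2 * (y % 4))) % 4
/-- addition of codes -/
def a4 (x y : ℕ) : ℕ := (x % 4) ^^^ (y % 4)
/-- a table -/
def tb4 (n i : ℕ) : ℕ := (0xc40000ed219d000000d9000031b98400691100447d000000000000c100007924e9000000bd0000346d8100dd1400419900000000e5d500659000000000d0950075b5000000000000000000000000500000340000bd816d000000790000c1e9240099410014dd000000000000310000d984b9000000ed0000c49d21007d4400116900000000b5750095d000000000906500d5e500000000000000000000000050ad5900a90d00000000095d00fdf900000000000000000000000005f9fd005d09000000000da90059ad000000000000000000000000050000000000000000550000000000000000550000a50000a5f5f500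 >>> (8 * n + 2 * i)) % 4
/-- a table -/
def ph4 (x : Fin 5 → F3) (i : Fin 4) : K4 := k4 (tb4 (ix5 x) i)
theorem k4_mod (n : ℕ) : k4 (n % 4) = k4 n := by
  simp only [k4, QuadraticAlgebra.mk.injEq, ZMod.natCast_eq_natCast_iff']; omega
theorem k4_m (x y : ℕ) : k4 (m4 x y) = k4 x * k4 y := by
  rw [← k4_mod x, ← k4_mod y]
  exact (by decide : ∀ x < 4, ∀ y < 4, k4 ((0x9c78e400 >>> (8 * x + 2 * y)) % 4) = k4 x * k4 y) _ (by omega) _ (by omega)
theorem k4_a (x y : ℕ) : k4 (a4 x y) = k4 x + k4 y := by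
  rw [← k4_mod x, ← k4_mod y]
  exact (by decide : ∀ x < 4, ∀ y < 4, k4 (x ^^^ y) = k4 x + k4 y) _ (by omega) _ (by omega)
/-- digits -/
def dg3 (n i : ℕ) : ℕ := n / 3 ^ i % 3
/-- the form on codes -/
def nb5 (n m : ℕ) : ℕ := (dg3 n 0 * dg3 m 0 + dg3 n 1 * dg3 m 1 + dg3 n 2 * dg3 m 2 + dg3 n 3 * dg3 m 3 + dg3 n 4 * dg3 m 4) % 3
/-- linear combinations on codes -/
def rf5 (n t m : ℕ) : ℕ := (dg3 n 0 + t * dg3 m 0) % 3 + 3 * ((dg3 n 1 + t * dg3 m 1) % 3) + 9 * ((dg3 n 2 + t * dg3 m 2) % 3) +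
  27 * ((dg3 n 3 + t * dg3 m 3) % 3) + 81 * ((dg3 n 4 + t * dg3 m 4) % 3)
/-- the hermitian form on codes -/
def hN (n m : ℕ) : ℕ := a4 (a4 (a4 (m4 (m4 (tb4 n 0) (tb4 n 0)) (tb4 m 0)) (m4 (m4 (tb4 n 1) (tb4 n 1)) (tb4 m 1)))
  (m4 (m4 (tb4 n 2) (tb4 n 2)) (tb4 m 2))) (m4 (m4 (tb4 n 3) (tb4 n 3)) (tb4 m 3))
theorem dg_ix : ∀ x (i : Fin 5), dg3 (ix5 x) i = (x i).val := all5 (by decide +kernel)
theorem ix_lt : ∀ x, ix5 x < 243 := all5 (by decide +kernel)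
theorem ix_inj {x y : Fin 5 → F3} (h : ix5 x = ix5 y) : x = y := funext fun i => ZMod.val_injective 3 (by rw [← dg_ix, h, dg_ix])
theorem nb_ix (x y : Fin 5 → F3) : nb5 (ix5 x) (ix5 y) = (d5 1 x y).val := by
  have := fun x => And.intro (dg_ix x 0) (And.intro (dg_ix x 1) (And.intro (dg_ix x 2) (And.intro (dg_ix x 3) (dg_ix x 4))))
  simp only [Fin.val_zero, Fin.val_one, Fin.val_two, show (3 : Fin 5).val = 3 from rfl, show (4 : Fin 5).val = 4 from rfl] at this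
  rw [nb5, ← ZMod.val_natCast 3]
  simp [this, d5]
theorem rf_ix (x y : Fin 5 → F3) (t : F3) : rf5 (ix5 x) t.val (ix5 y) = ix5 (x + t • y) := by
  have := fun x => And.intro (dg_ix x 0) (And.intro (dg_ix x 1) (And.intro (dg_ix x 2) (And.intro (dg_ix x 3) (dg_ix x 4))))
  simp only [Fin.val_zero, Fin.val_one, Fin.val_two, show (3 : Fin 5).val = 3 from rfl, show (4 : Fin 5).val = 4 from rfl] at this
  rw [rf5]
  simp only [this]
  simp [ix5, ZMod.val_add, ZMod.val_mul]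
theorem hN_ix (x y : Fin 5 → F3) : k4 (hN (ix5 x) (ix5 y)) = h4 (ph4 x) (ph4 y) := by
  simp only [hN, k4_a, k4_m, h4, ph4, (by decide : ∀ t : K4, c4 t = t * t)]; rfl
theorem all6 {α : Type*} {q : (Fin 6 → α) → Prop} (h : ∀ a b c d e f, q ![a, b, c, d, e, f]) (x : Fin 6 → α) : q x := by
  convert h (x 0) (x 1) (x 2) (x 3) (x 4) (x 5)
  ext i; fin_cases i <;> rfl
theorem all4 {α : Type*} {q : (Fin 4 → α) → Prop} (h : ∀ a b c d, q ![a, b, c, d]) (x : Fin 4 → α) : q x := by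
  convert h (x 0) (x 1) (x 2) (x 3)
  ext i; fin_cases i <;> rfl
theorem ph6_a : ∀ a b c d e, d5 2 ![a, b, c, d, e] ![a, b, c, d, e] = 1 → q6 (ph6 ![a, b, c, d, e]) = 1 ∧
    (∀ t : F3, t ≠ 0 → ph6 (t • ![a, b, c, d, e]) = ph6 ![a, b, c, d, e]) ∧ ∀ a' b' c' d' e',
      d5 2 ![a', b', c', d', e'] ![a', b', c', d', e'] = 1 →
        (ph6 ![a', b', c', d', e'] = ph6 ![a, b, c, d, e] → ∃ t : F3, ![a', b', c', d', e'] = t • ![a, b, c, d, e]) ∧
        ph6 (![a, b, c, d, e] + d5 2 ![a', b', c', d', e'] ![a, b, c, d, e] • ![a', b', c', d', e']) = ph6 ![a, b, c, d, e] +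
          b6 (ph6 ![a', b', c', d', e']) (ph6 ![a, b, c, d, e]) • ph6 ![a', b', c', d', e'] := by decide +kernel
theorem ph6_b : ∀ a b c d e f, q6 ![a, b, c, d, e, f] = 1 → ∃ a' b' c' d' e', d5 2 ![a', b', c', d', e'] ![a', b', c', d', e'] = 1 ∧
    ![a, b, c, d, e, f] = ph6 ![a', b', c', d', e'] := by decide +kernel
set_option synthInstance.maxSize 2000 in
theorem ph4_c : ∀ n < 243, nb5 n n = 1 → ∀ m < 243, nb5 m m = 1 → ((∃ t : Fin 4, ∀ i : Fin 4, tb4 m i = m4 t (tb4 n i)) →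
    m = n ∨ m = rf5 0 2 n) ∧ (H27.force (rf5 n (nb5 m n) m) fun r => H27.force (hN m n) fun h =>
      decide (∃ t : Fin 4, ∀ i : Fin 4, tb4 r i = m4 t (a4 (tb4 n i) (m4 h (tb4 m i))))) = true := by
  decide +kernel
theorem ph4_a : ∀ a b c d e, d5 1 ![a, b, c, d, e] ![a, b, c, d, e] = 1 →
    (ph4 ![a, b, c, d, e] ≠ 0 ∧ h4 (ph4 ![a, b, c, d, e]) (ph4 ![a, b, c, d, e]) = 0) ∧
    (∀ t : F3, t ≠ 0 → ph4 (t • ![a, b, c, d, e]) = ph4 ![a, b, c, d, e]) := by decide +kernel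
theorem ph4_d {v w : Fin 5 → F3} (hv : d5 1 v v = 1) (hw : d5 1 w w = 1) : ((∃ t : K4, ph4 w = t • ph4 v) → ∃ t : F3, w = t • v) ∧
    ∃ t : K4, ph4 (v + d5 1 w v • w) = t • (ph4 v + h4 (ph4 w) (ph4 v) • ph4 w) := by
  obtain ⟨k1, k2⟩ := ph4_c _ (ix_lt v) (by rw [nb_ix, hv]; rfl) _ (ix_lt w) (by rw [nb_ix, hw]; rfl)
  simp only [H27.force_eq, nb_ix, rf_ix, decide_eq_true_eq] at k2
  obtain ⟨t, k2⟩ := k2
  refine ⟨fun ⟨t, q⟩ => ?_, k4 t, funext fun i => by simp [ph4, k2 i, k4_a, k4_m, hN_ix]⟩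
  obtain ⟨t, rfl⟩ := (by decide : ∀ t : K4, ∃ s : Fin 4, t = k4 s) t
  rcases k1 ⟨t, fun i => (by decide : ∀ x < 4, ∀ y < 4, k4 x = k4 y → x = y) _ (Nat.mod_lt _ (by decide)) _
    (Nat.mod_lt _ (by decide)) ((congrFun q i).trans (k4_m _ _).symm)⟩ with e | e
  · exact ⟨1, by rw [ix_inj e, one_smul]⟩
  exact ⟨2, (ix_inj (e.trans (rf_ix 0 v 2))).trans (zero_add _)⟩
theorem ph4_b : ∀ a b c d, h4 ![a, b, c, d] ![a, b, c, d] = 0 → ![a, b, c, d] ≠ 0 → ∃ a' b' c' d' e',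
    d5 1 ![a', b', c', d', e'] ![a', b', c', d', e'] = 1 ∧ ∃ t : K4, ![a, b, c, d] = t • ph4 ![a', b', c', d', e'] := by
  decide +kernel

theorem o3_of_o6 {Φ : Form (RingHom.id (ZMod 2)) (Fin 6 → ZMod 2)} {π : _ → G} (h : LM Φ {v | q6 v = 1} A π)
    (e : ∀ x y, Φ.B x y = b6 x y) : IsO3 A 5 := by
  refine ⟨_, _, _, inferInstance, D5 2, _, by simp, h.tab (pmD5 (by decide)) ph6 (all5 fun a b c d e q => (ph6_a a b c d e q).1)
    (all6 fun a b c d e f q => let ⟨_, _, _, _, _, r, s⟩ := ph6_b a b c d e f q; ⟨_, r, 1, s.trans (one_smul _ _).symm⟩)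
    (all5 fun a b c d e' q => all5 fun a' b' c' d' e'' q' => ?_)⟩
  obtain ⟨-, k1, k2⟩ := ph6_a a b c d e' q
  obtain ⟨k2, k3⟩ := k2 a' b' c' d' e'' q'
  refine ⟨fun ⟨t, r⟩ => k2 ?_, k1, 1, by rw [one_smul, e]; exact k3⟩
  rcases z2 t with rfl | rfl
  · exact (h.ne _ (ph6_a a' b' c' d' e'' q').1 (by simpa using r)).elim
  simpa using r
theorem IsU.o3 (h : IsU A 4) : IsO3 A 5 := by
  obtain ⟨V, _, _, _, Φ, π, n, l⟩ := h
  obtain ⟨b, hb⟩ := exists_orthonormal_basis_herm (conj_ne_id card_K4) l.eps l.nd n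
  have e : ∀ x y, Φ.B (b.equivFun.symm x) (b.equivFun.symm y) = h4 x y := fun x y => by
    simp [Fin.sum_univ_four, hb, h4]
  refine ⟨_, _, _, inferInstance, D5 1, _, by simp, l.tab (pmD5 (by decide)) (fun x => b.equivFun.symm (ph4 x))
    (all5 fun a b c d e' q => ⟨(LinearEquiv.map_ne_zero_iff _).2 (ph4_a a b c d e' q).1.1, (e _ _).trans (ph4_a a b c d e' q).1.2⟩)
    (fun u hu => ?_) (all5 fun a b c d e' q w hw => ?_)⟩
  · obtain ⟨u, rfl⟩ := b.equivFun.symm.surjective u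
    obtain ⟨_, _, _, _, _, r, t, s⟩ := all4 (q := fun u => h4 u u = 0 → u ≠ 0 → ∃ a' b' c' d' e',
      d5 1 ![a', b', c', d', e'] ![a', b', c', d', e'] = 1 ∧ ∃ t : K4, u = t • ph4 ![a', b', c', d', e']) ph4_b u
      ((e _ _).symm.trans hu.2) ((LinearEquiv.map_ne_zero_iff _).1 hu.1)
    exact ⟨_, r, t, by rw [s, map_smul]⟩
  obtain ⟨-, k1⟩ := ph4_a a b c d e' q
  obtain ⟨k2, t, k3⟩ := ph4_d q hw
  exact ⟨fun ⟨t, r⟩ => k2 ⟨t, by simpa only [← map_smul, EmbeddingLike.apply_eq_iff_eq] using r⟩,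
    fun t q => by rw [k1 t q], t, by rw [e, ← map_smul, ← map_add, ← map_smul, ← k3]; rfl⟩

end H1.Fi
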