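import Cfsg.Agent.H1.HCo
/-! Certificates for the vanishing of the first cohomology. -/
set_option maxRecDepth 100000
namespace H1.HCo
def S4 : List (ℕ × List (List ℕ)) := [(3, [[1]]), (4, [[2, 2], [0, 2, 0, 0, 2, 0, 0, 2, 0]]), (5, [[3, 3, 3], [3, 2, 3, 2], [0, 3, 3, 0, 3, 3]]), (6, [[3, 4]]), (8, [[5, 5], [3, 5, 3, 5, 3, 5], [5, 2, 0, 5, 2, 0]]), (12, [[5, 2, 6, 2]]), (9, [[3, 6, 7, 6]]), (10, [[7, 8]]), (13, [[7, 2, 9, 2]]), (14, [[9, 10]])]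
def S6 : List (ℕ × List (List ℕ)) := [(5, [[1]]), (11, [[2, 2, 2], [0, 0, 2, 0, 2, 2]]), (14, [[2, 3]]), (17, [[4, 4, 4], [3, 4, 3, 4], [4, 3, 0, 4, 0, 4, 3, 0, 4, 0, 4, 3, 0, 4, 0]]), (20, [[4, 5]]), (31, [[5, 2, 2, 6, 2, 2]]), (34, [[7, 7], [7, 6, 7, 6], [5, 7, 5, 7, 5, 7], [5, 0, 7, 5, 0, 7, 5, 0, 7]]), (41, [[2, 7, 8, 7]]), (44, [[8, 9]]), (51, [[9, 6, 10, 6]]), (54, [[10, 11]]), (56, [[10, 2, 2, 12, 2, 2]]), (22, [[13, 13, 13], [12, 13, 12, 13], [4, 0, 8, 13, 4, 0, 8, 13, 4, 0, 8, 13, 4, 0, 8, 13]]), (7, [[13, 4, 4, 14, 4, 4]]), (19, [[13, 15]]), (24, [[14, 6, 16, 6]]), (32, [[16, 12, 17, 12]]), (49, [[15, 7, 18, 7]]), (52, [[18, 19]]), (63, [[17, 6, 20, 6]]), (38, [[21, 21, 21], [21, 12, 21, 12], [0, 3, 21, 19, 0, 3, 21, 19, 0, 3, 21, 19]]), (10, [[21, 9, 9, 22, 9, 9]]), (13, [[22, 14, 23, 14]]), (16, [[21, 11, 11, 24, 11,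 11]]), (18, [[23, 6, 25, 6]]), (25, [[21, 20, 26, 20]]), (28, [[26, 27]]), (33, [[26, 12, 28, 12]]), (35, [[21, 29]]), (36, [[28, 30]]), (40, [[22, 7, 31, 7]]), (47, [[23, 7, 32, 7]]), (48, [[32, 6, 33, 6]]), (50, [[24, 7, 34, 7]]), (57, [[21, 6, 35, 6]]), (60, [[35, 36]])]
def S8 : List (ℕ × List (List ℕ)) := [(17, [[1]]), (143, [[2, 2, 2], [0, 2, 0, 2, 0, 2]]), (158, [[2, 3]]), (69, [[4, 4, 4], [4, 2, 4, 2], [0, 4, 2, 0, 4, 0, 4, 2, 0, 4, 0, 4, 2, 0, 4]]), (84, [[4, 5]]), (202, [[4, 2, 2, 6, 2, 2]]), (184, [[7, 7, 7], [4, 7, 4, 7], [0, 7, 4, 2, 0, 7, 4, 2, 0, 7, 4, 2]]), (38, [[7, 3, 3, 8, 3, 3]]), (99, [[4, 8, 9, 8]]), (114, [[9, 10]]), (169, [[7, 11]]), (253, [[10, 2, 2, 12, 2, 2]]), (46, [[13, 13], [3, 13, 3, 13], [13, 6, 13, 6, 13, 6], [0, 13, 0, 13, 0, 13, 0, 13, 0, 13, 0, 13]]), (77, [[9, 13, 14, 13]]), (25, [[14, 5, 5,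 15, 5, 5]]), (92, [[14, 16]]), (107, [[14, 8, 17, 8]]), (122, [[17, 18]]), (211, [[15, 6, 19, 6]]), (228, [[13, 6, 20, 6]]), (137, [[21, 21, 21], [17, 21, 17, 21], [21, 6, 0, 17, 16, 21, 6, 0, 17, 16, 21, 6, 0, 17, 16, 21, 6, 0, 17, 16]]), (23, [[21, 3, 3, 22, 3, 3]]), (49, [[22, 8, 23, 8]]), (31, [[23, 13, 24, 13]]), (57, [[24, 8, 25, 8]]), (101, [[10, 22, 26, 22]]), (109, [[21, 20, 27, 20]]), (116, [[26, 28]]), (124, [[27, 29]]), (152, [[21, 30]]), (167, [[27, 6, 31, 6]]), (182, [[31, 32]]), (196, [[25, 12, 33, 12]]), (221, [[22, 6, 34, 6]]), (226, [[33, 8, 35, 8]]), (251, [[23, 6, 36, 6]]), (218, [[37, 37, 37], [22, 37, 22, 37], [37, 0, 31, 23, 37, 0, 31, 23, 37, 0, 31, 23, 37, 0, 31, 23]]), (39, [[37, 12, 38, 12]]), (54, [[38, 39]]), (47, [[39, 15, 40, 15]]), (62, [[40, 41]]), (68, [[37, 3, 3, 42, 3, 3]]), (76, [[40, 9, 9, 43,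 9, 9]]), (83, [[42, 22, 44, 22]]), (91, [[43, 22, 45, 22]]), (98, [[42, 8, 46, 8]]), (106, [[43, 8, 47, 8]]), (108, [[37, 32, 32, 48, 32, 32]]), (136, [[45, 19, 49, 19]]), (142, [[42, 6, 50, 6]]), (145, [[45, 6, 51, 6]]), (151, [[47, 12, 52, 12]]), (166, [[48, 6, 53, 6]]), (168, [[46, 6, 54, 6]]), (177, [[52, 8, 55, 8]]), (191, [[51, 13, 56, 13]]), (197, [[37, 24, 57, 24]]), (203, [[37, 58]]), (212, [[57, 59]]), (227, [[57, 8, 60, 8]]), (229, [[40, 6, 61, 6]]), (242, [[60, 62]]), (244, [[61, 63]]), (239, [[64, 64, 64], [41, 64, 41, 64], [0, 34, 22, 26, 64, 0, 34, 22, 26, 64, 0, 34, 22, 26, 64]]), (27, [[64, 63, 63, 65, 63, 63]]), (29, [[64, 62, 62, 66, 62, 62]]), (34, [[65, 25, 67, 25]]), (19, [[67, 23, 68, 23]]), (35, [[41, 66, 69, 66]]), (21, [[69, 39, 39, 70, 39, 39]]), (42, [[65, 23, 71, 23]]), (43, [[64, 33, 72, 33]]), (50,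 [[69, 73]]), (53, [[68, 8, 74, 8]]), (58, [[72, 75]]), (61, [[65, 8, 76, 8]]), (70, [[70, 44, 77, 44]]), (71, [[72, 48, 78, 48]]), (78, [[66, 44, 79, 44]]), (79, [[69, 48, 80, 48]]), (81, [[77, 22, 81, 22]]), (86, [[78, 82]]), (89, [[79, 22, 83, 22]]), (94, [[80, 84]]), (100, [[77, 67, 85, 67]]), (113, [[74, 42, 86, 42]]), (119, [[81, 8, 87, 8]]), (121, [[76, 42, 88, 42]]), (127, [[83, 8, 89, 8]]), (138, [[87, 12, 90, 12]]), (139, [[80, 33, 91, 33]]), (140, [[77, 6, 92, 6]]), (141, [[78, 6, 93, 6]]), (147, [[83, 6, 94, 6]]), (149, [[92, 15, 95, 15]]), (154, [[91, 96]]), (156, [[93, 97]]), (162, [[92, 13, 98, 13]]), (163, [[84, 12, 99, 12]]), (172, [[90, 8, 100, 8]]), (173, [[91, 8, 101, 8]]), (178, [[99, 102]]), (181, [[89, 6, 103, 6]]), (187, [[86, 6, 104, 6]]), (188, [[101, 105]]), (198, [[70, 19, 106, 19]]), (199, [[75, 12, 107,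 12]]), (200, [[74, 12, 108, 12]]), (201, [[64, 8, 109, 8]]), (209, [[65, 6, 110, 6]]), (214, [[107, 111]]), (216, [[109, 112]]), (223, [[70, 6, 113, 6]]), (232, [[67, 6, 114, 6]]), (233, [[69, 6, 115, 6]]), (238, [[108, 8, 116, 8]]), (241, [[113, 13, 117, 13]]), (247, [[76, 6, 118, 6]]), (248, [[115, 119]]), (254, [[64, 120]])]
theorem c4 : chk 0x7778 4 3 [(5, 14), (4, 8)] S4 = true := by decide +kernel
theorem c6 : chk 0x935f935f935f6ca0 6 5 [(18, 38), (41, 56), (60, 19)] S6 = true := by decide +kernel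
theorem c8 : chk 0x6996c33ca55a0ff0996633cc55aaff0096963c3c5a5af0f06666ccccaaaa0000 8 17 [(107, 61), (214, 181), (254, 38), (172, 178)] S8 = true := by decide +kernel
end H1.HCo
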