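import Cfsg.Agent.H12.Qd
import Cfsg.Agent.H12.SL2Rec
import Cfsg.Agent.H4.Dk1

/-! Representations of `SL(2, 2^n)` in which the elements of order three act without fixed points. -/

set_option autoImplicit false
set_option linter.unusedSectionVars false

namespace H1.Hig
open Subgroup H4 Matrix
open scoped MatrixGroups

section ring
variable {L R : Type*} [Group L] [Ring R] (φ : L →* R)

theorem inv_eq {y : L} (hy : φ y * φ y + φ y + 1 = 0) : φ y⁻¹ = -1 - φ y := by
  have : φ y⁻¹ * φ y = 1 := by rw [← map_mul, inv_mul_cancel, map_one]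
  linear_combination (norm := noncomm_ring) φ y⁻¹ * hy - this * (φ y + 1)

theorem cen {y z : L} (hy : φ y * φ y + φ y + 1 = 0) (hz : φ z * φ z + φ z + 1 = 0)
    (hg : closure {y, z} = ⊤) (g h : L) : Commute (φ g + φ g⁻¹) (φ h) := by
  have iy := inv_eq φ hy
  have iz := inv_eq φ hz
  let C := Subring.centralizer {φ y, φ z}
  have mC : ∀ {c}, c ∈ C ↔ φ y * c = c * φ y ∧ φ z * c = c * φ z := by
    simp [C, Subring.mem_centralizer_iff]
  obtain ⟨τ, hτ⟩ : ∃ τ, τ = φ y * φ z + (-1 - φ z) * (-1 - φ y) := ⟨_, rfl⟩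
  have mτ : τ ∈ C := mC.2 ⟨by
    rw [hτ]; linear_combination (norm := noncomm_ring) hy * φ z - φ z * hy, by
    rw [hτ]; linear_combination (norm := noncomm_ring) hz * φ y - φ y * hz⟩
  let P : L → Prop := fun g => ∃ a ∈ C, ∃ b ∈ C, ∃ c ∈ C, ∃ d ∈ C,
    φ g = a + b * φ y + c * φ z + d * (φ y * φ z) ∧
    φ g⁻¹ = a + b * (-1 - φ y) + c * (-1 - φ z) + d * ((-1 - φ z) * (-1 - φ y))
  have py : ∀ g, P g → P (y * g) := by
    rintro g ⟨a, ha, b, hb, c, hc, d, hd, e1, e2⟩
    refine ⟨_, neg_mem hb, _, sub_mem ha hb, _, neg_mem hd, _, sub_mem hc hd, ?_, ?_⟩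
    · rw [map_mul, e1]
      linear_combination (norm := noncomm_ring) (mC.1 ha).1 + (mC.1 hb).1 * φ y + (mC.1 hc).1 * φ z +
        (mC.1 hd).1 * (φ y * φ z) + b * hy + d * hy * φ z
    · rw [_root_.mul_inv_rev, map_mul, e2, iy]
      linear_combination (norm := noncomm_ring) b * hy + d * (-1 - φ z) * hy
  have pz : ∀ g, P g → P (z * g) := by
    rintro g ⟨a, ha, b, hb, c, hc, d, hd, e1, e2⟩
    refine ⟨_, add_mem (sub_mem (mul_mem hb (sub_mem mτ (one_mem _))) hc) hd, _, sub_mem hd hb, _,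
      add_mem (sub_mem (sub_mem ha hb) hc) (mul_mem hd mτ), _, neg_mem hb, ?_, ?_⟩
    · rw [map_mul, e1, hτ]
      linear_combination (norm := noncomm_ring) (mC.1 ha).2 + (mC.1 hb).2 * φ y + (mC.1 hc).2 * φ z +
        (mC.1 hd).2 * (φ y * φ z) + c * hz - d * hz - d * φ y * hz
    · rw [_root_.mul_inv_rev, map_mul, e2, iz, hτ]
      linear_combination (norm := noncomm_ring) c * hz + d * φ y * hz
  have i3 : ∀ {x : L}, φ x * φ x + φ x + 1 = 0 → ∀ g, P (x * (x * g)) → P (x⁻¹ * g) := by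
    rintro x hx g ⟨a, ha, b, hb, c, hc, d, hd, e1, e2⟩
    have e : φ x⁻¹ = φ x * φ x := by rw [inv_eq φ hx]; linear_combination (norm := noncomm_ring) -hx
    have e' : φ x = φ x⁻¹ * φ x⁻¹ := by rw [inv_eq φ hx]; linear_combination (norm := noncomm_ring) -hx
    refine ⟨a, ha, b, hb, c, hc, d, hd, ?_, ?_⟩
    · rw [← e1, map_mul, map_mul, map_mul, e, mul_assoc]
    · rw [← e2]; simp only [_root_.mul_inv_rev, inv_inv, map_mul, mul_assoc, ← e']
  have key : P g := by
    refine closure_induction_left (p := fun g _ => P g)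
      ⟨1, one_mem _, 0, zero_mem _, 0, zero_mem _, 0, zero_mem _, by simp⟩ ?_ ?_ (hg.ge (mem_top g))
    · rintro _ (rfl | rfl) g - h
      exacts [py g h, pz g h]
    · rintro _ (rfl | rfl) g - h
      exacts [i3 hy g (py _ (py g h)), i3 hz g (pz _ (pz g h))]
  obtain ⟨a, ha, b, hb, c, hc, d, hd, e1, e2⟩ := key
  have m : φ g + φ g⁻¹ ∈ C := by
    rw [show φ g + φ g⁻¹ = a + a - b - c + d * τ by rw [e1, e2, hτ]; noncomm_ring]
    exact add_mem (sub_mem (sub_mem (add_mem ha ha) hb) hc) (mul_mem hd mτ)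
  refine closure_induction (p := fun h _ => Commute (φ g + φ g⁻¹) (φ h)) ?_ (by simp)
    (fun _ _ _ _ a b => map_mul φ _ _ ▸ a.mul_right b) (fun x _ a => ?_) (hg.ge (mem_top h))
  · rintro _ (rfl | rfl)
    exacts [(mC.1 m).1.symm, (mC.1 m).2.symm]
  · exact (a.units_inv_right (u := φ.toHomUnits x))

end ring

variable {K : Type*} [Field K]

/-- diagonal matrices -/
def dg0 (k : Kˣ) : SL(2, K) := ⟨!![(k : K), 0; 0, (k : K)⁻¹], by simp [det_fin_two]⟩

theorem coe_dg0 (k : Kˣ) : (dg0 k).1 = !![(k : K), 0; 0, (k : K)⁻¹] := rfl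

/-- diagonal matrices -/
def dg : Kˣ →* SL(2, K) := MonoidHom.mk' dg0
  fun k l => by apply sl2_ext <;> simp [sl2_mul_apply, coe_dg0, mul_comm]

theorem coe_dg (k : Kˣ) : (dg k).1 = !![(k : K), 0; 0, (k : K)⁻¹] := rfl

theorem dg_upT (k : Kˣ) (t : K) : dg k * upT t = upT (k ^ 2 * t) * dg k := by
  apply sl2_ext <;> simp [sl2_mul_apply, coe_dg, coe_upT]
  field_simp

variable [Finite K] [CharP K 2]

theorem exists_sq {t : K} (h : t ≠ 0) : ∃ k : Kˣ, (k : K) ^ 2 = t := by
  obtain ⟨s, rfl⟩ := FiniteField.isSquare_of_char_two (ringChar.eq K 2) t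
  exact ⟨Units.mk0 s (left_ne_zero_of_mul h), pow_two s⟩

theorem gen1 {μ : K} (h0 : μ ≠ 0) (h1 : μ ≠ 1) {H : Subgroup SL(2, K)} (hd : ∀ k, dg k ∈ H)
    {M : SL(2, K)} (hM : M ∈ H) (e0 : M.1 0 0 = 0) (e1 : M.1 1 1 ≠ 0) : H = ⊤ := by
  have det : M.1 0 1 * M.1 1 0 = -1 := by
    have := M.2; rw [det_fin_two, e0] at this; linear_combination -this
  have n0 : M.1 0 1 ≠ 0 := fun e => by simp [e] at det
  have n1 : M.1 1 0 ≠ 0 := fun e => by simp [e] at det
  have hs : M.1 1 1 * M.1 0 1 * (μ ^ 2 - 1) ≠ 0 := mul_ne_zero (mul_ne_zero e1 n0) fun e => h1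
    (sub_eq_zero.1 (pow_eq_zero_iff two_ne_zero |>.1 (by
      linear_combination e + (1 - μ) * (CharTwo.two_eq_zero (R := K)))))
  have m : upT (M.1 1 1 * M.1 0 1 * (μ ^ 2 - 1)) ∈ H := by
    have := mul_mem (hd (.mk0 μ h0)) (mul_mem (inv_mem hM) (mul_mem (hd (.mk0 μ h0)) hM))
    convert this using 1
    rw [← inv_mul_eq_iff_eq_mul, eq_inv_mul_iff_mul_eq, ← map_inv]
    apply sl2_ext <;> simp [sl2_mul_apply, coe_dg, coe_upT, e0] <;> field_simp
    linear_combination (μ ^ 2 - 1) * det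
  refine H12.sl2_eq_top_of_upU (fun N hN => ?_) hM n1
  obtain ⟨t, rfl⟩ := H12.mem_upU.1 hN
  by_cases ht : t = 0
  · rw [ht, upT_zero]; exact one_mem _
  obtain ⟨k, hk⟩ := exists_sq (div_ne_zero ht hs)
  have := mul_mem (mul_mem (hd k) m) (inv_mem (hd k))
  rwa [dg_upT, mul_inv_cancel_right, hk, div_mul_cancel₀ _ hs] at this

theorem tr_y : (upT (1 : K) * loT 1).1.trace = 1 := by
  simp [trace_fin_two, coe_upT, coe_loT, CharTwo.add_self_eq_zero]

theorem gen2 {μ : K} (h0 : μ ≠ 0) (h1 : μ ≠ 1) :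
    ∃ y z : SL(2, K), y.1.trace = 1 ∧ z.1.trace = 1 ∧ closure {y, z} = ⊤ := by
  obtain ⟨ν, hν⟩ := IsCyclic.exists_generator (α := Kˣ)
  have hd : ∀ {H : Subgroup SL(2, K)}, dg ν ∈ H → ∀ k, dg k ∈ H := fun h k => by
    obtain ⟨j, rfl⟩ := hν k
    simpa using zpow_mem h j
  have t2 : (2 : K) = 0 := CharTwo.two_eq_zero
  have n1 : (ν : K) + 1 ≠ 0 := fun e => h1 (by
    obtain ⟨j, hj⟩ := hν (.mk0 μ h0)
    have : ν = 1 := Units.ext (by simpa using (by linear_combination e - t2 : (ν : K) = 1))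
    simpa [this] using congrArg Units.val hj.symm)
  by_cases e : (ν : K) ^ 2 + ν + 1 = 0
  · refine ⟨upT 1 * loT 1, dg ν, tr_y, ?_, gen1 h0 h1 (hd (subset_closure (by simp)))
      (subset_closure (Set.mem_insert _ _)) ?_ ?_⟩
    · simp [trace_fin_two, coe_dg]; field_simp; linear_combination e - ν * t2
    all_goals simp [sl2_mul_apply, coe_upT, coe_loT, CharTwo.add_self_eq_zero]
  obtain ⟨s, hs⟩ := exists_sq e
  let y : SL(2, K) := ⟨!![1 / (ν + 1), s / (ν + 1); s / (ν + 1), ν / (ν + 1)], by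
    simp [det_fin_two]; field_simp; linear_combination -hs - ((ν : K) ^ 2 + ν + 1) * t2⟩
  have hy : y.1 = !![1 / ((ν : K) + 1), s / ((ν : K) + 1); s / ((ν : K) + 1), ν / ((ν : K) + 1)] := rfl
  have my : y ∈ closure {y, y * dg ν} := subset_closure (by simp)
  have hd' := hd ((mul_mem_cancel_left my).1 (subset_closure (by simp)))
  refine ⟨y, y * dg ν, ?_, ?_, gen1 h0 h1 hd' (mul_mem (mul_mem my (hd' s)) my) ?_ ?_⟩ <;>
    simp [trace_fin_two, sl2_mul_apply, coe_dg, hy] <;> field_simp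
  · ring
  · linear_combination s * t2
  · intro e'
    refine pow_ne_zero 4 n1 ?_
    linear_combination e' - (s ^ 2 + ν ^ 2 + ν + 1) * hs + (ν ^ 3 + ν ^ 2 + ν) * t2

section rep
variable {R : Type*} [Ring R] (φ : SL(2, K) →* R)
  (h3 : ∀ g : SL(2, K), g.1.trace = 1 → φ g * φ g + φ g + 1 = 0)
include h3

theorem up_lo : φ (upT 1) * φ (loT 1) + φ (loT 1) * φ (upT 1) = -1 := by
  have := inv_eq φ (h3 _ tr_y)
  rw [_root_.mul_inv_rev, upT_inv, loT_inv, CharTwo.neg_eq, map_mul, map_mul] at this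
  rw [this]; noncomm_ring

theorem six {μ : K} (h0 : μ ≠ 0) (h1 : μ ≠ 1) : 6 • (1 : R) = 0 := by
  obtain ⟨y, z, hy, hz, hg⟩ := gen2 h0 h1
  have e := (cen φ (h3 y hy) (h3 z hz) hg (upT 1) (loT 1)).eq
  have e1 := up_lo φ h3
  have e2 := h3 _ tr_y
  rw [upT_inv, CharTwo.neg_eq] at e
  rw [map_mul] at e2
  rw [add_mul] at e
  generalize φ (upT 1) * φ (loT 1) = a at *
  have e3 : 4 • a + 2 • 1 = 0 := by linear_combination (norm := noncomm_ring) e + 2 • e1
  linear_combination (norm := noncomm_ring) 8 • e2 - (2 • a + 1) * e3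

theorem exists_scal {μ : K} (h0 : μ ≠ 0) (h1 : μ ≠ 1) (h2 : (1 : R) + 1 = 0) : ∃ d : K →+* R,
    (∀ t g, Commute (d t) (φ g)) ∧ (∀ t, φ (upT t) = 1 + d t * (φ (upT 1) + 1)) ∧
      ∀ t, φ (loT t) = 1 + d t * (φ (loT 1) + 1) := by
  obtain ⟨y, z, hy, hz, hg⟩ := gen2 h0 h1
  have hT := cen φ (h3 y hy) (h3 z hz) hg
  have e1 := up_lo φ h3
  have ua : ∀ s t, φ (upT (s + t)) = φ (upT s) * φ (upT t) := fun s t => by rw [upT_add, map_mul]
  have u0 : φ (upT 0) = 1 := by rw [upT_zero, map_one]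
  have uu : φ (upT 1) * φ (upT 1) = 1 := by rw [← ua, CharTwo.add_self_eq_zero, u0]
  set r := φ (loT 1) with hr
  set a := φ (upT 1) + 1 with ha
  let d : K → R := fun t => φ (upT t) * r + r * φ (upT t)
  let c : K → R := fun t => d (1 + t) + d t + 1
  let C := Subring.centralizer (Set.range φ)
  have mC : ∀ {x}, x ∈ C → ∀ g, φ g * x = x * φ g := fun h g => h _ ⟨g, rfl⟩
  have md : ∀ t, d t ∈ C := by
    rintro t _ ⟨g, rfl⟩
    have := (hT (upT t * loT 1) g).symm.eq
    rwa [_root_.mul_inv_rev, upT_inv, loT_inv, CharTwo.neg_eq, CharTwo.neg_eq, map_mul, map_mul] at this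
  have mc : ∀ t, c t ∈ C := fun t => add_mem (add_mem (md _) (md _)) (one_mem _)
  have ca : ∀ {x}, x ∈ C → a * x = x * a := fun h => by rw [ha, add_mul, mul_add, mC h]; simp
  have aa : a * a = 0 := by rw [ha]; linear_combination (norm := noncomm_ring) uu + (φ (upT 1) + 1) * h2
  have ar : a * r + r * a = 1 := by rw [ha]; linear_combination (norm := noncomm_ring) e1 + (r - 1) * h2
  have kill : ∀ {x}, x ∈ C → x * a = 0 → x = 0 := fun {x} h e => by
    linear_combination (norm := noncomm_ring) -x * ar + e * r + r * e - mC h (loT 1) * a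
  have uniq : ∀ {x x' w w'}, x ∈ C → x' ∈ C → w ∈ C → w' ∈ C → x + w * a = x' + w' * a →
      x = x' ∧ w = w' := fun {x x' w w'} hx hx' hw hw' e => by
    have := sub_eq_zero.1 (kill (sub_mem hx hx')
      (by linear_combination (norm := noncomm_ring) e * a - (w - w') * aa))
    exact ⟨this, sub_eq_zero.1 (kill (sub_mem hw hw') (by linear_combination (norm := noncomm_ring) e - this))⟩
  have hu : ∀ t, φ (upT t) = 1 + c t + d t * a := fun t => by
    have e : φ (upT (1 + t)) = φ (upT t) * φ (upT 1) := by rw [add_comm, ua]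
    simp only [c, d, ha]
    linear_combination (norm := noncomm_ring) -e * r - r * e - φ (upT t) * e1 -
      (1 + φ (upT t) * r + r * φ (upT t) + r * φ (upT t) * φ (upT 1) - φ (upT t)) * h2
  have add : ∀ s t, c (s + t) = c s + c t + c s * c t ∧
      d (s + t) = d s + d t + c s * d t + d s * c t := fun s t =>
    uniq (mc _) (add_mem (add_mem (mc _) (mc _)) (mul_mem (mc _) (mc _))) (md _)
      (add_mem (add_mem (add_mem (md _) (md _)) (mul_mem (mc _) (md _))) (mul_mem (md _) (mc _))) (by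
      have := ua s t
      rw [hu, hu s, hu t] at this
      linear_combination (norm := noncomm_ring) this + d s * ca (mc t) + d s * ca (md t) * a +
        d s * d t * aa)
  have mul : ∀ s t, t ≠ 0 → c (s * t) = c s + d s * c t ∧ d (s * t) = d s * d t := fun s t ht =>
    uniq (mc _) (add_mem (mc _) (mul_mem (md _) (mc _))) (md _) (mul_mem (md _) (md _)) (by
      obtain ⟨k, rfl⟩ := exists_sq ht
      have e := fun s => congrArg φ (dg_upT k s)
      have e2 := e s
      have e3 := e 1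
      rw [map_mul, map_mul, mul_one, hu ((k : K) ^ 2)] at e3
      rw [map_mul, map_mul, hu, mul_comm, hu] at e2
      refine (φ.toHomUnits (dg k)).mul_left_inj.1 ?_
      rw [MonoidHom.coe_toHomUnits]
      linear_combination (norm := noncomm_ring) -e2 + mC (mc s) (dg k) + mC (md s) (dg k) * a +
        d s * φ (dg k) * ha + d s * e3 + d s * φ (dg k) * h2)
  have d0 : d 0 = 0 := by simp only [d, u0]; linear_combination (norm := noncomm_ring) r * h2
  have d1 : d 1 = 1 := by simp only [d]; linear_combination (norm := noncomm_ring) e1 - h2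
  have c0 : c 0 = 0 := by simp only [c, add_zero, d0, d1]; linear_combination (norm := noncomm_ring) h2
  have hc : ∀ t, c t = 0 := fun t => by
    have e2 : c (1 + μ) = c μ := by
      simp only [c, ← add_assoc, CharTwo.add_self_eq_zero, zero_add, add_comm (d μ)]
    have e3 := (mul t (1 + μ) fun e => h1 (by linear_combination e - (CharTwo.two_eq_zero (R := K)))).1
    rw [e2, ← (mul t μ h0).1, mul_add, mul_one, (add _ _).1] at e3
    have e4 := (add (t * μ) (t * μ)).1
    rw [CharTwo.add_self_eq_zero, c0] at e4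
    linear_combination (norm := noncomm_ring) e3 * (1 + c (t * μ)) + c t * e4
  have hu' : ∀ t, φ (upT t) = 1 + d t * a := fun t => by rw [hu, hc, add_zero]
  refine ⟨⟨⟨⟨d, d1⟩, fun s t => ?_⟩, d0, fun s t => by simpa [hc] using (add s t).2⟩,
    fun t g => (mC (md t) g).symm, hu', fun t => ?_⟩
  · by_cases ht : t = 0
    · simp [ht, d0]
    · exact (mul s t ht).2
  have e := fun t => congrArg φ (conj_upT_loT (1 : K) t one_ne_zero)
  have e2 := e t
  have e3 := e 1
  simp only [inv_one, one_pow, mul_one, CharTwo.neg_eq] at e2 e3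
  generalize upT (1 : K) * loT 1 * upT 1 = w at e2 e3
  have e4 : φ w * φ w⁻¹ = 1 := by rw [← map_mul, mul_inv_cancel, map_one]
  rw [map_mul, map_mul] at e2 e3
  rw [← e2, hu']
  show _ = 1 + d t * (r + 1)
  linear_combination (norm := noncomm_ring) e4 + mC (md t) w * a * φ w⁻¹ + d t * φ w * ha * φ w⁻¹ +
    d t * e3 + d t * e4

end rep

theorem exists_nat {M : Type*} [AddCommGroup M] (φ : SL(2, K) →* AddMonoid.End M)
    (h3 : ∀ g : SL(2, K), g.1.trace = 1 → φ g * φ g + φ g + 1 = 0) {μ : K} (h0 : μ ≠ 0) (h1 : μ ≠ 1)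
    (h2 : (1 : AddMonoid.End M) + 1 = 0) (m : M) : ∃ τ τ' : (Fin 2 → K) →+ M,
      (∀ (g : SL(2, K)) v, τ (g • v) = φ g (τ v)) ∧ (∀ (g : SL(2, K)) v, τ' (g • v) = φ g (τ' v)) ∧
      ∃ v w, m = τ v + τ' w := by
  obtain ⟨d, hd, hu, hl⟩ := exists_scal φ h3 h0 h1 h2
  have e1 := up_lo φ h3
  have uu : φ (upT 1) * φ (upT 1) = 1 := by
    rw [← map_mul, ← upT_add, CharTwo.add_self_eq_zero, upT_zero, map_one]
  have rr : φ (loT 1) * φ (loT 1) = 1 := by
    rw [← map_mul, ← loT_add, CharTwo.add_self_eq_zero, loT_zero, map_one]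
  have ca : ∀ t g, (φ g + 1) * d t = d t * (φ g + 1) := fun t g => by
    rw [add_mul, mul_add, (hd t g).eq]; simp
  have sq : ∀ {u : AddMonoid.End M}, u * u = 1 → (u + 1) * (u + 1) = 0 := fun {u} h => by
    linear_combination (norm := noncomm_ring) h + (u + 1) * h2
  have ab : (φ (upT 1) + 1) * (φ (loT 1) + 1) + (φ (loT 1) + 1) * (φ (upT 1) + 1) = 1 := by
    linear_combination (norm := noncomm_ring) e1 + (φ (upT 1) + φ (loT 1)) * h2
  have aa := sq uu
  have bb := sq rr
  have ca' := fun t => ca t (upT 1)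
  have cb' := fun t => ca t (loT 1)
  generalize φ (upT 1) + 1 = a at *
  generalize φ (loT 1) + 1 = b at *
  have ap : ∀ (s t : AddMonoid.End M) f, (s + t) f = s f + t f := fun _ _ _ => rfl
  have mp : ∀ (s t : AddMonoid.End M) f, (s * t) f = s (t f) := fun _ _ _ => rfl
  let τ : M → (Fin 2 → K) →+ M := fun f => AddMonoidHom.mk'
    (fun v => (d (v 0) * (a * b) + d (v 1) * b) f) fun v w => by
      rw [← ap]; congr 1; simp only [Pi.add_apply, map_add]; noncomm_ring
  have hτ : ∀ f v, τ f v = (d (v 0) * (a * b) + d (v 1) * b) f := fun _ _ => rfl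
  have key : ∀ f (g : SL(2, K)) v, τ f (g • v) = φ g (τ f v) := fun f g => by
    let H : Subgroup SL(2, K) :=
      { carrier := {g | ∀ v, τ f (g • v) = φ g (τ f v)}
        one_mem' := fun v => by rw [one_smul, map_one]; rfl
        mul_mem' := fun {g h} hg hh v => by rw [mul_smul, hg, hh, map_mul]; rfl
        inv_mem' := fun {g} hg v => by
          have := hg (g⁻¹ • v)
          rw [smul_inv_smul] at this
          rw [this, ← mp, ← map_mul, inv_mul_cancel, map_one]; rfl }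
    refine (sl2_eq_top_of_upT_loT (H := H) (fun c v => ?_) fun c v => ?_).ge (mem_top g)
    · rw [H12.upT_smul, hτ, hτ, ← mp, hu]
      congr 1
      simp only [cons_val_zero, cons_val_one, map_add, map_mul]
      linear_combination (norm := noncomm_ring) -d c * ca' (v 0) * (a * b) - d c * d (v 0) * aa * b -
        d c * ca' (v 1) * b
    · rw [H12.loT_smul, hτ, hτ, ← mp, hl]
      congr 1
      simp only [cons_val_zero, cons_val_one, map_add, map_mul]
      linear_combination (norm := noncomm_ring) -d c * cb' (v 0) * (a * b) - d c * d (v 0) * ab * b +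
        d c * d (v 0) * a * bb - d c * cb' (v 1) * b - d c * d (v 1) * bb
  refine ⟨τ m, τ (a m), key _, key _, ![1, 0], ![0, 1], ?_⟩
  have := DFunLike.congr_fun ab m
  simp only [hτ, cons_val_zero, cons_val_one, map_one, map_zero, one_mul, zero_mul, add_zero, zero_add]
  exact this.symm

end H1.Hig
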