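import Cfsg.Agent.H28.Au3
import Mathlib.GroupTheory.RegularWreathProduct

/-! Charts: the centralisers of transpositions of `M(24)` mapped into another group. -/

set_option autoImplicit false
set_option linter.unusedSectionVars false
set_option maxRecDepth 100000

namespace H1.Lf
open Cfsg H27 H28 Subgroup
universe u
variable {G : Type u} {F : Type} [Group G] [Group F] {D : Set F}

/-- a chart at the transposition `p` -/
structure Ch (D : Set F) (p : F) (S : Set G) (φ : F → G) : Prop where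
  mem : p ∈ D
  mul : ∀ x y, Commute p x → Commute p y → φ (x * y) = φ x * φ y
  ker : ∀ x, Commute p x → (φ x = 1 ↔ x = 1 ∨ x = p)
  bij : Set.BijOn φ (Nb D [p]) S
/-- a family of copies of the transpositions of `M(23)` -/
structure Fam (𝒮 : Set (Set G)) : Prop where
  a1 : ∀ S ∈ 𝒮, ∃ e : Spor.Fi23 →* G, Function.Injective e ∧ e '' E23 = S
  a2 : ∀ S ∈ 𝒮, ∀ t ∈ S, ∃ S' ∈ 𝒮, t ∈ S' ∧ ∀ y, t * y ∈ Nb S' [t] ↔ y ∈ Nb S [t]
  a3 : ∀ S ∈ 𝒮, ∀ S' ∈ 𝒮, ∀ a b, Clq S [a, b] → a ∈ S' → b ∈ S' → S = S'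
namespace Ch
variable {p q x y : F} {S : Set G} {φ : F → G} (c : Ch D p S φ)
include c
theorem one : φ 1 = 1 := (c.ker 1 (Commute.one_right p)).2 (.inl rfl)
theorem self : φ p = 1 := (c.ker p (Commute.refl p)).2 (.inr rfl)
/-- the chart as a homomorphism -/
def hom : centralizer {p} →* G := MonoidHom.mk' (fun x => φ x) fun x y => c.mul _ _ (mem_cent1.1 x.2) (mem_cent1.1 y.2)
theorem inv (hx : Commute p x) : φ x⁻¹ = (φ x)⁻¹ := map_inv c.hom ⟨x, mem_cent1.2 hx⟩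
theorem cj (hx : Commute p x) (hy : Commute p y) : φ (x * y * x⁻¹) = φ x * φ y * (φ x)⁻¹ := by
  rw [c.mul _ _ (hx.mul_right hy) hx.inv_right, c.mul _ _ hx hy, c.inv hx]
theorem sq (hx : Commute p x) (e : x * x = 1) : φ x * φ x = 1 := by rw [← c.mul _ _ hx hx, e, c.one]
theorem cm (hx : Commute p x) (hy : Commute p y) (e : Commute x y) : Commute (φ x) (φ y) := by
  rw [Commute, SemiconjBy, ← c.mul _ _ hx hy, e.eq, c.mul _ _ hy hx]
theorem fi (h : M24 D) : FIso (Nb D [p]) S φ :=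
  ⟨h.lv.clo.nb _, c.bij, fun _ hx _ hy => c.cj (mem_nb1.1 hx).2.2 (mem_nb1.1 hy).2.2⟩
theorem conj (h : M24 D) {k : F} (hk : Commute p k) : Ch D p S fun x => φ (k * x * k⁻¹) := by
  have m : ∀ {x}, Commute p x → Commute p (k * x * k⁻¹) := fun hx => (hk.mul_right hx).mul_right hk.inv_right
  refine ⟨c.mem, fun x y hx hy => by rw [← c.mul _ _ (m hx) (m hy)]; congr 1; group, fun x hx => (c.ker _ (m hx)).trans ?_,
    c.bij.comp (((fiso_conj h.lv.tg.2.1 k).nb1 c.mem).bij.congr (fun _ _ => rfl) |> fun b => by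
      rwa [conj_eq_iff_commute.2 hk.symm] at b)⟩
  nth_rw 1 [← conj_eq_iff_commute.2 hk.symm]
  simp
end Ch
theorem nb2 {p q y : F} : y ∈ Nb D [p, q] ↔ y ∈ Nb (Nb D [p]) [q] := by rw [nb_nb]; rfl
theorem cn2 {p q y : F} : y ∈ Cn [p, q] ↔ Commute p y ∧ Commute q y := mem_cn.trans (by simp)
theorem ch_ex (h : M24 D) {p : F} (hp : p ∈ D) {S : Set G} (a : ∃ e : Spor.Fi23 →* G, Function.Injective e ∧ e '' E23 = S)
    {l : List F} {l' : List G} (c : Clq (Nb D [p]) l) (c' : Clq S l') (e : l.length = l'.length) (k : l.length ≤ 4) :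
    ∃ φ, Ch D p S φ ∧ l.map φ = l' := by
  obtain ⟨e, i, rfl⟩ := a
  obtain ⟨π, r⟩ := h.lv.res p hp
  have f : FIso E23 (e '' E23) e := ⟨lv23.clo, i.injOn.bijOn_image, fun x _ y _ => by simp⟩
  obtain ⟨τ, t, -, t2⟩ := f.symm
  obtain ⟨g, hg⟩ := m23.gts _ k _ _ (r.fi.clq c) (t.clq c') (by simp) (by simp [*])
  refine ⟨fun x => e (g * π x * g⁻¹), ⟨hp, fun x y hx hy => by rw [r.mul x y hx hy, ← map_mul]; congr 1; group,
    fun x hx => by rw [map_eq_one_iff e i, ← r.ker x hx]; simp, ((r.fi.trans (fiso_conj lv23.tg.2.1 g)).trans f).bij⟩, ?_⟩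
  have := congrArg (List.map e) hg
  simp only [List.map_map] at this
  exact this.trans ((List.map_congr_left fun y hy => t2 y (c'.1 y hy)).trans (List.map_id _))
/-- automorphisms of the residue of two points are induced by the centraliser of their product -/
theorem res_aut (h : M24 D) {a b : F} (c : Clq D [a, b]) {β : F → F} (f : FIso (Nb D [a, b]) (Nb D [a, b]) β) :
    ∃ k, (k * a * k⁻¹ = a ∨ k * a * k⁻¹ = b) ∧ Commute k (a * b) ∧ (∀ y ∈ Cn [a, b], k * y * k⁻¹ ∈ Cn [a, b]) ∧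
      ∀ y ∈ Nb D [a, b], k * y * k⁻¹ = β y := by
  have := h.fin
  have hD := h.lv.tg
  obtain ⟨σ, hσ, -⟩ := h.sgn
  obtain ⟨π, r⟩ := h.lv.rl2 lv23 c
  have := fi22_simple
  have g := r.gen' (h.rl8.meet hD c (h.gts 2 (by norm_num)) (by simp))
  obtain ⟨-, -, -, -, -, -, α, α1, α2⟩ := r.even hD c g
    (by rw [fi22_card]; norm_num) (fun m hm => h.gts m (hm.trans (by simp))) (h.nr.mono (by simp)) (by simp) σ hσ
    (by rw [H22.card_mulAut_eq_out _ fi22_center, Cfsg.Agent.S2079.result]; rfl) rfl rfl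
  have u : ∀ x ∈ σ.ker ⊓ centralizer {[a, b].prod}, ([a, b].map fun y => x * y * x⁻¹).Perm [a, b] := fun x hx =>
    h.nr.perm3 h.tt ((fiso_conj hD.2.1 x).clq c) c (by simp) (by simp) (by
      rw [map_conj_prod, conj_eq_iff_commute.2 (mem_cent1.1 hx.2).symm])
  obtain ⟨nm, γ, γ1, γ2⟩ := r.aut hD.2.1 c g fi22_center u
  have := m22.fin
  have γ3 := card_aut γ (by
    rw [γ2, ← α2, ← α.ker.index_mul_card, Subgroup.index_ker, MonoidHom.range_eq_top.2 α1, Subgroup.card_top])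
  obtain ⟨τ, t, t1, -⟩ := r.fi.symm
  obtain ⟨e, -, he⟩ := equiv_of_fiso lv22.tg fi22_center e22_class fi22_center ((t.trans f).trans r.fi)
  obtain ⟨k, rfl⟩ := γ3 e
  refine ⟨k, by simpa using (u k k.2).mem_iff.1 List.mem_cons_self, by simpa using (mem_cent1.1 k.2.2).symm,
    fun y => (mem_normalizer_iff.1 (nm k.2) y).1, fun y hy => r.fi.inj (nb_perm (u k k.2) ▸ ((fiso_conj hD.2.1 k.1).nb c.1).mem hy)
      (f.mem hy) ?_⟩
  refine (γ1 k y (mem_cn.2 hy.2.2)).symm.trans ?_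
  rw [he _ (r.fi.mem hy), t1 y hy]
/-- two charts agree on the even elements -/
def Ag (σ : F →* ℤˣ) (p q : F) (φ ψ : F → G) : Prop :=
  ∀ x ∈ Cn [p, q], (σ x = 1 ∧ ψ x = φ x) ∨ (σ x = -1 ∧ ψ x = φ q * φ x)
theorem ch_ext (h : M24 D) (σ : F →* ℤˣ) (hσ : ∀ y ∈ D, σ y = -1) {𝒮 : Set (Set G)} (v : Fam 𝒮) {S : Set G} (hS : S ∈ 𝒮)
    {p q : F} {φ : F → G} (c : Ch D p S φ) (hq : q ∈ Nb D [p]) : ∃ S' ∈ 𝒮, ∃ ψ, Ch D q S' ψ ∧ Ag σ p q φ ψ := by
  have hD := h.lv.tg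
  obtain ⟨q1, q2, q3⟩ := mem_nb1.1 hq
  have hp : p ∈ Nb D [q] := mem_nb1.2 ⟨c.mem, q2.symm, q3.symm⟩
  have pq : Clq D [p, q] := clq_cons.2 ⟨c.mem, by simpa using hq, by simp⟩
  obtain ⟨S', hS', t1, t2⟩ := v.a2 S hS _ (c.bij.mapsTo hq)
  obtain ⟨ψ, d, e⟩ := ch_ex h q1 (v.a1 S' hS') (l := [p]) (l' := [φ q]) ⟨by simpa using hp, by simp⟩ ⟨by simpa using t1, by simp⟩
    rfl (by simp)
  replace e : ψ p = φ q := by simpa using e
  have tt : φ q * φ q = 1 := c.sq q3 (tt_sq h.tt q1)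
  have f1 := (c.fi h).nb1 hq
  have f2 := (d.fi h).nb1 hp
  rw [e, nb_comm] at f2
  have f3 : FIso (Nb S [φ q]) (Nb S' [φ q]) (φ q * ·) := ⟨f1.clo', ⟨fun y => (t2 y).2, fun _ _ _ _ => mul_left_cancel,
    fun y hy => ⟨φ q * y, (t2 _).1 (by rwa [← mul_assoc, tt, one_mul]), by simp only; rw [← mul_assoc, tt, one_mul]⟩⟩,
    fun x hx y hy => by
      have a := (mem_nb1.1 hx).2.2
      rw [mul_inv_rev, show φ q * x * (φ q * y) * (x⁻¹ * (φ q)⁻¹) = φ q * (x * φ q * y * x⁻¹) * (φ q)⁻¹ by group, ← a.eq,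
        conj_eq_iff_commute.2 ((((Commute.refl _).mul_right a).mul_right (mem_nb1.1 hy).2.2).mul_right a.inv_right)]
      group⟩
  obtain ⟨τ, f4, -, e4⟩ := f2.symm
  have f5 := (f1.trans f3).trans f4
  rw [nb_nb] at f5 f1
  obtain ⟨k, k1, k2, k3, k4⟩ := res_aut h pq f5
  obtain ⟨π, r⟩ := h.lv.rl2 lv23 pq
  have key : Ag σ p q φ fun x => ψ (k * x * k⁻¹) := fun x hx => by
    rw [← r.gen' (h.rl8.meet hD pq (h.gts 2 (by norm_num)) (by simp))] at hx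
    have s : ∀ y ∈ Nb D [p, q], ∀ x ∈ closure (Nb D [p, q]), ((σ x = 1 ∧ ψ (k * x * k⁻¹) = φ x) ∨
        (σ x = -1 ∧ ψ (k * x * k⁻¹) = φ q * φ x)) → ((σ (y * x) = 1 ∧ ψ (k * (y * x) * k⁻¹) = φ (y * x)) ∨
        (σ (y * x) = -1 ∧ ψ (k * (y * x) * k⁻¹) = φ q * φ (y * x))) := fun y hy x hx ih => by
      have yc : y ∈ Cn [p, q] := mem_cn.2 hy.2.2
      have xc := nb_le_cn hx
      rw [show k * (y * x) * k⁻¹ = k * y * k⁻¹ * (k * x * k⁻¹) by group, d.mul _ _ (cn2.1 (k3 y yc)).2 (cn2.1 (k3 x xc)).2,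
        c.mul _ _ (cn2.1 yc).1 (cn2.1 xc).1, map_mul, hσ y hy.1, k4 y hy, e4 _ (f3.mem (f1.mem hy))]
      rcases ih with ⟨a, b⟩ | ⟨a, b⟩ <;> rw [a, b]
      · exact .inr ⟨rfl, mul_assoc ..⟩
      · exact .inl ⟨rfl, by rw [mul_assoc, ← mul_assoc (φ y), ← (c.cm q3 (cn2.1 yc).1 (cn2.1 yc).2).eq, mul_assoc, ← mul_assoc, tt,
          one_mul]⟩
    induction hx using Subgroup.closure_induction_left with
    | one => exact .inl ⟨map_one σ, by simp only [mul_one, mul_inv_cancel, c.one, d.one]⟩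
    | mul_left y hy x hx ih => exact s y hy x hx ih
    | inv_mul_cancel y hy x hx ih => rw [tt_inv h.tt hy.1]; exact s y hy x hx ih
  have kp : k * p * k⁻¹ = p := k1.resolve_right fun n => by
    rcases key p (cn2.2 ⟨Commute.refl p, q3.symm⟩) with ⟨a, -⟩ | ⟨-, b⟩
    · exact absurd ((hσ p c.mem).symm.trans a) (by decide)
    · simp only [n, d.self, c.self, mul_one] at b
      exact ((c.ker q q3).1 b.symm).elim (tt_ne_one h.tt q1) q2
  refine ⟨S', hS', _, d.conj h ?_, key⟩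
  have := (conj_eq_iff_commute.1 kp).inv_right.mul_right k2
  rw [inv_mul_cancel_left] at this
  exact this.symm
theorem Ag.ev {σ : F →* ℤˣ} {p q x : F} {φ ψ : F → G} (a : Ag σ p q φ ψ) (x1 : Commute p x) (x2 : Commute q x) (s : σ x = 1) :
    ψ x = φ x := ((a x (cn2.2 ⟨x1, x2⟩)).resolve_right fun k => absurd (s.symm.trans k.1) (by decide)).2
theorem Ag.od {σ : F →* ℤˣ} {p q x : F} {φ ψ : F → G} (a : Ag σ p q φ ψ) (x1 : Commute p x) (x2 : Commute q x) (s : σ x = -1) :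
    ψ x = φ q * φ x := ((a x (cn2.2 ⟨x1, x2⟩)).resolve_left fun k => absurd (s.symm.trans k.1) (by decide)).2
/-- three compatible charts -/
theorem ch_tri (h : M24 D) (σ : F →* ℤˣ) (hσ : ∀ y ∈ D, σ y = -1) {𝒮 : Set (Set G)} (v : Fam 𝒮) {S : Set G} (hS : S ∈ 𝒮)
    {a b c d : F} {φ : F → G} (k : Ch D a S φ) (q : Clq D [a, b, c]) (hd : d ∈ Nb D [b, c]) (n : ¬ Commute a d) :
    ∃ S' ∈ 𝒮, ∃ ψ, Ch D b S' ψ ∧ Ag σ a b φ ψ ∧ ∃ S'' χ, Ch D c S'' χ ∧ Ag σ a c φ χ ∧ χ (a * d) = ψ (a * d) := by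
  obtain ⟨n1, m1, c1⟩ := clq_iff.1 q
  simp only [List.nodup_cons, List.mem_cons, List.not_mem_nil, or_false, not_or, forall_eq_or_imp, forall_eq] at n1 m1 c1
  obtain ⟨⟨-, ab, ac⟩, ⟨-, -, bc⟩, -⟩ := c1
  have nb : ∀ {x y}, y ∈ D → y ≠ x → Commute x y → y ∈ Nb D [x] := fun a b c => mem_nb1.2 ⟨a, b, c⟩
  obtain ⟨S1, h1, ψ, k1, a1⟩ := ch_ext h σ hσ v hS k (nb m1.2.1 (Ne.symm n1.1.1) ab)
  obtain ⟨S2, h2, χ, k2, a2⟩ := ch_ext h σ hσ v hS k (nb m1.2.2 (Ne.symm n1.1.2) ac)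
  obtain ⟨S3, h3, χ', k3, a3⟩ := ch_ext h σ hσ v h1 k1 (nb m1.2.2 (Ne.symm n1.2.1) bc)
  have sa := hσ a m1.1
  have sb := hσ b m1.2.1
  have ha := nb m1.1 n1.1.2 ac.symm
  have hb := nb m1.2.1 n1.2.1 bc.symm
  have bb := k.sq ab (tt_sq h.tt m1.2.1)
  have cb := k.cm ab ac bc
  have e1 : ψ c = φ b * φ c := a1.od ac bc (hσ c m1.2.2)
  have e2 : ∀ x, Commute a x → Commute b x → Commute c x → σ x = -1 → χ' x = χ x := fun x u w y s => by
    rw [a3.od w y s, a2.od u y s, a1.od u w s, e1, cb.eq, mul_assoc, ← mul_assoc (φ b), bb, one_mul]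
  have ea := e2 a (Commute.refl a) ab.symm ac.symm sa
  have eb := e2 b ab (Commute.refl b) bc.symm sb
  obtain rfl := v.a3 S2 h2 S3 h3 _ _ ((k2.fi h).clq (l := [a, b]) ⟨by simp [ha, hb], by simp [n1.1.1, ab]⟩)
    (ea ▸ k3.bij.mapsTo ha) (eb ▸ k3.bij.mapsTo hb)
  have q' : Clq D [c, b] := clq_cons.2 ⟨m1.2.2, by simpa using hb, by simp⟩
  rw [nb_perm (List.Perm.swap c b [])] at hd
  have hd1 := nb2.1 hd
  have ha1 : a ∈ Nb D [c, b] := nb2.2 (mem_nb1.2 ⟨ha, n1.1.1, ab.symm⟩)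
  obtain ⟨u, hu, e⟩ := (k2.fi h).surj (k3.bij.mapsTo hd1.1)
  have hu1 : u ∈ Nb D [c, b] := nb2.2 (((k2.fi h).mem_nb (l := [b]) (by simpa using hb) hu).1 (by
    rw [e, List.map_cons, ← eb]; exact ((k3.fi h).nb1 hb).mem hd1))
  obtain ⟨π, r⟩ := h.lv.rl2 lv23 q'
  have := (m22.line (r.fi.mem ha1) (r.fi.mem hd) (mt (r.fi.comm ha1 hd).1 n)).1.ln _ (r.fi.mem hu1) fun y hy => by
    obtain ⟨x, hx, rfl⟩ := (r.fi.nb (l := [a, d]) (by simp [ha1, hd])).surj hy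
    have x1 := (nb2.1 hx.1).1
    refine (r.fi.comm hx.1 hu1).2 (((k2.fi h).comm x1 hu).1 ?_)
    rw [e, ← e2 x (hx.2.2 a (by simp)) (hx.1.2.2 b (by simp)) (hx.1.2.2 c (by simp)) (hσ x hx.1.1)]
    exact ((k3.fi h).comm x1 hd1.1).2 (hx.2.2 d (by simp)).symm
  rw [← r.fi.cj a ha1 d hd] at this
  have cd := hd.2.2 c (by simp)
  have bd := hd.2.2 b (by simp)
  have sd : σ (a * d) = 1 := by rw [map_mul, sa, hσ d hd.1]; rfl
  have e3 := a3.ev (ab.symm.mul_right bd) (ac.symm.mul_right cd) sd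
  rw [k3.mul _ _ ac.symm cd, ea, ← e, ← k2.mul _ _ ac.symm (mem_nb1.1 hu).2.2] at e3
  rcases this with w | w | w
  · rw [r.fi.inj hu1 ha1 w, ← ea] at e
    exact absurd ((k3.fi h).inj ha hd1.1 e ▸ Commute.refl a) n
  · rw [r.fi.inj hu1 hd w] at e3
    exact ⟨S1, h1, ψ, k1, a1, _, χ, k2, a2, e3⟩
  · refine ⟨S1, h1, _, k1.conj h ab.symm, fun x hx => ?_, _, χ, k2, a2, ?_⟩
    · simp only [conj_eq_iff_commute.2 (cn2.1 hx).1]; exact a1 x hx
    · rw [r.fi.inj hu1 (r.fi.clo a ha1 d hd) w, ← mul_assoc, ← mul_assoc, tt_sq h.tt m1.1, one_mul, tt_inv h.tt m1.1] at e3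
      have i : a * d = (d * a)⁻¹ := by rw [mul_inv_rev, tt_inv h.tt m1.1, tt_inv h.tt hd.1]
      rw [← mul_assoc, tt_sq h.tt m1.1, one_mul, tt_inv h.tt m1.1, i, k2.inv (cd.mul_right ac.symm), e3, i,
        k1.inv (bd.mul_right ab.symm), inv_inv]
/-! ### the homomorphism into the wreath product -/
/-- the section -/
def sg (s : G) (ε : ℤˣ) : G := if ε = 1 then 1 else s
/-- the elements of the wreath product given by a chart -/
def Wf (σ : F →* ℤˣ) (φ : F → G) (s : G) (x : F) : G ≀ᵣ ℤˣ := ⟨fun ε => sg s ε * φ x * (sg s ((σ x)⁻¹ * ε))⁻¹, σ x⟩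
/-- the odd involutions of the wreath product -/
def Xw (γ : G) : G ≀ᵣ ℤˣ := ⟨fun ε => if ε = 1 then γ⁻¹ else γ, -1⟩
theorem uc {P : ℤˣ → Prop} (a : P 1) (b : P (-1)) (ε : ℤˣ) : P ε := (Int.units_eq_one_or ε).elim (· ▸ a) (· ▸ b)
theorem Xw_sq {a b : G} (h : a * a = 1) (k : a * b * (a * b) = 1) : (Xw a * Xw b) ^ 2 = 1 := by
  have i := inv_eq_of_mul_eq_one_left h
  have k' : a * b⁻¹ * (a * b⁻¹) = 1 := by
    have := congrArg (fun x => a * x⁻¹ * a) k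
    simpa [i, mul_assoc, h] using this
  rw [pow_two]
  refine RegularWreathProduct.ext (funext (uc ?_ ?_)) rfl
  · simpa [Xw, i] using k
  · simpa [Xw, i] using k'
namespace Ch
variable {p x y a : F} {S : Set G} {φ : F → G} (c : Ch D p S φ) (σ : F →* ℤˣ)
include c
theorem wmul (s : G) (hx : Commute p x) (hy : Commute p y) : Wf σ φ s (x * y) = Wf σ φ s x * Wf σ φ s y :=
  RegularWreathProduct.ext (funext fun ε => by simp [Wf, c.mul x y hx hy, mul_assoc, mul_comm, mul_left_comm]) (map_mul σ x y)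
theorem wone (s : G) : Wf σ φ s 1 = 1 := RegularWreathProduct.ext (funext fun ε => by simp [Wf, c.one]) (map_one σ)
theorem wx (ha : Commute p a) (hx : Commute p x) (x2 : x * x = 1) (s : σ x = -1) :
    Wf σ φ (φ a) x = Xw (φ (a * x)) := by
  refine RegularWreathProduct.ext (funext (uc ?_ ?_)) s
  · simp [Wf, Xw, sg, s, c.mul _ _ ha hx, inv_eq_of_mul_eq_one_left (c.sq hx x2)]
  · simp [Wf, Xw, sg, s, c.mul _ _ ha hx]
theorem wev (s : G) {xs : List F} {ys : List (G ≀ᵣ ℤˣ)} {w : List ℕ}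
    (h : ∀ i ∈ w, Commute p (ev xs [i]) ∧ ys.getD i 1 = Wf σ φ s (ev xs [i])) :
    Commute p (ev xs w) ∧ ev ys w = Wf σ φ s (ev xs w) := by
  induction w with
  | nil => exact ⟨Commute.one_right p, (c.wone σ s).symm⟩
  | cons i w ih =>
    obtain ⟨⟨a, b⟩, d⟩ := List.forall_mem_cons.1 h
    rw [ev_single] at a b
    rw [ev_cons, ev_cons, c.wmul σ s a (ih d).1, b, (ih d).2]
    exact ⟨a.mul_right (ih d).1, rfl⟩
end Ch
/-- the generators -/
noncomputable abbrev xx (i : ℕ) : F24 := pv x24 (i, [])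
/-- the transposition of the last relator -/
noncomputable abbrev ww : F24 := pv x24 (2, f24v)
theorem xx_mem {i : ℕ} (h : i < 12) : xx i ∈ E24 := fm24.pv_mem h
theorem xx_cm {i j : ℕ} (h : i < 12 ∧ j < 12 ∧ tb (t24.pn (i, [])) (t24.pi (j, [])) = true) : Commute (xx i) (xx j) :=
  (fm24.comm_iff h.1 h.2.1).1 h.2.2
theorem amalgam {𝒮 : Set (Set G)} (v : Fam 𝒮) {S : Set G} (hS : S ∈ 𝒮) {φ : F24 → G} (k : Ch E24 (xx 0) S φ) :
    ∃ S' ∈ 𝒮, ∃ ψ, Ch E24 (xx 9) S' ψ ∧ Ag sgn24 (xx 0) (xx 9) φ ψ ∧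
      (φ ww * ψ (xx 0 * xx 1) * (φ ww * ψ (xx 0 * xx 1)) = 1 →
        ∃ θ : sgn24.ker →* G, ∀ x : sgn24.ker, Commute (xx 0) x → θ x = φ x) := by
  have q := fm24.clq' (l := [(1, []), (9, []), (3, [])]) (by decide +kernel)
  obtain ⟨S', h1, ψ, k1, a1, S2, χ, k2, a2, e⟩ := ch_tri m24 sgn24 sgn24_eq v hS k
    (fm24.clq' (l := [(0, []), (9, []), (3, [])]) (by decide +kernel)) (clq_cons'.1 q).1
    (mt (fm24.comm_iff (by decide) (by decide)).2 (by decide +kernel))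
  refine ⟨S', h1, ψ, k1, a1, fun r => ?_⟩
  let γ : ℕ → G := fun i => if i = 1 then ψ (xx 0 * xx 1) else φ (xx 0 * xx i)
  let ys := (List.range 12).map fun i => Xw (γ i)
  have y0 : ∀ i < 12, ys.getD i 1 = Xw (γ i) := fun i hi => by
    rw [List.getD_eq_getElem _ _ (by simpa [ys] using hi)]; simp [ys]
  have sq := fun i (hi : i < 12) => tt_sq m24.tt (xx_mem hi)
  have sn := fun i (hi : i < 12) => sgn24_eq _ (xx_mem hi)
  have se := fun i (hi : i < 12) => M24.ev2 sgn24 sgn24_eq (xx_mem (i := 0) (by decide)) (xx_mem hi)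
  have c0 : ∀ i < 12, i ≠ 1 → Commute (xx 0) (xx i) := fun i a b => xx_cm (by revert i; decide +kernel)
  have c9 : ∀ i < 12, i ≠ 8 → Commute (xx 9) (xx i) := fun i a b => xx_cm (by revert i; decide +kernel)
  have c3 : ∀ i ∈ [0, 1, 8], Commute (xx 3) (xx i) := fun i a => xx_cm (by revert i; decide +kernel)
  have g0 : ∀ i, i < 12 ∧ i ≠ 1 → Commute (xx 0) (ev x24 [i]) ∧ ys.getD i 1 = Wf sgn24 φ (φ (xx 0)) (ev x24 [i]) := fun i ⟨a, b⟩ =>
    ⟨c0 i a b, by rw [y0 i a]; exact (congrArg Xw (if_neg b)).trans (k.wx _ (Commute.refl _) (c0 i a b) (sq i a) (sn i a)).symm⟩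
  have g9 : ∀ i, i < 12 ∧ i ≠ 8 → Commute (xx 9) (ev x24 [i]) ∧ ys.getD i 1 = Wf sgn24 ψ (ψ (xx 0)) (ev x24 [i]) := fun i ⟨a, b⟩ =>
    ⟨c9 i a b, by
      rw [y0 i a]
      refine Eq.trans (congrArg Xw ?_) (k1.wx _ (c9 0 (by decide) (by decide)) (c9 i a b) (sq i a) (sn i a)).symm
      by_cases n : i = 1
      · subst n; rfl
      · exact (if_neg n).trans (a1.ev ((Commute.refl _).mul_right (c0 i a n)) ((c9 0 (by decide) (by decide)).mul_right (c9 i a b))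
          (se i a)).symm⟩
  have g3 : ∀ i ∈ [1, 8], Commute (xx 3) (ev x24 [i]) ∧ ys.getD i 1 = Wf sgn24 χ (χ (xx 0)) (ev x24 [i]) := fun i m => by
    have a : i < 12 := by revert i; decide
    have b := c3 i (List.mem_cons_of_mem _ m)
    refine ⟨b, ?_⟩
    rw [y0 i a]
    refine Eq.trans (congrArg Xw ?_) (k2.wx _ (c3 0 (by decide)) b (sq i a) (sn i a)).symm
    rcases List.mem_pair.1 m with rfl | rfl
    · exact e.symm
    · exact (a2.ev ((Commute.refl _).mul_right (c0 8 a (by decide))) ((c3 0 (by decide)).mul_right b) (se 8 a)).symm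
  have cw : Commute (xx 0) ww := (fm24.comm_iff (by decide) (by decide)).1 (by decide +kernel)
  have wm : ww ∈ E24 := fm24.pv_mem (by decide)
  obtain ⟨Θ, hΘ⟩ := f24_gen.2 _ ys rfl fun w hw => by
    rcases (by decide +kernel : ∀ w ∈ f24R, (∀ i ∈ w, i < 12 ∧ i ≠ 1) ∨ (∀ i ∈ w, i < 12 ∧ i ≠ 8) ∨ (∀ i ∈ w, i ∈ [1, 8]) ∨
      w = pwW 2 (cat (cjW f24v 2) [1])) w hw with u | u | u | rfl
    · rw [(k.wev _ _ fun i hi => g0 i (u i hi)).2, f24_rels w hw, k.wone]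
    · rw [(k1.wev _ _ fun i hi => g9 i (u i hi)).2, f24_rels w hw, k1.wone]
    · rw [(k2.wev _ _ fun i hi => g3 i (u i hi)).2, f24_rels w hw, k2.wone]
    · rw [ev_pwW, cat_eq, ev_append, ev_single, y0 1 (by decide), (k.wev _ _ fun i hi => g0 i (by revert i; decide)).2]
      have := k.wx sgn24 (Commute.refl _) cw (tt_sq m24.tt wm) (sgn24_eq _ wm)
      rw [k.mul _ _ (Commute.refl _) cw, k.self, one_mul, ← k.self] at this
      exact this ▸ Xw_sq (k.sq cw (tt_sq m24.tt wm)) r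
  have t : ∀ w, Θ (ev x24 w) = ev ys w := fun w => by rw [← ev_map, hΘ]
  have s : ∀ x, (Θ x).right = sgn24 x := fun x => DFunLike.congr_fun (MonoidHom.eq_of_eqOn_dense
    (f := RegularWreathProduct.rightHom.comp Θ) (g := sgn24) f24M.top fun y hy => by
      obtain ⟨i, hi, rfl⟩ := List.getElem_of_mem hy
      have := t [i]
      rw [ev_single, ev_single, y0 i hi, List.getD_eq_getElem _ _ hi] at this
      exact (congrArg (·.right) this).trans (sgn24_eq _ (x24_mem _ hy)).symm) x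
  refine ⟨MonoidHom.mk' (fun x => (Θ x).left 1) fun x y => by
    simp [s, show sgn24 x = 1 from x.2], fun x hx => ?_⟩
  have : ∀ y ∈ cl k24, Commute (xx 0) y ∧ Θ y = Wf sgn24 φ (φ (xx 0)) y := fun y hy => by
    induction hy using Subgroup.closure_induction with
    | mem y hy =>
      obtain ⟨w, hw, rfl⟩ := List.mem_map.1 hy
      rw [t]
      exact k.wev _ _ fun i hi => g0 i ((by decide : ∀ w ∈ f24K, ∀ i ∈ w, i < 12 ∧ i ≠ 1) w hw i hi)
    | one => exact ⟨Commute.one_right _, (map_one Θ).trans (k.wone _ _).symm⟩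
    | mul x y _ _ a b => exact ⟨a.1.mul_right b.1, by rw [map_mul, a.2, b.2, k.wmul _ _ a.1 b.1]⟩
    | inv x _ a => exact ⟨a.1.inv_right, by
        rw [map_inv, a.2, inv_eq_iff_mul_eq_one, ← k.wmul _ _ a.1 a.1.inv_right, mul_inv_cancel, k.wone]⟩
  change (Θ x).left 1 = _
  rw [(this x ((f24_cent.trans cl_a24).le (mem_cent1.2 hx))).2]
  simp [Wf, sg, show sgn24 x = 1 from x.2]
end H1.Lf
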