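import Cfsg.Agent.H1.G7
import Cfsg.Agent.H1.I1
import Cfsg.Agent.H1.I2

/-! Groups of large Fischer type: the subgroups `2·M(22)` and `M(23)`. -/

set_option autoImplicit false
set_option linter.unusedSectionVars false
set_option maxRecDepth 100000

namespace H1.Lf
noncomputable section
open H13 MulAction Cfsg H27 Subgroup H1.Fi H18 H28
universe u
variable {G : Type u} [Group G] [Finite G] {z : G} {R : Subgroup G} {π : Cz z →* AL V6} {P : V6 → G → Prop}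

/-- the class of `d` under `K` -/
def Cl (K : Subgroup G) (d : G) : Set G := {y | ∃ k ∈ K, k * d * k⁻¹ = y}
theorem Cl.cj {K : Subgroup G} {d y c : G} (hd : y ∈ Cl K d) (hc : c ∈ K) : c * y * c⁻¹ ∈ Cl K d :=
  let ⟨k, a, b⟩ := hd; ⟨c * k, mul_mem hc a, by rw [← b]; group⟩
theorem Cl.iff {K : Subgroup G} {d c : G} (hc : c ∈ K) (y : G) : c * y * c⁻¹ ∈ Cl K d ↔ y ∈ Cl K d :=
  ⟨fun a => by simpa [mul_assoc] using Cl.cj a (inv_mem hc), fun a => Cl.cj a hc⟩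
theorem Cl.self (K : Subgroup G) (d : G) : d ∈ Cl K d := ⟨1, one_mem _, by simp⟩
theorem Cl.mem {K : Subgroup G} {d y : G} (hd : d ∈ K) (hy : y ∈ Cl K d) : y ∈ K :=
  let ⟨_, a, b⟩ := hy; b ▸ mul_mem (mul_mem a hd) (inv_mem a)
theorem fiso_cl {M : Type*} [Group M] {K : Subgroup G} (μ : K →* M) (hs : Function.Surjective μ) {d : K}
    (i : ∀ k : K, μ (k * d * k⁻¹) = μ d → k * d * k⁻¹ = d) :
    ∃ τ, FIso (Cl K d) (conjugatesOf (μ d)) τ ∧ ∀ y : K, τ y = μ y := by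
  classical
  refine ⟨fun y => if h : y ∈ K then μ ⟨y, h⟩ else 1, ?_, fun y => dif_pos y.2⟩
  generalize hτ : (fun y => if h : y ∈ K then μ ⟨y, h⟩ else 1) = τ
  have t : ∀ y : K, τ y = μ y := fun y => hτ ▸ dif_pos y.2
  refine ⟨fun x hx y hy => Cl.cj hy (Cl.mem d.2 hx), ⟨?_, ?_, fun y hy => ?_⟩, fun x hx y hy => ?_⟩
  · rintro _ ⟨k, hk, rfl⟩
    exact (t (⟨k, hk⟩ * d * ⟨k, hk⟩⁻¹)).symm ▸ isConj_iff.2 ⟨μ ⟨k, hk⟩, by simp⟩
  · rintro _ ⟨k, hk, rfl⟩ _ ⟨l, hl, rfl⟩ e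
    have e := (t (⟨k, hk⟩ * d * ⟨k, hk⟩⁻¹)).symm.trans (e.trans (t (⟨l, hl⟩ * d * ⟨l, hl⟩⁻¹)))
    have := congrArg Subtype.val (i (⟨l, hl⟩⁻¹ * ⟨k, hk⟩) (by
      simp only [map_mul, map_inv, mul_inv_rev, inv_inv] at e ⊢
      rw [show ∀ a b c : M, a⁻¹ * b * c * (b⁻¹ * a) = a⁻¹ * (b * c * b⁻¹) * a from fun a b c => by group, e]; group))
    conv_rhs => rw [← this]
    simp [mul_assoc]
  · obtain ⟨k, rfl⟩ := isConj_iff.1 hy
    obtain ⟨k, rfl⟩ := hs k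
    exact ⟨_, ⟨k, k.2, rfl⟩, (t (k * d * k⁻¹)).trans (by simp)⟩
  · have a := t ⟨x, Cl.mem d.2 hx⟩
    have b := t ⟨y, Cl.mem d.2 hy⟩
    exact (t (⟨x, Cl.mem d.2 hx⟩ * ⟨y, Cl.mem d.2 hy⟩ * ⟨x, Cl.mem d.2 hx⟩⁻¹)).trans (by rw [map_mul, map_mul, map_inv, ← a, ← b])
theorem tilde {Γ M : Type*} [Group Γ] [Group M] {K C : Subgroup G} (μ : K →* Γ) (hs : Function.Surjective μ) {d : Γ} (hC : C ≤ K)
    (c : ∀ k : K, Commute d (μ k) ↔ k.1 ∈ C) (ψ : C →* M) (sψ : Function.Surjective ψ)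
    (kψ : ∀ c : C, ψ c = 1 ↔ μ ⟨c, hC c.2⟩ ∈ zpowers d) (p : Group.IsPerfect C) [IsSimpleGroup M] (zM : center M = ⊥) :
    IsQuasisimple (centralizer {d}) ∧ ∃ _ : ((zpowers d).subgroupOf (centralizer {d})).Normal,
      Nonempty (centralizer {d} ⧸ (zpowers d).subgroupOf (centralizer {d}) ≃* M) := by
  let ν : C →* centralizer {d} := (μ.comp (inclusion hC)).codRestrict _ fun x => mem_cent1.2 ((c _).2 x.2)
  have sν : Function.Surjective ν := fun y => by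
    obtain ⟨k, e⟩ := hs y
    exact ⟨⟨k, (c k).1 (e ▸ mem_cent1.1 y.2)⟩, Subtype.ext e⟩
  obtain ⟨χ, e⟩ := H13.lift_surj ν sν ψ fun x a => (kψ x).2 ((show μ ⟨x, hC x.2⟩ = 1 from congrArg Subtype.val a) ▸ one_mem _)
  have sχ : Function.Surjective χ := fun y => let ⟨x, a⟩ := sψ y; ⟨_, (e x).trans a⟩
  have k : ∀ y, χ y = 1 ↔ y.1 ∈ zpowers d := fun y => by obtain ⟨x, rfl⟩ := sν y; rw [e, kψ]; rfl
  refine ⟨⟨p.ofSurjective sν, ?_⟩, quot_equiv_of χ sχ k⟩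
  exact ((QuotientGroup.quotientMulEquivOfEq (center_of_hom χ sχ zM fun y hy => mem_center_iff.2 fun w => Subtype.ext (by
    obtain ⟨n, e⟩ := (k y).1 hy
    change w.1 * y.1 = y * w
    rw [← e]; exact ((mem_cent1.1 w.2).zpow_left n).symm))).trans (QuotientGroup.quotientKerEquivOfSurjective χ sχ)).isSimpleGroup
theorem iso22 {Γ : Type*} [Group Γ] [Finite Γ] {D : Set Γ} (m : M22 D) : ∃ e : Γ ≃* Spor.Fi22, e '' D = E22 := by
  have h := m.lv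
  obtain ⟨d, hd⟩ := m.ne
  obtain ⟨π, r⟩ := u6_fiso
  obtain ⟨σ, f⟩ := fiso22 h.tg (fun y hy => let ⟨_, t⟩ := h.loc y hy; ⟨_, r.fi.trans t⟩) hd fun y hy => isConj_iff.2 (h.cls d hd y hy)
  obtain ⟨e, he, -⟩ := equiv_of_fiso h.tg h.cen e22_class fi22_center f
  exact ⟨e, he⟩
theorem iso23 {Γ : Type*} [Group Γ] [Finite Γ] {D : Set Γ} (m : M23 D) : ∃ e : Γ ≃* Spor.Fi23, e '' D = E23 := by
  have h := m.lv
  obtain ⟨d, hd⟩ := m.ne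
  obtain ⟨σ, f⟩ := fiso23 h.tg h.loc hd fun y hy => isConj_iff.2 (h.cls d hd y hy)
  obtain ⟨e, he, -⟩ := equiv_of_fiso h.tg h.cen e23_class fi23_center f
  exact ⟨e, he⟩

/-- one half of the neighbours -/
def HH (z : G) (e : ℕ → G) : Set G := {w | e 6 * w ∈ DD z e}
namespace Fr
variable {h : FT0 z R π P} {x : Cz z} {e : ℕ → G} (f : Fr h x e) {a b d y w g n : G}
include f
theorem sq (a : ℕ) : e a * e a = 1 := h.A_sq (f.mem a)
theorem ee (a : ℕ) (y : G) : e a * (e a * y) = y := by rw [← mul_assoc, f.sq, one_mul]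
theorem nD {a : ℕ} (ha : a < 2048) (n : XZ.testBit a = false) : e a ∉ DD z e := fun k => f.nz ha n (Disc k)
theorem HC (hy : y ∈ HH z e) : y ∈ CE e := (mul_mem_cancel_left (f.A_CE (f.mem 6))).1 (f.DC hy)
theorem Hcj (hg : g ∈ CE e) (y : G) : g * y * g⁻¹ ∈ HH z e ↔ y ∈ HH z e := by
  change _ ∈ Cl _ _ ↔ _ ∈ Cl _ _
  rw [← Cl.iff hg (e 6 * y), ← _root_.conj_mul, cj_cm (f.CE_cm hg (j := 6) (by simp))]
theorem H7 : e 7 ∈ HH z e := by change e 6 * e 7 ∈ DD z e; rw [← f.xor]; exact f.eD (by decide)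
theorem e7 : e 7 = e 6 * z := by rw [← f.e1, ← f.xor]; rfl
theorem H_eq : HH z e = Cl (CE e) (e 7) := Set.ext fun y => ⟨fun ⟨k, a, b⟩ => ⟨k, a, by
  rw [f.e7, ← _root_.conj_mul, b, cj_cm (f.CE_cm a (by simp)), f.ee]⟩, fun ⟨k, a, b⟩ => b ▸ (f.Hcj a _).2 f.H7⟩
theorem Dfi : ∃ τ, FIso (DD z e) U6 τ := by
  obtain ⟨ψ, s, k⟩ := f.u6
  obtain ⟨τ, t, -⟩ := fiso_cl ψ s (d := ⟨z, f.DC zD⟩) fun c q => by
    obtain ⟨j, hj, u⟩ := (k (⟨z, f.DC zD⟩⁻¹ * (c * ⟨z, f.DC zD⟩ * c⁻¹))).1 (by rw [map_mul, q, map_inv, inv_mul_cancel])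
    replace u : c * z * c.1⁻¹ = z * e j := inv_mul_eq_iff_eq_mul.1 u
    rcases List.mem_cons.1 hj with rfl | hj
    · exact Subtype.ext (by rw [f.e0, mul_one] at u; exact u)
    · exact absurd (isc _ u) (f.Dnz zD hj)
  obtain ⟨-, a, ⟨σ, s1⟩, c⟩ := u6_main card_K4
  have m := c (ψ ⟨z, f.DC zD⟩) (orderOf_eq_prime (by rw [pow_two, ← map_mul]; exact (congrArg ψ (Subtype.ext (f.Dsq zD))).trans (map_one ψ))
    fun q => by
      obtain ⟨j, hj, u⟩ := (k _).1 q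
      exact absurd (f.inj 1 (by decide) j (by clear u; revert j; decide) (f.e1.trans u)) (by clear u; revert j; decide)) fun g => by
    obtain ⟨g, rfl⟩ := s g
    rw [← map_inv, ← map_mul, ← map_mul, ← map_mul, ← map_pow, ← map_one ψ]
    refine congrArg ψ (Subtype.ext ?_)
    rcases f.tts.2 z zD _ (Dcj zD g.2) with q | q
    · exact (pow_mul _ 2 3).trans ((congrArg (· ^ 3) q).trans (one_pow 3))
    · exact (pow_mul _ 3 2).trans ((congrArg (· ^ 2) q).trans (one_pow 2))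
  obtain ⟨ρ, r⟩ := u6_fiso
  obtain ⟨σ', s2, -⟩ := s1.symm
  rw [show conjugatesOf a = conjugatesOf (ψ ⟨z, f.DC zD⟩) from Set.ext fun _ => ⟨m.symm.trans, m.trans⟩] at s2
  exact ⟨_, (t.trans s2).trans r.fi⟩
theorem c8 (hg : g ∈ CE e) (c : g ∈ Cz z) {j : ℕ} (hj : j < 8) : Commute g (e j) := by
  rcases (by decide : ∀ j < 8, j ∈ [0, 2, 4, 6] ∨ ∃ i ∈ [0, 2, 4, 6], j = i ^^^ 1) j hj with k | ⟨i, k, rfl⟩
  · exact f.CE_cm hg k
  · rw [f.xor, f.e1]; exact (f.CE_cm hg k).mul_right (mem_Cz.1 c)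
theorem n2 : ∃ n, n * e 2 * n⁻¹ = e 2 ∧ n * e 4 * n⁻¹ = e 7 ∧ n * e 7 * n⁻¹ = e 4 ∧
    ∀ w ∈ Nb (HH z e) [e 7], n * w * n⁻¹ ∈ HH z e := by
  obtain ⟨n, -, k⟩ := f.re [1, 2, 7, 8, 24, 43, 126, 894, 259, 451, 1027] (by decide +kernel)
  refine ⟨n, k 2 (by decide), k 4 (by decide), k 7 (by decide), fun w hw => ?_⟩
  obtain ⟨w1, w2, w3⟩ := mem_nb1.1 hw
  have c : e 6 * w ∈ Cz z := mem_Cz.2 (by
    rw [← f.ee 6 z, ← f.e7]
    exact ((f.cm 6 6).mul_right (f.cm 6 7)).mul_left ((f.CE_cm (f.HC w1) (by simp)).mul_right w3.symm))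
  obtain ⟨l, l1, l2⟩ := f.star (d := ⟨_, c⟩) w1
  obtain ⟨a, a1, a2⟩ := f.inA (Dcj w1 l1) l2
  have q : ∀ j < 8, Commute (n * l.1⁻¹ * n⁻¹) (n * e j * n⁻¹) := fun j hj => (cm_iff n).2 (f.c8 l1 l.2 hj).inv_left
  have m : n * l.1⁻¹ * n⁻¹ ∈ CE e := ⟨mem_Cz.2 ((k 2 (by decide) : _ = e 2) ▸ q 2 (by decide)),
    mem_Cz.2 ((k 7 (by decide) : _ = e 4) ▸ q 7 (by decide))⟩
  have a3 : a ≠ 1 := fun u => w2 (by
    rw [u, f.e1] at a2
    rw [f.e7, cj_inj ((mem_Cz'.1 l.2).trans a2), f.ee])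
  have := Dcj (f.eD ((by decide +kernel : ∀ a ∈ DA, a ≠ 1 →
    3 ^^^ xsum [1, 2, 7, 8, 24, 43, 126, 894, 259, 451, 1027] a ∈ DA) a a1 a3)) m
  rw [f.xor, ← k a (DA_lt a a1), ← _root_.conj_mul, a2, ← show _ = e 3 from k 3 (by decide), cj_cm (q 3 (by decide))] at this
  change _ ∈ DD z e
  rw [← show _ = e 6 from k 5 (by decide), _root_.conj_mul, show e 5 = _ from f.xor 3 6]
  convert this using 1
  group
theorem fb2 : Fb (Cz (e 2)) (e 4, HH z e) U6 := by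
  have c : ∀ g ∈ CE e, cf g (e 4, HH z e) = (e 4, HH z e) := fun g a => cf_of (mem_Cz.1 a.2) (f.Hcj a)
  refine ⟨fun y hy => ⟨?_, (mem_Cz.1 (f.HC hy).2).symm⟩, ?_, ?_, fun g a b _ _ _ => c g ⟨a, mem_Cz.2 b⟩⟩
  · rintro rfl
    exact f.nD (a := 6 ^^^ 4) (by decide) (by decide +kernel) (f.xor 6 4 ▸ hy)
  · obtain ⟨τ, t⟩ := f.Dfi
    refine ⟨_, FIso.trans (σ := (e 6 * ·)) ⟨fun x hx y => (f.Hcj (f.HC hx) y).2, ⟨fun _ => id, fun _ _ _ _ => mul_left_cancel,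
      fun y hy => ⟨e 6 * y, by change _ ∈ DD z e; rwa [f.ee], f.ee 6 y⟩⟩, fun x hx y hy => ?_⟩ t⟩
    have a := f.CE_cm (f.HC hx) (j := 6) (by simp)
    rw [show e 6 * x * (e 6 * y) * (e 6 * x)⁻¹ = e 6 * (x * (e 6 * y) * x⁻¹) * (e 6)⁻¹ by group, cj_cm (f.CE_cm (f.DC (Dcj hy (f.HC hx)))
      (by simp)).symm, ← _root_.conj_mul, cj_cm a]
  · obtain ⟨n, a, b, d, k⟩ := f.n2
    exact sw_of (mem_Cz'.2 a) b d k fun y hy => let ⟨g, u, v⟩ := f.H_eq.le hy; ⟨g, u.1, c g u, v⟩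
theorem nrm (a : ∀ j ∈ [2, 4], ∃ i ∈ [0, 2, 4, 6], n * e i * n⁻¹ = e j) (hg : g ∈ CE e) : n * g * n⁻¹ ∈ CE e :=
  have k : ∀ j ∈ [2, 4], Commute (n * g * n⁻¹) (e j) := fun j hj => let ⟨_, u, v⟩ := a j hj; v ▸ (cm_iff n).2 (f.CE_cm hg u)
  ⟨mem_Cz.2 (k 2 (by simp)), mem_Cz.2 (k 4 (by simp))⟩
theorem nrmD (a : ∀ j ∈ [2, 4], ∃ i ∈ [0, 2, 4, 6], n * e i * n⁻¹ = e j) (b : n * z * n⁻¹ = z) (hd : d ∈ DD z e) :
    n * d * n⁻¹ ∈ DD z e :=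
  let ⟨k, u, v⟩ := hd; ⟨_, f.nrm a u, by rw [← v]; nth_rw 1 [← b]; group⟩
end Fr
/-- the subgroup `2·M(22)` -/
structure L2 (z : G) (e : ℕ → G) (K : Subgroup G) : Prop where
  le : K ≤ Cz (e 2)
  ce : CE e ≤ K
  ad : ∀ g ∈ K, Commute (e 4) (g * e 4 * g⁻¹) → g ∈ CE e ∨ g * e 4 * g⁻¹ ∈ HH z e
  h7 : e 7 ∈ Cl K (e 4)
  nm : ∃ n, n * e 2 * n⁻¹ = e 2 ∧ ∀ y, n * y * n⁻¹ ∈ Cl K (e 4) ↔ e 2 * y ∈ Cl K (e 4)
  pf : Group.IsPerfect K
  hom : ∃ μ : K →* Spor.Fi22, Function.Surjective μ ∧ (∀ k, μ k = 1 ↔ k.1 ∈ zpowers (e 2)) ∧ ∃ τ, FIso (Cl K (e 4)) E22 τ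
theorem ad_mul {t g : G} {p : G × Set G} (t2 : t * t = 1) (c : Commute g t) (a : Ad p (cf g p)) :
    Ad (t * p.1, {y | t * y ∈ p.2}) (cf g (t * p.1, {y | t * y ∈ p.2})) := by
  have e : cf g (t * p.1, {y | t * y ∈ p.2}) = (t * (cf g p).1, {y | t * y ∈ (cf g p).2}) :=
    Prod.ext (by simp only [cf]; rw [← _root_.conj_mul, cj_cm c]) (Set.ext fun y => by
      simp only [cf, Set.mem_setOf_eq]; rw [← mul_assoc, ← mul_assoc, ← c.inv_left.eq, mul_assoc _ t])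
  rw [e]
  exact a.imp (fun q => by rw [← q]) fun q => by simpa [← mul_assoc, t2] using q
namespace Fr
variable {h : FT0 z R π P} {x : Cz z} {e : ℕ → G} (f : Fr h x e) {a b d y w g n : G}
include f
theorem l2 : ∃ K, L2 z e K := by
  obtain ⟨K, k1, k2, k3, k4⟩ := f.fb2.main ru22
  have ce : CE e ≤ K := fun g a => k2 g a.1 (.inl (cf_of (mem_Cz.1 a.2) (f.Hcj a)).symm)
  have ad : ∀ g ∈ K, Commute (e 4) (g * e 4 * g⁻¹) → g ∈ CE e ∨ g * e 4 * g⁻¹ ∈ HH z e := fun g a c =>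
    (k3 g a c).imp (fun q => ⟨k1 a, mem_Cz'.2 (congrArg Prod.fst q).symm⟩) And.left
  obtain ⟨m, m1, m2, m3, -⟩ := f.n2
  have mK : m ∈ K := k2 m (mem_Cz'.2 m1) (.inr ⟨show m * e 4 * m⁻¹ ∈ HH z e from m2.symm ▸ f.H7, m3 ▸ cf_mem.2 f.H7⟩)
  have eK : ∀ j, e j ∈ K := fun j => ce (f.A_CE (f.mem j))
  have t2 := f.sq 2
  have zp : ∀ {y}, y ∈ zpowers (e 2) → y = 1 ∨ y = e 2 := zp2 t2
  have nm : (zpowers (e 2)).subgroupOf K ≤ center K := fun y hy => mem_center_iff.2 fun w => Subtype.ext (by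
    obtain ⟨n, e⟩ := hy
    change w.1 * y.1 = y * w
    rw [← show _ = y.1 from e]; exact (show Commute _ _ from mem_Cz.1 (k1 w.2)).zpow_right n)
  have := H6.normal_of_le_center' nm
  let μ := QuotientGroup.mk' ((zpowers (e 2)).subgroupOf K)
  have kμ : ∀ k, μ k = 1 ↔ k.1 ∈ zpowers (e 2) := fun k => QuotientGroup.eq_one_iff k
  have i1 : ∀ k : K, μ (k * ⟨_, eK 4⟩ * k⁻¹) = μ ⟨_, eK 4⟩ → k.1 ∈ CE e := fun k q => by
    have u : k * e 4 * k.1⁻¹ = e 4 ∨ k * e 4 * k.1⁻¹ = e 6 :=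
      (zp ((kμ ((⟨_, eK 4⟩ : K)⁻¹ * (k * ⟨_, eK 4⟩ * k⁻¹))).1 (by rw [map_mul, q, map_inv, inv_mul_cancel]))).imp
        (fun u => (inv_mul_eq_one.1 u).symm) fun u => (inv_mul_eq_iff_eq_mul.1 u).trans (f.xor 4 2).symm
    refine (ad k k.2 (u.elim (fun u => u.symm ▸ f.cm 4 4) fun u => u.symm ▸ f.cm 4 6)).resolve_right fun v => ?_
    rcases u with u | u <;> rw [u] at v
    · exact (f.fb2.cm _ v).1 rfl
    · exact f.Dne v (f.sq 6)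
  have c1 : ∀ k : K, Commute (μ ⟨_, eK 4⟩) (μ k) ↔ k.1 ∈ CE e := fun k => ⟨fun c => i1 k (by
    rw [map_mul, map_mul, map_inv, cj_cm c.symm]), fun c => Commute.map (show Commute _ k from Subtype.ext (mem_Cz.1 c.2).symm) μ⟩
  have o : orderOf (μ ⟨_, eK 4⟩) = 2 := orderOf_eq_prime (by
    rw [pow_two, ← map_mul]; exact (congrArg μ (Subtype.ext (f.sq 4))).trans (map_one μ)) fun q =>
      (zp ((kμ _).1 q)).elim (f.e0 ▸ f.ene (i := 4) (j := 0) (by decide) (by decide) (by decide))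
        (f.ene (i := 4) (j := 2) (by decide) (by decide) (by decide))
  obtain ⟨ψ, s, k⟩ := f.u6
  have := H22.PSU_isSimpleGroup card_K4 6 (by norm_num) (by norm_num)
  obtain ⟨q, _, ⟨i⟩⟩ := tilde μ (QuotientGroup.mk'_surjective _) ce c1 ψ s (fun c => (k c).trans ⟨fun ⟨j, u, v⟩ => by
      have w : ∀ j, e j = c → μ ⟨c, ce c.2⟩ = μ ⟨_, eK j⟩ := fun j q => congrArg μ (Subtype.ext q.symm)
      have w2 : μ ⟨_, eK 2⟩ = 1 := (kμ _).2 (mem_zpowers _)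
      rw [w j v.symm]
      simp only [List.mem_cons, List.not_mem_nil, or_false] at u
      rcases u with rfl | rfl | rfl | rfl
      · rw [(kμ ⟨_, eK 0⟩).2 (show e 0 ∈ _ from f.e0.symm ▸ one_mem _)]; exact one_mem _
      · exact w2 ▸ one_mem _
      · exact mem_zpowers _
      · rw [show (⟨_, eK 6⟩ : K) = ⟨_, eK 2⟩ * ⟨_, eK 4⟩ from Subtype.ext (f.xor 2 4), map_mul, w2, one_mul]; exact mem_zpowers _,
    fun u => by
      have w : ∀ y ∈ zpowers (e 2), y ∈ f.EE := zpowers_le.2 ⟨2, by simp, rfl⟩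
      rcases zp2 (H6.ord2_mul_self o) u with u | u
      · exact w _ ((kμ _).1 u)
      · exact (mul_mem_cancel_left (inv_mem (show e 4 ∈ f.EE from ⟨4, by simp, rfl⟩))).1 (w _ ((kμ ((⟨_, eK 4⟩ : K)⁻¹ * ⟨c, ce c.2⟩)).1
          (by rw [map_mul, u, map_inv, inv_mul_cancel])))⟩) f.perf
    (center_equiv ((fi22_cover card_K4).2.1.some.symm.trans (fi22_cover gf4_card).2.1.some) psu_center)
  have m7 : μ ⟨m, mK⟩ * μ ⟨_, eK 4⟩ * (μ ⟨m, mK⟩)⁻¹ = μ ⟨_, eK 7⟩ := by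
    rw [← map_inv, ← map_mul, ← map_mul]; exact congrArg μ (Subtype.ext m2)
  obtain ⟨j, hj⟩ := iso22 (m22_tilde o q card_K4 i ⟨μ ⟨m, mK⟩, m7 ▸ mem_cent1.2 ((c1 _).2 (f.A_CE (f.mem 7))), fun u =>
    f.ene (i := 7) (j := 4) (by decide) (by decide) (by decide) (m2.symm.trans (mem_Cz'.1 (i1 ⟨m, mK⟩ (by rwa [map_mul, map_mul, map_inv])).2))⟩)
  obtain ⟨τ, t, -⟩ := fiso_cl μ (QuotientGroup.mk'_surjective _) (d := ⟨_, eK 4⟩) fun k q => Subtype.ext (mem_Cz'.1 (i1 k q).2)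
  have sj : Function.Surjective (j.toMonoidHom.comp μ) := j.surjective.comp (QuotientGroup.mk'_surjective _)
  have kj : ∀ k, (j.toMonoidHom.comp μ) k = 1 ↔ k.1 ∈ zpowers (e 2) := fun k => j.map_eq_one_iff.trans (kμ k)
  refine ⟨K, k1, ce, ad, ⟨m, mK, m2⟩, ?_, ?_, _, sj, kj, _, t.trans (hj ▸ fiso_equiv t.clo' j)⟩
  · obtain ⟨n, -, k⟩ := f.re [1, 2, 6, 8, 24, 42, 126, 769, 256, 385, 1024] (by decide +kernel)
    have n1 : n * z * n⁻¹ = z := f.e1 ▸ k 1 (by decide)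
    have n2 : n * e 2 * n⁻¹ = e 2 := k 2 (by decide)
    have n4 : n * e 4 * n⁻¹ = e 6 := k 4 (by decide)
    have n6 : n * e 6 * n⁻¹ = e 4 := k 6 (by decide)
    have key : ∀ n, n * z * n⁻¹ = z → n * e 2 * n⁻¹ = e 2 → n * e 4 * n⁻¹ = e 6 → n * e 6 * n⁻¹ = e 4 →
        ∀ y, n * y * n⁻¹ ∈ Cl K (e 4) → e 2 * y ∈ Cl K (e 4) := fun n n1 n2 n4 n6 => by
      have iv : ∀ {a b : G}, n * a * n⁻¹ = b → n⁻¹ * b * n⁻¹⁻¹ = a := fun q => by rw [← q]; group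
      have p : cf n (e 4, HH z e) = (e 2 * e 4, {y | e 2 * y ∈ HH z e}) := Prod.ext (n4.trans (f.xor 2 4)) (Set.ext fun y => by
        change e 6 * _ ∈ DD z e ↔ e 6 * _ ∈ DD z e
        rw [← mul_assoc (e 6) (e 2), ← f.xor, ← iv n6, inv_inv, show n⁻¹ * e 4 * n * (n⁻¹ * y * n) = n⁻¹ * (e 4 * y) * n⁻¹⁻¹ by group, show 6 ^^^ 2 = 4 from rfl]
        exact ⟨fun u => by simpa [mul_assoc] using f.nrmD (by simpa using ⟨.inr (.inl n2), .inr (.inr (.inr n6))⟩) n1 u,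
          f.nrmD (List.forall_mem_cons.2 ⟨⟨2, by simp, iv n2⟩, List.forall_mem_singleton.2 ⟨6, by simp, iv n4⟩⟩) (iv n1)⟩)
      have l := k4 (K.comap (MulAut.conj n⁻¹).toMonoidHom) fun g u v => k2 _ (mul_mem (mul_mem (inv_mem (mem_Cz'.2 n2)) u)
        (inv_mem (inv_mem (mem_Cz'.2 n2)))) (by
          have := (ad_mul t2 (mem_Cz.1 u) v).cf n⁻¹
          rw [← p, cf_inv, ← cf_mul, ← cf_mul] at this
          simpa using this)
      rintro y ⟨k, u, v⟩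
      refine ⟨_, l u, ?_⟩
      have c : Commute (n⁻¹ * k * n) (e 2) := mem_Cz.1 (k1 (by simpa using l u))
      simp only [MulEquiv.coe_toMonoidHom, MulAut.conj_apply, inv_inv]
      rw [show e 4 = e 2 * e 6 from f.xor 2 6, ← _root_.conj_mul, cj_cm c, ← iv n6]
      congr 1
      rw [show y = n⁻¹ * (n * y * n⁻¹) * n by group, ← v]; group
    refine ⟨n, n2, fun y => ⟨key n n1 n2 n4 n6 y, fun u => ?_⟩⟩
    have iv : ∀ {a b : G}, n * a * n⁻¹ = b → n⁻¹ * b * n⁻¹⁻¹ = a := fun q => by rw [← q]; group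
    have := key n⁻¹ (iv n1) (iv n2) (iv n6) (iv n4) (n * (e 2 * y) * n⁻¹) (by simpa [mul_assoc] using u)
    rwa [← _root_.conj_mul, n2, f.ee] at this
  · have := fi22_simple
    have p := (qs_of_simple (G := Spor.Fi22) (by rw [fi22_card]; norm_num)).1.1
    have c : ⟨_, eK 2⟩ ∈ commutator K := by
      have := f.perf
      exact map_le_iff_le_comap.1 ((map_commutator_eq _ (inclusion ce)).trans_le (commutator_mono le_top le_top))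
        (Group.IsPerfect.mem_commutator (g := ⟨e 2, f.A_CE (f.mem 2)⟩))
    refine Group.isPerfect_def.2 (eq_top_iff.2 fun k _ => ?_)
    obtain ⟨l, u, v⟩ : (j.toMonoidHom.comp μ) k ∈ (commutator K).map (j.toMonoidHom.comp μ) := by
      rw [map_commutator_eq, MonoidHom.range_eq_top.2 sj]; exact Group.IsPerfect.mem_commutator
    refine (mul_mem_cancel_left (inv_mem u)).1 ?_
    rcases zp ((kj (l⁻¹ * k)).1 (by rw [map_mul, map_inv, v, inv_mul_cancel])) with w | w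
    · exact (show l⁻¹ * k = 1 from Subtype.ext w) ▸ one_mem _
    · exact (show l⁻¹ * k = ⟨_, eK 2⟩ from Subtype.ext w) ▸ c
end Fr
/-- the subgroup `M(23)` -/
structure L3 (z : G) (e : ℕ → G) (K Y : Subgroup G) : Prop extends L2 z e K where
  kY : K ≤ Y
  nb : Nb (Cl Y (e 2)) [e 2] = Cl K (e 4)
  m4 : e 4 ∈ Cl Y (e 2)
  iso : ∃ i : Y ≃* Spor.Fi23, ∃ τ, FIso (Cl Y (e 2)) E23 τ ∧ ∀ y : Y, τ y = i y
namespace Fr
variable {h : FT0 z R π P} {x : Cz z} {e : ℕ → G} (f : Fr h x e) {a b d y w g n : G} {K Y : Subgroup G}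
include f
theorem nbH (l : L2 z e K) : Nb (Cl K (e 4)) [e 4] = HH z e := Set.ext fun y => mem_nb1.trans ⟨fun ⟨⟨k, a, b⟩, c, d⟩ =>
  b ▸ (l.ad k a (b ▸ d)).resolve_left fun u => c (b ▸ mem_Cz'.1 u.2), fun a =>
    ⟨let ⟨_, u, v⟩ := f.H_eq.le a; v ▸ Cl.cj l.h7 (l.ce u), f.fb2.cm y a⟩⟩
theorem l3 (l : L2 z e K) : ∃ Y, L3 z e K Y := by
  have eK : ∀ j, e j ∈ K := fun j => l.ce (f.A_CE (f.mem j))
  have c : ∀ g ∈ K, cf g (e 2, Cl K (e 4)) = (e 2, Cl K (e 4)) := fun g a => cf_of (mem_Cz.1 (l.le a)) (Cl.iff a)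
  have un : ∀ g, Commute g (e 2) → ∀ y ∈ Cl K (e 4), g * y * g⁻¹ ∈ Cl K (e 4) → g ∈ K := by
    rintro g a _ ⟨k, u, rfl⟩ ⟨m, v, w⟩
    have : m⁻¹ * g * k ∈ CE e := ⟨(Cz _).mul_mem ((Cz _).mul_mem ((Cz _).inv_mem (l.le v)) (mem_Cz.2 a)) (l.le u), mem_Cz'.2 (by
      rw [show m⁻¹ * g * k * e 4 * (m⁻¹ * g * k)⁻¹ = m⁻¹ * (g * (k * e 4 * k⁻¹) * g⁻¹) * m by group, ← w]; group)⟩
    exact (mul_mem_cancel_left (inv_mem v)).1 ((mul_mem_cancel_right u).1 (l.ce this))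
  have cm : ∀ y ∈ Cl K (e 4), y ≠ e 2 ∧ Commute (e 2) y := fun y hy => ⟨by
    rintro rfl
    obtain ⟨k, u, v⟩ := hy
    exact f.ene (i := 4) (j := 2) (by decide) (by decide) (by decide) (cj_inj (v.trans (mem_Cz'.1 (l.le u)).symm)),
    (mem_Cz.1 (l.le (Cl.mem (eK 4) hy))).symm⟩
  obtain ⟨μ, s, kμ, t⟩ := l.hom
  obtain ⟨n, -, k⟩ := f.re [1, 4, 2, 24, 16, 32, 96, 128, 256, 897, 1024] (by decide +kernel)
  have n1 : n * z * n⁻¹ = z := f.e1 ▸ k 1 (by decide)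
  have n2 : n * e 2 * n⁻¹ = e 4 := k 2 (by decide)
  have n4 : n * e 4 * n⁻¹ = e 2 := k 4 (by decide)
  have n6 : n * e 6 * n⁻¹ = e 6 := k 6 (by decide)
  have fb : Fb ⊤ (e 2, Cl K (e 4)) E22 := ⟨cm, t, sw_of (mem_top n) n2 n4 (fun w hw => by
    rw [f.nbH l] at hw
    refine (f.nbH l).ge (?_ : e 6 * _ ∈ DD z e) |>.1
    rw [← n6, _root_.conj_mul]
    exact f.nrmD (List.forall_mem_cons.2 ⟨⟨4, by simp, n4⟩, List.forall_mem_singleton.2 ⟨2, by simp, n2⟩⟩) n1 hw)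
    fun y ⟨g, u, v⟩ => ⟨g, mem_top g, c g u, v⟩, fun g _ a y u v => c g (un g a y u v)⟩
  obtain ⟨Y, -, k2, k3, -⟩ := fb.main ru23
  have kY : K ≤ Y := fun g a => k2 g (mem_top g) (.inl (c g a).symm)
  have nY : n ∈ Y := k2 n (mem_top n) (.inr ⟨show n * e 2 * n⁻¹ ∈ _ from n2.symm ▸ Cl.self _ _, n4 ▸ cf_mem.2 (Cl.self _ _)⟩)
  have m4 : e 4 ∈ Cl Y (e 2) := ⟨n, nY, n2⟩
  have c1 : ∀ k : Y, Commute (⟨e 2, kY (eK 2)⟩ : Y) (MonoidHom.id Y k) ↔ k.1 ∈ K := fun k => ⟨fun u => by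
    have u : Commute k.1 (e 2) := (congrArg Subtype.val u.symm :)
    rcases k3 k k.2 (by rw [cj_cm u]) with v | v
    · refine un k u _ (Cl.self _ _) ?_
      rw [show Cl K (e 4) = _ from congrArg Prod.snd v]; exact cf_mem.2 (Cl.self _ _)
    · exact absurd (cj_cm u) (cm _ v.1).1, fun u => Subtype.ext (mem_Cz.1 (l.le u)).symm⟩
  have := fi22_simple
  have o : orderOf (⟨e 2, kY (eK 2)⟩ : Y) = 2 := (orderOf_mk _ _).trans (f.ord (by decide) (by decide))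
  obtain ⟨q, _, ⟨i⟩⟩ := tilde (MonoidHom.id Y) Function.surjective_id kY c1 μ s (fun c => (kμ c).trans
    ⟨fun ⟨n, u⟩ => ⟨n, Subtype.ext u⟩, fun ⟨n, u⟩ => ⟨n, congrArg Subtype.val u⟩⟩) l.pf fi22_center
  obtain ⟨j, hj⟩ := iso23 (m23_tilde o q i ⟨⟨n, nY⟩, mem_cent1.2 ((c1 _).2 (show n * e 2 * n⁻¹ ∈ K from n2.symm ▸ eK 4)), fun u =>
    f.ene (i := 4) (j := 2) (by decide) (by decide) (by decide) (n2.symm.trans (congrArg Subtype.val u))⟩)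
  obtain ⟨τ, t, t'⟩ := fiso_cl (MonoidHom.id Y) Function.surjective_id (d := ⟨e 2, kY (eK 2)⟩) fun _ => id
  refine ⟨Y, l, kY, Set.ext fun y => mem_nb1.trans ⟨fun ⟨⟨g, u, v⟩, a, b⟩ => ?_, fun a => ⟨?_, cm y a⟩⟩, m4, j, _,
    t.trans (hj ▸ fiso_equiv t.clo' j), fun y => congrArg j (t' y)⟩
  · exact v ▸ ((k3 g u (v ▸ b)).resolve_left fun w => a (v ▸ (congrArg Prod.fst w).symm)).1
  · obtain ⟨g, u, rfl⟩ := a
    exact Cl.cj m4 (kY u)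
end Fr
/-- the conjugates of a set -/
def cS (g : G) (S : Set G) : Set G := {y | g⁻¹ * y * g ∈ S}
theorem cS_mem {g y : G} {S : Set G} : g * y * g⁻¹ ∈ cS g S ↔ y ∈ S := by simp [cS, mul_assoc]
theorem cS_mul (g k : G) (S : Set G) : cS (g * k) S = cS g (cS k S) := by simp [cS, mul_assoc]
theorem cS_cl {Y : Subgroup G} {g d : G} (h : g ∈ Y) : cS g (Cl Y d) = Cl Y d := Set.ext fun y => by
  simpa [cS] using Cl.iff (inv_mem h) y
theorem cS_nb {g t y : G} {S : Set G} : g * y * g⁻¹ ∈ Nb (cS g S) [g * t * g⁻¹] ↔ y ∈ Nb S [t] := by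
  simp only [mem_nb1, cS_mem, cm_iff, ne_eq, mul_left_inj, mul_right_inj]
theorem cS_fi (g : G) {S : Set G} (c : Clo S) : FIso S (cS g S) fun y => g * y * g⁻¹ := .of_conj c g fun _ => cS_mem
theorem exc (g y : G) : ∃ v, y = g * v * g⁻¹ := ⟨g⁻¹ * y * g, by group⟩
namespace Fr
variable {h : FT0 z R π P} {x : Cz z} {e : ℕ → G} (f : Fr h x e) {a b d y w g n : G} {K Y : Subgroup G} (l : L3 z e K Y)
include f l
theorem eY (j : ℕ) : e j ∈ Y := l.kY (l.ce (f.A_CE (f.mem j)))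
theorem nb3 : Nb (Cl Y (e 2)) [e 2, e 4] = HH z e := by rw [← f.nbH l.toL2, ← l.nb, nb_nb]; rfl
theorem q3 : Clq (Cl Y (e 2)) [e 2, e 4, e 7] :=
  (clq_append (l := [e 2, e 4]) (l' := [e 7])).2 ⟨clq_cons.2 ⟨Cl.self _ _, by simpa using l.nb.ge (Cl.self _ _), by simp⟩,
    by simpa using (f.nb3 l).ge f.H7, by simp⟩
theorem gt3 {s t : List G} (a : Clq (Cl Y (e 2)) s) (b : Clq (Cl Y (e 2)) t) (c : s.length = t.length) (d : s.length ≤ 4) :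
    ∃ g ∈ Y, s.map (fun y => g * y * g⁻¹) = t := by
  obtain ⟨i, τ, k, k'⟩ := l.iso
  obtain ⟨g, hg⟩ := m23.gts _ d _ _ (k.clq a) (k.clq b) (by simp) (by simp [c])
  obtain ⟨g, rfl⟩ := i.surjective g
  refine ⟨g, g.2, List.ext_getElem (by simpa using c) fun j u v => ?_⟩
  have m := a.1 _ (List.getElem_mem (show j < s.length by simpa using u))
  have := List.getElem_of_eq hg (i := j) (by simpa using u)
  simp only [List.getElem_map] at this ⊢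
  refine k.inj (Cl.cj m g.2) (b.1 _ (List.getElem_mem v)) (Eq.trans ?_ this)
  exact (k' (g * ⟨_, Cl.mem (f.eY l 2) m⟩ * g⁻¹)).trans (by rw [map_mul, map_mul, map_inv, ← k' ⟨_, Cl.mem (f.eY l 2) m⟩])
theorem clo3 : Clo (Cl Y (e 2)) := fun _ a _ b => Cl.cj b (Cl.mem (f.eY l 2) a)
theorem fix3 {s t : List G} (a : Clq (cS g (Cl Y (e 2))) s) (b : Clq (Cl Y (e 2)) t) (c : s.length = t.length) (d : s.length ≤ 4) :
    ∃ k, cS k (Cl Y (e 2)) = cS g (Cl Y (e 2)) ∧ t.map (fun y => k * y * k⁻¹) = s := by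
  have := (cS_fi g⁻¹ (cS_fi g (f.clo3 l)).clo').clq a
  rw [← cS_mul, inv_mul_cancel, cS_cl (one_mem _)] at this
  obtain ⟨k, u, v⟩ := f.gt3 l b this (by simp [c]) (c ▸ d)
  refine ⟨g * k, by rw [cS_mul, cS_cl u], ?_⟩
  have := congrArg (List.map fun y => g * y * g⁻¹) v
  simpa [List.map_map, Function.comp_def, mul_assoc] using this
theorem fam : Fam (Set.range fun g => cS g (Cl Y (e 2))) := by
  refine ⟨?_, ?_, ?_⟩
  · rintro _ ⟨g, rfl⟩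
    obtain ⟨i, τ, k, k'⟩ := l.iso
    refine ⟨(MulAut.conj g).toMonoidHom.comp (Y.subtype.comp i.symm.toMonoidHom),
      (MulAut.conj g).injective.comp (Subtype.val_injective.comp i.symm.injective), Set.ext fun y => ⟨?_, fun u => ?_⟩⟩
    · rintro ⟨y, u, rfl⟩
      obtain ⟨y, v, rfl⟩ := k.surj u
      rw [k' ⟨y, Cl.mem (f.eY l 2) v⟩]
      simpa using cS_mem.2 v
    · obtain ⟨y, rfl⟩ := exc g y
      have v := cS_mem.1 u
      exact ⟨_, k.mem v, by rw [k' ⟨y, Cl.mem (f.eY l 2) v⟩]; simp⟩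
  · rintro _ ⟨g, rfl⟩ t ht
    obtain ⟨k, u, v⟩ := f.fix3 l (s := [t]) (t := [e 2]) ⟨by simpa using ht, by simp⟩ ((f.q3 l).sub (by simp)) rfl (by simp)
    obtain rfl : k * e 2 * k⁻¹ = t := by simpa using v
    obtain ⟨n, n2, n3⟩ := l.nm
    refine ⟨_, ⟨k * n⁻¹, rfl⟩, ?_, fun y => ?_⟩
    · simp only [cS_mul, cS_mem]
      change _ ∈ Cl _ _
      rw [inv_inv, n2]; exact Cl.self _ _
    · obtain ⟨y, rfl⟩ := exc k y
      simp only [← u, cS_mul, _root_.conj_mul, cS_nb, l.nb]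
      have : n⁻¹ * e 2 * n⁻¹⁻¹ = e 2 := by nth_rw 1 [← n2]; group
      have q := cS_nb (g := n⁻¹) (t := e 2) (y := n * (e 2 * y) * n⁻¹) (S := Cl Y (e 2))
      rw [this, l.nb, n3, f.ee] at q
      simpa [mul_assoc] using q
  · rintro _ ⟨g, rfl⟩ _ ⟨g', rfl⟩ a b c u v
    have q : Clq (Cl Y (e 2)) [e 2, e 4] := (f.q3 l).sub (by simp)
    obtain ⟨k, u1, v1⟩ := f.fix3 l c q rfl (by simp)
    obtain ⟨k', u2, v2⟩ := f.fix3 l (g := g') (s := [a, b]) ⟨by simpa using ⟨u, v⟩, c.2⟩ q rfl (by simp)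
    simp only [List.map_cons, List.map_nil, List.cons.injEq, and_true] at v1 v2
    have : k'⁻¹ * k ∈ CE e := ⟨mem_Cz'.2 (by rw [mul_inv_rev, ← mul_assoc, mul_assoc _ k, mul_assoc _ (k * _), v1.1, ← v2.1]; group),
      mem_Cz'.2 (by rw [mul_inv_rev, ← mul_assoc, mul_assoc _ k, mul_assoc _ (k * _), v1.2, ← v2.2]; group)⟩
    simp only
    rw [← u1, ← u2, ← mul_inv_cancel_left k' k, cS_mul, cS_cl (l.kY (l.ce this))]
end Fr
end
end H1.Lf
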