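import Cfsg.Agent.H1.I3

/-! Groups of large Fischer type: the last relator of `M(24)`. -/

set_option autoImplicit false
set_option linter.unusedSectionVars false
set_option maxRecDepth 100000

namespace H1.Lf
noncomputable section
open H13 MulAction Cfsg H27 Subgroup H18 H28
universe u
variable {G : Type u} [Group G] [Finite G] {z : G} {R : Subgroup G} {π : Cz z →* AL V6} {P : V6 → G → Prop}

/-- perpendicular for the hermitian form -/
def Hp (u w : V6) : Prop := pol q6 u w = 0 ∧ pol q6 u (thL w) = 0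
def hpN (a b : Nat) : Bool := !polN a b && !polN a (thN b)
theorem hp_v6 {a b : Nat} (hb : b < 4096) : Hp (v6 a) (v6 b) ↔ hpN a b = true := by simp [Hp, hpN, th_v6 hb, pol0]
theorem Hp.th2 {u w : V6} (h : Hp u w) : pol q6 u (thL (thL w)) = 0 := by rw [th_th, qf6.add', h.1, h.2, add_zero]
theorem Hp.thr {u w : V6} (h : Hp u w) : Hp u (thL w) := ⟨h.2, h.th2⟩
theorem Hp.symm {u w : V6} (h : Hp u w) : Hp w u :=
  ⟨(pol_comm ..).trans h.1, by rw [pol_comm, ← pol_th, ← pol_th, th_cube, h.th2]⟩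
theorem Hp.thl {u w : V6} (h : Hp u w) : Hp (thL u) w := h.symm.thr.symm
theorem vp_hp {w : V6} : Vp w ↔ Hp w (v6 5) := by rw [Hp, th5]; rfl
theorem L0_O6 : L0 ≤ O6 := L0_LS.trans LS_O6
theorem Hp.img {g : AL V6} (h : g ∈ L0) {u w : V6} (a : Hp u w) : Hp (g u) (g w) := by
  refine ⟨(opol (L0_O6 h) u w).trans a.1, ?_⟩
  by_cases n : g ∈ M0
  · rw [← M0_th n, opol (L0_O6 h), a.2]
  · rw [← th_cube (thL (g w)), ← L0_semi h n, ← L0_semi h n, opol (L0_O6 h), a.th2]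
theorem hp_img {g : AL V6} (h : g ∈ L0) {u w : V6} : Hp (g u) (g w) ↔ Hp u w :=
  ⟨fun a => by simpa using a.img (inv_mem h), Hp.img h⟩
theorem hp_self {u : V6} (h : q6 u = 0) : Hp u u :=
  ⟨qf6.self u, by rw [pol, ← th_th, M0_O6 thL_M0, M0_O6 thL_M0, h]; rfl⟩
theorem tvc {u w : V6} (a : pol q6 u w = 0) : Commute (tv u) (tv w) := tv_cm a
theorem Hp.tv {u w : V6} (a : Hp u w) : Commute (tv u) (rf w) := ((tvc a.1).mul_right (tvc a.2)).mul_right (tvc a.th2)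
theorem Hp.cm {u w : V6} (a : Hp u w) : Commute (rf u) (rf w) := (a.tv.mul_left a.thl.tv).mul_left a.thl.thl.tv
theorem tv_sq (u : V6) : tv u * tv u = 1 := LinearEquiv.ext (tv u).left_inv
theorem rf_sq {u : V6} (h : q6 u = 0) : rf u * rf u = 1 := by
  have a := hp_self h
  have c1 := tvc a.2
  have c2 := (tvc a.th2).mul_left (tvc a.thl.th2)
  rw [rf, c2.symm.mul_mul_mul_comm, c1.symm.mul_mul_mul_comm, tv_sq, tv_sq, tv_sq]; rfl
theorem rf_conj0 {g : AL V6} (h : g ∈ L0) {u : V6} (q : q6 u = 0) : g * rf u * g⁻¹ = rf (g u) := by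
  have o := L0_O6 h
  have e : g * rf u * g⁻¹ = tv (g u) * tv (g (thL u)) * tv (g (thL (thL u))) := by
    rw [rf, ← tv_conj o, ← tv_conj o, ← tv_conj o]; group
  by_cases n : g ∈ M0
  · rw [e, M0_th n, M0_th n, M0_th n, rf]
  · rw [e, L0_semi h n, L0_semi h n, L0_semi h n, th_cube, rf, mul_assoc, mul_assoc,
      tv_cm (hp_self ((o u).trans q)).thl.th2]
theorem q5 : q6 (v6 5) = 0 := by decide +kernel
theorem tt_tt {u w : V6} (a : Vp u) : tt u * tt w = rf u * rf w := by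
  rw [tt, tt, ← (vp_hp.1 a).cm.eq, mul_assoc, ← mul_assoc (rf (v6 5)), rf_sq q5, one_mul]
theorem Hp.tcm {u w : V6} (a : Hp u w) (b : Vp u) (c : Vp w) : Commute (tt u) (tt w) := by
  rw [Commute, SemiconjBy, tt_tt b, tt_tt c, a.cm.eq]
theorem geo {a b c : V6} (ha : a ∈ SP) (hb : b ∈ SP) (hc : c ∈ S61) (h1 : Hp c a) (h2 : ¬ Hp c (v6 5)) (h3 : ¬ Hp b a)
    (h4 : ¬ Hp c b) : ∃ u ∈ SP, Hp u a ∧ Hp u b ∧ Hp u c := by
  obtain ⟨g, hg, rfl⟩ := sp_S ha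
  have l := M0_L0 hg.1
  obtain ⟨b, rfl⟩ := g.surjective b
  obtain ⟨c, rfl⟩ := g.surjective c
  rw [← s5 hg] at h2
  rw [hp_img l] at h1 h2 h3 h4
  suffices ∃ u ∈ SP, Hp u (v6 80) ∧ Hp u b ∧ Hp u c by
    obtain ⟨u, a1, a2, a3, a4⟩ := this
    exact ⟨_, sp_img hg a1, a2.img l, a3.img l, a4.img l⟩
  replace hb : b ∈ SP := by simpa using sp_img (inv_mem hg) hb
  replace hc : c ∈ S61 := by simpa using inv61 (inv_mem (L0_LS l)) hc
  revert c
  refine sp_lst (P := fun b => ¬ Hp b (v6 80) → ∀ c, ¬ Hp c (v6 5) → Hp c (v6 80) → ¬ Hp c b → c ∈ S61 →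
    ∃ u ∈ SP, Hp u (v6 80) ∧ Hp u b ∧ Hp u c) (fun b m hb h3 => all6 fun c hc h2 h1 h4 h5 => ?_) b hb h3
  rw [mem_mset inj6 hc, ← tb_eq] at h5
  rw [hp_v6 (by norm_num)] at h1 h2 h3
  rw [hp_v6 hb] at h4
  have := (allN_iff _ _).1 (by decide +kernel : (allN 4096 fun c => !(tb X61 c && hpN c 80 && !hpN c 5) || forceL L135 fun L =>
    L.all fun b => hpN b 80 || hpN c b || [1280, 1365, 1455, 1530, 1536, 1626, 1701, 1791, 1792, 1887, 1962, 2037].any fun u =>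
      hpN u b && hpN u c) = true) c hc
  simp only [h5, h1, h2, forceL_eq, Bool.and_self, Bool.not_false, Bool.not_true, Bool.false_or, List.all_eq_true] at this
  have := this b m
  simp only [h3, h4, Bool.false_or, List.any_eq_true, Bool.and_eq_true] at this
  obtain ⟨u, u1, u2, u3⟩ := this
  obtain ⟨v1, v2, v3⟩ := (by decide +kernel : ∀ u ∈ [1280, 1365, 1455, 1530, 1536, 1626, 1701, 1791, 1792, 1887, 1962, 2037],
    u < 4096 ∧ spN u = true ∧ hpN u 80 = true) u u1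
  exact ⟨_, (sp_v6 v1).2 v2, (hp_v6 (by norm_num)).2 v3, (hp_v6 hb).2 u2, (hp_v6 hc).2 u3⟩
/-- `b` fixes the commutator space of `g` -/
def Tk (b g : AL V6) : Prop := ∀ w, b (g w + w) = g w + w
theorem Tk.mul {b g k : AL V6} (h : Tk b g) (h' : Tk b k) : Tk b (g * k) := fun w => by
  have e : g (k w) + w = g (k w) + k w + (k w + w) := by rw [add_assoc, ← add_assoc (k w), two6, zero_add]
  rw [LinearEquiv.mul_apply, e, map_add, h, h']
theorem tk_tv {b : AL V6} {u : V6} (h : b u = u) : Tk b (tv u) := fun w => by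
  rw [tv_apply, add_right_comm, two6, zero_add, map_z2, h]
theorem tk_rf {a b c : V6} (h : Hp c a) (k : Hp c b) : Tk (rf a * rf b) (rf c) := by
  have e : ∀ {c}, Hp c a → Hp c b → Tk (rf a * rf b) (tv c) := fun h k => tk_tv (by
    rw [LinearEquiv.mul_apply, rf_fix k.1 k.2, rf_fix h.1 h.2])
  exact ((e h k).mul (e h.thl k.thl)).mul (e h.thl.thl k.thl.thl)
section
variable (h : FT0 z R π P)
include h
theorem fx3 {x : Cz z} (x3 : x ^ 3 = 1) {v : V6} {r : G} (a : P v r) (b : π x v = v) : Commute x.1 r := by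
  have := h.act x a
  rw [b] at this
  refine cm_cj (((h.uniq a this).2 rfl).resolve_right fun d => h.z_ne ?_)
  replace d : x * r * x.1⁻¹ = r * z := d
  have e : x * (r * z) * x.1⁻¹ = r := by rw [← _root_.conj_mul, d, mem_Cz'.1 x.2, mul_assoc, h.zz, mul_one]
  have c : x.1 * x * x = 1 := by simpa [pow_succ] using congrArg Subtype.val x3
  refine mul_left_cancel (a := r) ?_
  rw [← d, mul_one]
  nth_rw 1 [← e, ← d]
  rw [show x * (x * (x * r * x.1⁻¹) * x.1⁻¹) * x.1⁻¹ = x.1 * x * x * r * (x.1 * x * x)⁻¹ by group, c]; group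
theorem tr3 {x y : Cz z} (x3 : x ^ 3 = 1) (y3 : y ^ 3 = 1) (e : π y = π x) {m : V6} (a : P m (y * x.1⁻¹)) :
    m + π x m + π x (π x m) = 0 := qf6.nd _ fun v => by
  have o := L0_O6 (h.mem_L0 x)
  have c : ∀ v, π x (π x (π x v)) = v := fun v => by
    have := congrArg π x3
    rw [map_pow, map_one] at this
    simpa [pow_succ] using LinearEquiv.congr_fun this v
  obtain ⟨r, b⟩ := h.ex (v + π x (π x v) + π x v)
  have f : π x (v + π x (π x v) + π x v) = v + π x (π x v) + π x v := by rw [map_add, map_add, c]; abel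
  have := (h.comm_iff a b).1 ((fx3 h y3 b (e ▸ f)).mul_left (fx3 h x3 b f).inv_left)
  rw [qf6.add', qf6.add', ← opol o m (π x (π x v)), c, ← opol o m (π x v), ← opol o (π x m) (π x (π x v)), c] at this
  rw [qf6.add, qf6.add, this]
theorem c33 {k g : Cz z} (k3 : k ^ 3 = 1) (g3 : g ^ 3 = 1) {a b c d : V6} (ek : π k = rf a * rf b) (eg : π g = rf c * rf d)
    (h1 : Hp c a) (h2 : Hp c b) (h3 : Hp d a) (h4 : Hp d b) : Commute k.1 g.1 := by
  have cm : Commute (π g) (π k) := by rw [ek, eg]; exact (h1.cm.mul_right h2.cm).mul_left (h3.cm.mul_right h4.cm)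
  obtain ⟨m, p⟩ := h.ex' _ ((h.ker (k * g * k⁻¹ * g⁻¹)).1 (by
    rw [map_mul, map_mul, map_mul, map_inv, map_inv, cj_cm cm.symm, mul_inv_cancel]))
  have e1 := tr3 h (y := k * g * k⁻¹) g3 (by rw [conj_pow, g3]; simp) (by rw [map_mul, map_mul, map_inv, cj_cm cm.symm]) p
  have q : π (g * k * g⁻¹) = π k := by rw [map_mul, map_mul, map_inv, cj_cm cm]
  have e2 := tr3 h (x := g * k * g⁻¹) (m := m) (by rw [conj_pow, k3]; simp) k3 q.symm (by simpa [mul_assoc] using p)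
  have t : Tk (π k) (π g) := by rw [ek, eg]; exact (tk_rf h1 h2).mul (tk_rf h3 h4)
  have := t (π g m)
  rw [add_comm, ← qf6.eq_of ((add_assoc ..).symm.trans e1)] at this
  rw [q, this, this, two6, zero_add] at e2
  rcases (h.iff p).2 e2 with u | u
  · exact cm_cj (mul_inv_eq_one.1 u)
  · have u : k * g * k.1⁻¹ = z * g := mul_inv_eq_iff_eq_mul.1 u
    have c : g.1 ^ 3 = 1 := congrArg Subtype.val g3
    have := congrArg (· ^ 3) u
    simp only [conj_pow, c, (show Commute z g.1 from (mem_Cz.1 g.2).symm).mul_pow, pow_succ z] at this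
    exact absurd (by simpa [h.zz] using this.symm) h.z_ne
end

namespace Fr
variable {h : FT0 z R π P} {x : Cz z} {e : ℕ → G} (f : Fr h x e) {K Y : Subgroup G} (l : L3 z e K Y)
include f
/-- the third involution of the four-group -/
def s6 : Cz z := ⟨e 6, h.A_le (f.mem 6)⟩
theorem pi6 (y : Cz z) : π (f.s6 * y) = π y := by
  rw [map_mul, (h.ker _).2 (f.eR (by decide)), one_mul]
theorem ov3 {y : Cz z} (hy : y.1 ∈ HH z e) (n : y.1 ≠ e 7) : ∃ u ∈ SP, π y = tt u :=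
  f.pi6 y ▸ (f.ov (d := f.s6 * y) hy fun q => n ((f.ee 6 y).symm.trans ((congrArg _ q).trans f.e7.symm))).2
theorem ex3 {u : V6} (hu : u ∈ SP) : ∃ y : Cz z, y.1 ∈ HH z e ∧ π y = tt u :=
  let ⟨d, a, _, c⟩ := f.exo hu
  ⟨f.s6 * d, show e 6 * (e 6 * d) ∈ DD z e by rwa [f.ee], (f.pi6 d).trans c⟩
theorem pt3 {y w : Cz z} (hy : y.1 ∈ HH z e) (hw : w.1 ∈ HH z e) (c : Commute y.1 w.1) (n : y.1 ≠ w.1) (n1 : y.1 ≠ e 7)
    (n2 : w.1 ≠ e 7) {v : V6} (p : P v (y * w)) : v ∈ SP ∧ π y = tt v := by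
  have c6 : ∀ {y}, y ∈ HH z e → Commute y (e 6) := fun a => f.CE_cm (f.HC a) (by simp)
  have cz : ∀ y : Cz z, Commute z (e 6 * y) := fun y => (mem_Cz.1 (mul_mem (h.A_le (f.mem 6)) y.2)).symm
  obtain ⟨k, k1, i, i1, a, a1, b, b1, i2, a2, b2⟩ := f.cl3 zD hy hw (cz y) (cz w)
    (((f.cm 6 6).mul_right (c6 hw).symm).mul_left ((c6 hy).mul_right c))
  obtain ⟨m, m1, m2⟩ := f.tr21 i1
  have kz : m⁻¹ * k ∈ Cz z := mem_Cz'.2 (by rw [mul_inv_rev, ← mul_assoc, mul_assoc _ k, mul_assoc _ (k * _), ← i2, ← m2]; group)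
  have kc : m⁻¹ * k ∈ CE e := mul_mem (inv_mem m1.1) k1
  have t : ∀ {y a}, y ∈ HH z e → e a = k * (e 6 * y) * k⁻¹ → y ≠ e 7 → ∃ a ∈ DA, a ≠ 1 ∧ e a = m⁻¹ * k * (e 6 * y) * (m⁻¹ * k)⁻¹ :=
    fun {y a} hy q n => by
      obtain ⟨b, u, v⟩ := f.inA (Dcj hy kc) (by
        have := nA h (inv_mem m1.2) (f.mem a)
        rwa [q, show m⁻¹ * (k * (e 6 * y) * k⁻¹) * m⁻¹⁻¹ = m⁻¹ * k * (e 6 * y) * (m⁻¹ * k)⁻¹ by group] at this)
      refine ⟨b, u, fun s => n ?_, v⟩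
      rw [s, f.e1] at v
      rw [f.e7, cj_inj ((mem_Cz'.1 kz).trans v), f.ee]
  obtain ⟨a, a1, a3, a2⟩ := t hy a2 n1
  obtain ⟨b, b1, b3, b2⟩ := t hw b2 n2
  generalize m⁻¹ * k = k at *
  have ab : a ≠ b := fun q => n (mul_left_cancel (cj_inj (a2.symm.trans (q ▸ b2))))
  have p' := h.act' kz p
  rw [show k * (y * w) * k⁻¹ = e (a ^^^ b) by
    rw [f.xor, a2, b2, _root_.conj_mul, ← (c6 hy).eq, mul_assoc y.1, f.ee]] at p'
  have l1 := x11 (DA_lt a a1) (DA_lt b b1)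
  have l2 : a ^^^ b < 128 := by
    have q := f.pi (a ^^^ b)
    rw [(h.ker _).2 (h.mem p')] at q
    by_contra s
    obtain ⟨i, u, v⟩ := (by decide +kernel : ∀ j < 16, j ≠ 0 → ∃ i < 4096, apB j i ≠ i) ((a ^^^ b) >>> 7)
      (by rw [Nat.shiftRight_eq_div_pow]; omega) (by rw [Nat.shiftRight_eq_div_pow]; omega)
    obtain ⟨r, t⟩ := bN_v6 ((a ^^^ b) >>> 7) u
    rw [← q] at r
    exact v ((v6_eq u t).1 r).symm
  obtain ⟨s1, s2, s3⟩ := (by decide +kernel : ∀ a ∈ DA, ∀ b ∈ DA, a ≠ 1 → b ≠ 1 → a ≠ b → a ^^^ b < 128 →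
    xsum uB ((a ^^^ b) >>> 1) < 4096 ∧ spN (xsum uB ((a ^^^ b) >>> 1)) = true ∧
      ∀ i : Fin 12, ttN (xsum uB ((a ^^^ b) >>> 1)) (2 ^ i.1) = apB (a >>> 7) (2 ^ i.1)) a a1 b b1 a3 b3 ab l2
  have q := h.mu_P f.hx (v6 (xsum uB ((a ^^^ b) >>> 1)))
  have e1 : π ⟨k, kz⟩ v = v6 (xsum uB ((a ^^^ b) >>> 1)) := ((h.uniq q p').1 (by
    rw [f.mu _ l2]
    rcases Nat.mod_two_eq_zero_or_one (a ^^^ b) with s | s <;> rw [s]
    · exact .inl (by simp)
    · exact .inr (by rw [pow_one, h.comm (h.mem q)]))).symm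
  have s := f.piS (k := ⟨k, kz⟩) kc
  refine ⟨by simpa [← e1] using sp_img (inv_mem s) ((sp_v6 s1).2 s2), cj_inj (g := π ⟨k, kz⟩) ?_⟩
  rw [tt_conj s, e1, ← f.pi6 y, ← map_inv, ← map_mul, ← map_mul, show (⟨k, kz⟩ * _ * _ : Cz z) = ⟨e a, h.A_le (f.mem a)⟩ from
    Subtype.ext a2.symm, f.pi]
  exact ext6 fun i => by
    rw [tt_v6 s1, s3, (bN_v6 _ (Nat.pow_lt_pow_right (n := 12) one_lt_two i.2)).1]
include l
theorem tt3 : IsThreeTranspositionSet (Cl Y (e 2)) := by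
  obtain ⟨-, τ, t, -⟩ := l.iso
  refine t.tt m23.tt ?_
  rintro _ ⟨k, -, rfl⟩
  exact (MulAut.conj k).orderOf_eq _ |>.trans (f.ord (by decide) (by decide))
theorem zq : [e 2, e 4, e 7].prod = z := by simp only [List.prod_cons, List.prod_nil, mul_one, ← f.xor]; exact f.e1
theorem cm3 {y : Cz z} (hy : y.1 ∈ Cl Y (e 2)) : ∀ a ∈ [e 2, e 4, e 7], Commute y.1 a :=
  (f.q3 l).of_comm_prod (f.tt3 l) le_rfl hy (by rw [f.zq l]; exact mem_Cz.1 y.2)
theorem z3 {y w : Cz z} (hy : y.1 ∈ Cl Y (e 2)) (hw : w.1 ∈ Cl Y (e 2)) (n : ¬ Commute y.1 w.1) : y.1 ∈ HH z e ∧ y.1 ≠ e 7 := by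
  have k : ∀ a ∈ [e 2, e 4, e 7], y.1 ≠ a := fun a m q => n (q ▸ (f.cm3 l hw a m).symm)
  exact ⟨(f.nb3 l).le ⟨hy, fun m => k _ (List.mem_append_left [e 7] m) rfl, fun a m =>
    (f.cm3 l hy a (List.mem_append_left [e 7] m)).symm⟩, k _ (by simp)⟩
theorem pc3 {y w : Cz z} (hy : y.1 ∈ Cl Y (e 2)) (hw : w.1 ∈ Cl Y (e 2)) (c : Commute (π y) (π w)) : Commute y.1 w.1 := by
  by_contra n
  have a := (f.z3 l hy hw n).1
  have b := (f.z3 l hw hy fun q => n q.symm).1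
  have := f.pcm (a := f.s6 * y) (b := f.s6 * w) a b (by rwa [f.pi6, f.pi6])
  have c1 := (f.CE_cm (f.DC a) (j := 6) (by simp)).mul_right this
  have c2 := (f.CE_cm (f.HC b) (j := 6) (by simp)).symm.mul_left (show Commute (e 6 * y) w.1 from f.ee 6 w ▸ c1)
  exact n (f.ee 6 y ▸ c2)
theorem pc9 {γ y w : Cz z} (hy : y.1 ∈ cS γ.1 (Cl Y (e 2))) (hw : w.1 ∈ cS γ.1 (Cl Y (e 2))) (c : Commute (π y) (π w)) :
    Commute y.1 w.1 := by
  have := f.pc3 l (y := γ⁻¹ * y * γ) (w := γ⁻¹ * w * γ) hy hw (by simpa using c.conj (π γ)⁻¹)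
  simpa [mul_assoc] using this.conj γ.1
end Fr
/-- the three further factors of the central involution -/
def qb : Pt := (4, [5, 6, 2, 3, 4, 5, 10, 11, 8, 7, 6, 5, 10, 9, 8, 7, 6, 5])
def qc : Pt := (2, [5, 6, 2, 3, 4, 5, 10, 11, 8, 7, 6, 3, 4, 5, 10, 9, 8, 7, 6, 5, 4, 3])
def qd : Pt := (0, [5, 6, 2, 3, 4, 5, 10, 11, 8, 7, 6, 1, 2, 3, 4, 5, 10, 9, 8, 7, 6, 5, 4, 3, 2, 1])
abbrev xb : F24 := H28.pv x24 qb
abbrev xc : F24 := H28.pv x24 qc
abbrev xd : F24 := H28.pv x24 qd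
/-- the central involution -/
abbrev zs : F24 := [xx 0, xb, xc, xd].prod
theorem oct : Clq E24 [xx 0, xb, xc, xd, xx 9, xx 3, xx 6, xx 11] :=
  fm24.clq' (l := [(0, []), qb, qc, qd, (9, []), (3, []), (6, []), (11, [])]) (by decide +kernel)
theorem oct1 : zs = [xx 9, xx 3, xx 6, xx 11].prod :=
  Clq.prod_eq m24.tt oct (by
    have := fm24.eq_one fm24.top fm24.cen ([0] ++ (ptW qb ++ (ptW qc ++ (ptW qd ++ ([9] ++ ([3] ++ ([6] ++ [11]))))))) (by decide +kernel)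
    simp only [ev_append] at this
    simp only [List.cons_append, List.nil_append, List.prod_cons, List.prod_nil, mul_one]
    exact this)
theorem wz : Commute zs ww := by
  have := (fm24.fn_eq ([9] ++ ([3] ++ ([6] ++ [11]))) (fm24.pi_lt (p := (2, f24v)) (by decide))).1 (by decide +kernel)
  rw [fm24.pi_eq (by decide)] at this
  simp only [ev_append] at this
  rw [oct1]
  simp only [List.prod_cons, List.prod_nil, mul_one]
  exact this
theorem nb0 {y : F24} : y ∉ Nb E24 [xx 0, xx 1, xx 9, ww] := fun hy => by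
  have r := fm24.rep_nb (l := [(0, []), (1, []), (9, []), (2, f24v)]) (by decide) fm24.rep
  obtain ⟨j, a, rfl⟩ := r.1 y hy
  have := (r.2 j).2 ⟨a, hy⟩
  rw [show t24.nb _ _ = 0 by decide +kernel, Nat.zero_testBit] at this
  exact absurd this (by decide)
theorem q4 : Clq E24 [xx 0, xb, xc, xd] := oct.sub (by simp)
theorem q4' : Clq E24 [xx 9, xx 3, xx 6, xx 11] := oct.sub (List.sublist_append_right [_, _, _, _] _)
theorem Ch.p4 {D : Set F24} {p a b c : F24} {S : Set G} {φ : F24 → G} (k : Ch D p S φ) (q : Clq D [p, a, b, c]) :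
    φ [p, a, b, c].prod = [φ a, φ b, φ c].prod := by
  have c := fun y hy => q.comm p (by simp) y hy
  simp only [List.forall_mem_cons] at c
  simp only [List.prod_cons, List.prod_nil, mul_one]
  rw [k.mul _ _ c.1 (c.2.1.mul_right (c.2.2.1.mul_right c.2.2.2.1)), k.mul _ _ c.2.1 (c.2.2.1.mul_right c.2.2.2.1),
    k.mul _ _ c.2.2.1 c.2.2.2.1, k.self, one_mul]
theorem zs_ev : sgn24 zs = 1 := by
  have := q4.1
  simp only [List.forall_mem_cons] at this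
  simp [sgn24_eq _ this.1, sgn24_eq _ this.2.1, sgn24_eq _ this.2.2.1, sgn24_eq _ this.2.2.2.1]
namespace Fr
variable {h : FT0 z R π P} {x : Cz z} {e : ℕ → G} (f : Fr h x e) {K Y : Subgroup G} (l : L3 z e K Y)
include f l
theorem rel {φ ψ : F24 → G} (k : Ch E24 (xx 0) (Cl Y (e 2)) φ) (m : [xb, xc, xd].map φ = [e 2, e 4, e 7]) {g : G}
    (k' : Ch E24 (xx 9) (cS g (Cl Y (e 2))) ψ) (a : Ag sgn24 (xx 0) (xx 9) φ ψ) :
    φ ww * ψ (xx 0 * xx 1) * (φ ww * ψ (xx 0 * xx 1)) = 1 := by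
  have T := m24.tt
  have o := oct.comm
  have o0 : ∀ y ∈ [xx 0, xb, xc, xd, xx 9, xx 3, xx 6, xx 11], Commute (xx 0) y := o _ (by simp)
  have o9 : ∀ y ∈ [xx 0, xb, xc, xd, xx 9, xx 3, xx 6, xx 11], Commute (xx 9) y := o _ (by simp)
  have oz : ∀ y ∈ [xx 0, xb, xc, xd, xx 9, xx 3, xx 6, xx 11], Commute zs y := fun y hy =>
    Commute.list_prod_left _ _ fun p hp => o p (List.mem_append_left [xx 9, xx 3, xx 6, xx 11] hp) y hy
  have c09 := o0 (xx 9) (by simp)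
  have z0 := (oz (xx 0) (by simp)).symm
  have z9 := (oz (xx 9) (by simp)).symm
  have ez : φ zs = z := by rw [k.p4 q4, ← f.zq l, ← m]; rfl
  have ez' : ψ zs = z := (a.ev z0 z9 zs_ev).trans ez
  have cz : ∀ {y}, Commute (xx 0) y → Commute zs y → φ y ∈ Cz z := fun a b => mem_Cz.2 (ez ▸ k.cm a z0 b.symm)
  have cz' : ∀ {y}, Commute (xx 9) y → Commute zs y → ψ y ∈ Cz z := fun a b => mem_Cz.2 (ez' ▸ k'.cm a z9 b.symm)
  have F := k.fi m24
  have F' := k'.fi m24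
  have n0 := (clq_cons.1 oct).2
  have m9 := n0.1 (xx 9) (by simp)
  have m3 := n0.1 (xx 3) (by simp)
  have mw := (clq_cons.1 (fm24.clq' (l := [(0, []), (2, f24v)]) (by decide +kernel))).2.1 ww (by simp)
  have q1 := fm24.clq' (l := [(1, []), (9, []), (3, []), (6, []), (11, [])]) (by decide +kernel)
  have m1 : xx 1 ∈ Nb E24 [xx 9] := (clq_cons'.1 (q1.sub (l' := [xx 1, xx 9]) (by simp))).1
  have m0 : xx 0 ∈ Nb E24 [xx 9] := (clq_cons'.1 (oct.sub (l' := [xx 0, xx 9]) (by simp))).1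
  have z1 : Commute zs (xx 1) := oct1 ▸ Commute.list_prod_left _ _ (clq_cons'.1 q1).1.2.2
  have n9 : ¬ Commute (xx 9) ww := mt (fm24.comm_iff (by decide) (by decide)).2 (by decide +kernel)
  have n1 : ¬ Commute (xx 0) (xx 1) := mt (fm24.comm_iff (by decide) (by decide)).2 (by decide +kernel)
  obtain ⟨γ, g1, g2⟩ := f.fix3 l (F'.clq (clq_cons.1 q4').2) (f.q3 l) rfl (by simp)
  have gz : γ ∈ Cz z := mem_Cz'.2 (by rw [← f.zq l, ← map_conj_prod, g2, f.zq l, ← ez', oct1, k'.p4 q4']; rfl)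
  rw [← g1] at k' F'
  clear g1
  obtain ⟨γ, rfl⟩ : ∃ δ : Cz z, δ.1 = γ := ⟨⟨γ, gz⟩, rfl⟩
  obtain ⟨t, et⟩ : ∃ t : Cz z, t.1 = φ (xx 9) := ⟨⟨_, cz c09 z9.symm⟩, rfl⟩
  obtain ⟨w, ew⟩ : ∃ t : Cz z, t.1 = φ ww := ⟨⟨_, cz (mem_nb1.1 mw).2.2 wz⟩, rfl⟩
  obtain ⟨s, es⟩ : ∃ t : Cz z, t.1 = φ (xx 3) := ⟨⟨_, cz (mem_nb1.1 m3).2.2 (oz _ (by simp))⟩, rfl⟩
  obtain ⟨r, er⟩ : ∃ t : Cz z, t.1 = ψ (xx 1) := ⟨⟨_, cz' (mem_nb1.1 m1).2.2 z1⟩, rfl⟩
  have ht : t.1 ∈ Cl Y (e 2) := et ▸ F.mem m9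
  have hw : w.1 ∈ Cl Y (e 2) := ew ▸ F.mem mw
  have hr : r.1 ∈ cS γ.1 (Cl Y (e 2)) := er ▸ F'.mem m1
  have et' : t.1 = ψ (xx 0) := by rw [a.od (Commute.refl _) c09.symm (sgn24_eq _ k.mem), k.self, mul_one, et]
  have ht' : t.1 ∈ cS γ.1 (Cl Y (e 2)) := et' ▸ F'.mem m0
  have ntw : ¬ Commute t.1 w.1 := by rw [et, ew, F.comm m9 mw]; exact n9
  have ntr : ¬ Commute t.1 r.1 := by rw [et', er, F'.comm m0 m1]; exact n1
  obtain ⟨t1, t2⟩ := f.z3 l ht hw ntw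
  obtain ⟨w1, w2⟩ := f.z3 l hw ht fun c => ntw c.symm
  obtain ⟨uw, u1, u2⟩ := f.ov3 w1 w2
  have q8 := F.clq n0
  have hs : φ (xx 3) ∈ Nb (Cl Y (e 2)) [e 2, e 4, e 7] := m ▸ (F.nb (l := [xb, xc, xd]) fun y hy => n0.1 y
    (List.mem_append_left [xx 9, xx 3, xx 6, xx 11] hy)).mem ((clq_append.1 (show Clq _ ([xb, xc, xd] ++ _) from n0)).2.1 _ (by simp))
  have p := h.act γ f.p2
  have e3 : γ * e 2 * (γ⁻¹ : Cz z) = t.1 * s.1 := by
    rw [et, es, ← a.od (mem_nb1.1 m3).2.2 (o9 _ (by simp)) (sgn24_eq _ m3.1)]; exact (List.cons.inj g2).1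
  rw [e3] at p
  have c93 : Clq E24 [xx 9, xx 3] := q4'.sub (by simp)
  obtain ⟨v1, v2⟩ := f.pt3 t1 (w := s) (es ▸ (f.nb3 l).le ⟨hs.1, fun q => hs.2.1 (List.mem_append_left [e 7] q),
    fun y q => hs.2.2 y (List.mem_append_left [e 7] q)⟩) (by rw [et, es, F.comm m9 m3]; exact o9 _ (by simp))
    (by rw [et, es]; exact fun q => by simpa [F.inj m9 m3 q] using c93.nodup) t2 (fun q => hs.2.1 (by simp [← es, q])) p
  generalize hv : π γ (v6 5) = v at v1 v2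
  obtain ⟨r1, r2⟩ := f.z3 l (y := γ⁻¹ * r * γ) (w := γ⁻¹ * t * γ) hr ht' fun c => ntr (by simpa [mul_assoc] using c.symm.conj γ.1)
  obtain ⟨u', u3, u4⟩ := f.ov3 r1 r2
  have L := h.mem_L0 γ
  have qv := q61 v1.1
  have er' : π r = rf v * rf (π γ u') := by
    rw [← hv, ← rf_conj0 L q5, ← rf_conj0 L (q61 u3.1), _root_.conj_mul, ← tt, ← u4]; simp [mul_assoc]
  have h1 : Hp (π γ u') v := hv ▸ (vp_hp.1 u3.2.1).img L
  have hu := inv61 (L0_LS L) u3.1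
  generalize π γ u' = u at er' h1 hu
  have v5 := vp_hp.1 v1.2.1
  have vv := hp_self qv
  have h2 : ¬ Hp u (v6 5) := fun c => ntr (f.pc9 l ht' hr (by
    rw [v2, er', tt]; exact (v5.symm.cm.mul_right c.symm.cm).mul_left (vv.cm.mul_right h1.symm.cm)))
  have h3 : ¬ Hp uw v := fun c => ntw (f.pc3 l ht hw (by rw [v2, u2]; exact c.symm.tcm v1.2.1 u1.2.1))
  have h4 : Hp u uw := by_contra fun h4 => by
    obtain ⟨y, y1, y2, y3, y4⟩ := geo v1 u1 hu h1 h2 h3 h4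
    obtain ⟨b, b1, b2⟩ := f.ex3 y1
    have b3 := ((f.nb3 l).ge b1).1
    obtain ⟨c, c1, c2⟩ := F.surj b3
    have d9 : Commute (xx 9) c := (F.comm m9 c1).1 (by
      rw [← et, c2]; exact f.pc3 l ht b3 (by rw [v2, b2]; exact y2.symm.tcm v1.2.1 y1.2.1))
    have dw : Commute ww c := (F.comm mw c1).1 (by
      rw [← ew, c2]; exact f.pc3 l hw b3 (by rw [u2, b2]; exact y3.symm.tcm u1.2.1 y1.2.1))
    have c3 := mem_nb1.1 c1
    have c4 : c ∈ Nb E24 [xx 9] := mem_nb1.2 ⟨c3.1, fun q => n9 (q ▸ dw.symm), d9⟩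
    have e5 : (t * b).1 = ψ c := by rw [a.od c3.2.2 d9 (sgn24_eq _ c3.1), c2, ← et]; rfl
    have d1 : Commute (xx 1) c := (F'.comm m1 c4).1 (by
      rw [← er, ← e5]
      refine f.pc9 l hr (e5 ▸ F'.mem c4) ?_
      rw [map_mul, v2, b2, tt_tt v1.2.1, er']
      exact (vv.cm.mul_right y2.symm.cm).mul_left (h1.cm.mul_right y4.symm.cm))
    refine nb0 ⟨c3.1, ?_, by simpa using ⟨c3.2.2, d1, d9, dw⟩⟩
    simp only [List.mem_cons, List.not_mem_nil, or_false]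
    rintro (q | q | q | q)
    exacts [c3.2.1 q, n1 (q ▸ c3.2.2), n9 (q ▸ dw.symm), n9 (q ▸ d9)]
  have T3 := f.tt3 l
  have c := c33 h (k := t * w) (g := t * r) (Subtype.ext (tt_cube T3 ht hw ntw)) (Subtype.ext (by
      change (t.1 * r.1) ^ 3 = 1
      have := tt_cube T k.mem m1.1 n1
      have d := (mem_nb1.1 m0).2.2.mul_right (mem_nb1.1 m1).2.2
      rw [et', er, ← k'.mul _ _ (mem_nb1.1 m0).2.2 (mem_nb1.1 m1).2.2, ← k'.one, ← this, pow_three, pow_three,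
        k'.mul _ _ d (d.mul_right d), k'.mul _ _ d d]))
    (by rw [map_mul, v2, u2, tt_tt v1.2.1]) (c := v6 5) (d := u)
    (by rw [map_mul, v2, er', tt, mul_assoc, ← mul_assoc (rf v), rf_sq qv, one_mul]) v5.symm (vp_hp.1 u1.2.1).symm h1 h4
  rw [k'.mul _ _ (mem_nb1.1 m0).2.2 (mem_nb1.1 m1).2.2, ← et', ← er, ← ew]
  have r2 : r.1 * r.1 = 1 := er ▸ k'.sq (mem_nb1.1 m1).2.2 (H28.tt_sq T m1.1)
  have t2 := H28.tt_sq T3 ht
  have w2 := H28.tt_sq T3 hw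
  replace c : t.1 * w * (t * r) = t * r * (t * w) := c
  calc w.1 * (t * r) * (w * (t * r)) = t * (t * w * (t * r)) * w * (t * r) := by simp only [← mul_assoc, t2, one_mul]
    _ = 1 := by
      rw [c]
      simp only [← mul_assoc, t2, one_mul]
      rw [mul_assoc _ w.1 w.1, w2, mul_one, mul_assoc _ t.1 t.1, t2, mul_one, r2]
end Fr
end
end H1.Lf
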