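import Cfsg.Agent.H1.I4
import Cfsg.Agent.H28.Tz5

/-! Groups of large Fischer type are isomorphic to the derived group of `M(24)`. -/

set_option autoImplicit false
set_option linter.unusedSectionVars false
set_option maxRecDepth 100000

namespace H1.Lf
noncomputable section
open H13 MulAction Cfsg H27 Subgroup H18 H28
universe u
variable {G : Type u} [Group G] [Finite G] {z : G} {R : Subgroup G} {π : Cz z →* AL V6} {P : V6 → G → Prop}

/-- the simple group -/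
abbrev L24 : Subgroup F24 := sgn24.ker
theorem evgt {l l' : List F24} (c : Clq E24 l) (c' : Clq E24 l') (e : l'.length = l.length) (k : l.length ≤ 5) {a : F24} (n : a ∈ l) :
    ∃ g : L24, l.map (fun x => g * x * g.1⁻¹) = l' := by
  obtain ⟨g, hg⟩ := m24.gts _ k _ _ c c' rfl e
  rcases sgn_or sgn24 (sgn24_eq a (c.1 a n)) g with s | s
  · exact ⟨⟨g, s⟩, hg⟩
  · refine ⟨⟨_, s⟩, Eq.trans (List.map_congr_left fun x hx => ?_) hg⟩
    rw [show g * a * x * (g * a)⁻¹ = g * (a * x * a⁻¹) * g⁻¹ by group, conj_eq_iff_commute.2 (c.comm a n x hx)]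
theorem q3' : Clq E24 [xx 0, xb, xc] := q4.sub (by simp)
theorem q2' : Clq E24 [xx 0, xb] := q4.sub (by simp)
theorem e2L {a b : F24} (ha : a ∈ E24) (hb : b ∈ E24) : a * b ∈ L24 := M24.ev2 sgn24 sgn24_eq ha hb
def tA : L24 := ⟨xx 0 * xb, e2L (q4.1 _ (by simp)) (q4.1 _ (by simp))⟩
def tB : L24 := ⟨xx 0 * xc, e2L (q4.1 _ (by simp)) (q4.1 _ (by simp))⟩
def zL : L24 := ⟨zs, zs_ev⟩
theorem fourL {l : List F24} (c : Clq E24 l) (e : l.length = 4) : ∃ g : L24, (g * zL * g⁻¹).1 = l.prod :=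
  let ⟨g, hg⟩ := evgt q4 c e (by simp) List.mem_cons_self
  ⟨g, hg ▸ (map_conj_prod g.1 _).symm⟩
theorem invL (y : L24) (h2 : y * y = 1) (h1 : y ≠ 1) : (∃ p q, Clq E24 [p, q] ∧ y.1 = p * q) ∨ ∃ g : L24, g * zL * g⁻¹ = y := by
  obtain ⟨l, c, e, p⟩ := m24.iv y.1 (congrArg Subtype.val h2)
  have s : (-1 : ℤˣ) ^ l.length = 1 := by
    refine Eq.trans ?_ y.2
    rw [← p, map_list_prod, List.map_congr_left fun y hy => sgn24_eq y (c.1 y hy)]; simp
  obtain q | q | q | q | q : l.length = 0 ∨ l.length = 1 ∨ l.length = 2 ∨ l.length = 3 ∨ l.length = 4 := by omega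
  · rw [List.length_eq_zero_iff.1 q] at p
    exact absurd (Subtype.ext p.symm) h1
  · exact absurd (q ▸ s) (by decide)
  · obtain ⟨u, v, rfl⟩ := List.length_eq_two.1 q
    exact .inl ⟨u, v, c, by simpa using p.symm⟩
  · exact absurd (q ▸ s) (by decide)
  · exact .inr (let ⟨g, hg⟩ := fourL c q; ⟨g, Subtype.ext (hg.trans p)⟩)
theorem twoL {y : L24} {p q : F24} (c : Clq E24 [p, q]) (e : y.1 = p * q) : ∃ g : L24, g * tA * g⁻¹ = y :=
  let ⟨g, hg⟩ := evgt q2' c rfl (by simp) List.mem_cons_self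
  ⟨g, Subtype.ext (by simpa [e, tA] using (map_conj_prod g.1 _).symm.trans (congrArg List.prod hg))⟩
theorem card_L24 : Nat.card L24 = 306936 * 4089470473293004800 := by
  have c := card_sgn sgn24 (mem_top (xx 0)) (sgn24_eq _ (q4.1 _ (by simp)))
  rw [inf_top_eq, card_top, f24_card] at c
  change _ = 2 * Nat.card L24 at c
  omega
theorem card_zL : Nat.card (centralizer {zL} : Subgroup L24) = 160526499840 := by
  obtain ⟨-, Ψ, -, p1, cK, -⟩ := m24.tz2 q4 rfl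
  have c1 := card_sgn sgn24 (mem_cent1.2 (q4.comm_prod List.mem_cons_self).symm) (sgn24_eq _ (q4.1 _ List.mem_cons_self))
  have c2 := Ψ.ker.index_mul_card
  rw [index_ker, MonoidHom.range_eq_top.2 p1, card_top, card_p6, cK] at c2
  rw [← Nat.card_congr (subgroupOfEquivOfLe (inf_le_left : sgn24.ker ⊓ _ ≤ _)).toEquiv,
    show subgroupOf (sgn24.ker ⊓ centralizer {zs}) _ = (centralizer {zL} : Subgroup L24) from Subgroup.ext fun x => ⟨fun a => mem_cent1.2 (Subtype.ext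
      (mem_cent1.1 a.2)), fun a => ⟨x.2, mem_cent1.2 (congrArg Subtype.val (mem_cent1.1 a))⟩⟩, ← c2] at c1
  exact Nat.eq_of_mul_eq_mul_left two_pos (c1.symm.trans (by norm_num))
/-- the embedding of the simple group -/
structure Th (z : G) (e : ℕ → G) (θ : L24 →* G) : Prop where
  inj : Function.Injective θ
  tz : θ zL = z
  t2 : θ tA = e 2
  t4 : θ tB = e 4
  ce : CE e ≤ θ.range
namespace Fr
variable {h : FT0 z R π P} {x : Cz z} {e : ℕ → G} (f : Fr h x e)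
include f
theorem th : ∃ θ, Th z e θ := by
  obtain ⟨K, l⟩ := f.l2
  obtain ⟨Y, l⟩ := f.l3 l
  have v := f.fam l
  have m : Cl Y (e 2) ∈ Set.range fun g => cS g (Cl Y (e 2)) := ⟨1, cS_cl (one_mem _)⟩
  obtain ⟨φ, k, s⟩ := ch_ex m24 (q4.1 _ List.mem_cons_self) (v.a1 _ m) (clq_cons.1 q4).2 (f.q3 l) rfl (by simp)
  obtain ⟨_, ⟨g, rfl⟩, ψ, k', a, r⟩ := amalgam v m k
  obtain ⟨θ, t⟩ := r (f.rel l k s k' a)
  have t1 : ∀ y (hy : y ∈ Nb E24 [xx 0]), θ ⟨xx 0 * y, e2L k.mem hy.1⟩ = φ y := fun y hy => by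
    have c := (mem_nb1.1 hy).2.2
    rw [t _ ((Commute.refl _).mul_right c), k.mul _ _ (Commute.refl _) c, k.self, one_mul]
  have tz : θ zL = z := by rw [t _ (q4.comm_prod List.mem_cons_self), ← f.zq l, ← s]; exact k.p4 q4
  have n := (clq_cons.1 q4).2.1
  simp only [List.map_cons, List.map_nil, List.cons.injEq, and_true] at s
  have t2 : θ tA = e 2 := (t1 _ (n xb (by simp))).trans s.1
  have t4 : θ tB = e 4 := (t1 _ (n xc (by simp))).trans s.2.1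
  have := ker24_simple
  refine ⟨θ, (MonoidHom.ker_eq_bot_iff θ).1 (θ.normal_ker.eq_bot_or_eq_top.resolve_right fun q =>
    h.z_ne (tz.symm.trans (q.ge (mem_top zL)))), tz, t2, t4, f.gen.ge.trans ((closure_le _).2 fun d hd => ?_)⟩
  obtain ⟨y, hy, q⟩ := k.bij.surjOn ((f.nb3 l).ge (show e 6 * (e 6 * d) ∈ DD z e by rwa [f.ee])).1
  refine (mul_mem_cancel_left (show e 6 ∈ θ.range from ⟨tA * tB, ?_⟩)).1 ⟨_, (t1 y hy).trans q⟩
  rw [map_mul, t2, t4, ← f.xor]; rfl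
variable {θ : L24 →* G} (t : Th z e θ) {g y u : G}
include t
theorem cZ : Nat.card (Cz z) = 160526499840 := by
  rw [← h.card_im le_rfl, inf_eq_right.2 h.le, h.card, show XQ.im π (Cz z) = π.range by
    rw [XQ.im, subgroupOf_self, MonoidHom.range_eq_map], h.crd]; norm_num
theorem Cz_le : Cz z ≤ θ.range := by
  have : (centralizer {zL}).map θ = Cz z := eq_of_le_of_card_ge (by
    rintro _ ⟨y, hy, rfl⟩; exact mem_cent1.2 (t.tz ▸ (mem_cent1.1 hy).map θ)) (by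
    rw [card_map_of_injective t.inj, card_zL, f.cZ t])
  exact this ▸ map_le_range _ _
theorem cjr (k a : L24) : θ (k * a * k⁻¹) = θ k * θ a * (θ k)⁻¹ := by simp
theorem inv0 (hy : y ∈ θ.range) (h2 : y * y = 1) (h1 : y ≠ 1) : y ∈ Cl θ.range (e 2) ∨ y ∈ Cl θ.range z := by
  obtain ⟨y, rfl⟩ := hy
  refine (invL y (t.inj (by simpa using h2)) fun q => h1 (by simp [q])).imp (fun ⟨_, _, c, q⟩ => ?_) fun ⟨g, q⟩ => ?_
  · obtain ⟨g, q⟩ := twoL c q
    exact ⟨_, ⟨g, rfl⟩, by rw [← q, f.cjr t, t.t2]⟩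
  · exact ⟨_, ⟨g, rfl⟩, by rw [← q, f.cjr t, t.tz]⟩
theorem zcl (hy : y ∈ θ.range) (c : IsConj z y) : y ∈ Cl θ.range z := by
  obtain ⟨k, rfl⟩ := isConj_iff.1 c
  exact (f.inv0 t hy (h.conj_sq k) (h.conj_ne_one k)).resolve_left fun ⟨m, _, q⟩ =>
    f.nz (a := 2) (by decide) (by decide +kernel) (c.trans (isc m q).symm)
theorem fus (hy : y ∈ Cl θ.range z) (c : g * y * g⁻¹ ∈ θ.range) : g ∈ θ.range := by
  obtain ⟨k, a, rfl⟩ := hy
  obtain ⟨m, b, q⟩ := f.zcl t c ((isc k rfl).trans (isc g rfl))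
  refine (mul_mem_cancel_left (inv_mem b)).1 ((mul_mem_cancel_right a).1 (f.Cz_le t (mem_Cz'.2 ?_)))
  rw [show m⁻¹ * g * k * z * (m⁻¹ * g * k)⁻¹ = m⁻¹ * (g * (k * z * k⁻¹) * g⁻¹) * m by group, ← q]; group
theorem zc (hy : y ∈ Cl θ.range z) (c : Commute u y) : u ∈ θ.range :=
  f.fus t hy ((cj_cm c).symm ▸ Cl.mem ⟨_, t.tz⟩ hy)
theorem two (a : g * e 2 * g⁻¹ ∈ θ.range) (b : g * e 4 * g⁻¹ ∈ θ.range) : g ∈ θ.range := by
  have s : ∀ j, g * e j * g⁻¹ * (g * e j * g⁻¹) = 1 := fun j => by rw [_root_.conj_mul, f.sq]; simp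
  have p := pg_cm (S := {g * e 2 * g⁻¹, g * e 4 * g⁻¹}) (by rintro _ (rfl | rfl) <;> exact s _)
    (by rintro _ (rfl | rfl) _ (rfl | rfl) <;> exact (cm_iff g).2 (f.cm _ _))
  have l : closure {g * e 2 * g⁻¹, g * e 4 * g⁻¹} ≤ θ.range := (closure_le _).2 (Set.pair_subset a b)
  have m2 : g * e 2 * g⁻¹ ∈ closure {g * e 2 * g⁻¹, g * e 4 * g⁻¹} := subset_closure (by simp)
  have m4 : g * e 4 * g⁻¹ ∈ closure {g * e 2 * g⁻¹, g * e 4 * g⁻¹} := subset_closure (by simp)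
  generalize closure {g * e 2 * g⁻¹, g * e 4 * g⁻¹} = Q at *
  let _ : MulAction Q ↥(Cl θ.range z) :=
    { smul := fun q y => ⟨q * y * q.1⁻¹, Cl.cj y.2 (l q.2)⟩
      one_smul := fun y => Subtype.ext (by change (1 : G) * y * 1⁻¹ = y; simp)
      mul_smul := fun a b y => Subtype.ext (by change (a * b : G) * y * (a * b : G)⁻¹ = a * (b * y * b.1⁻¹) * a.1⁻¹; group) }
  obtain ⟨y, hy⟩ := p.nonempty_fixed_point_of_prime_not_dvd_card ↥(Cl θ.range z) (by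
    have := card_conj_list θ.range [z]
    rw [cn_one, inf_eq_right.2 (f.Cz_le t), f.cZ t, ← Nat.card_congr (MonoidHom.ofInjective t.inj).toEquiv, card_L24,
      show {t | ∃ g ∈ θ.range, [z].map (fun x => g * x * g⁻¹) = t} = (fun y => [y]) '' Cl θ.range z from Set.ext fun _ =>
        ⟨fun ⟨k, a, b⟩ => ⟨_, ⟨k, a, rfl⟩, b⟩, fun ⟨_, ⟨k, a, c⟩, b⟩ => ⟨k, a, (congrArg (fun y => [y]) c).trans b⟩⟩,
      Set.ncard_image_of_injective _ List.singleton_injective] at this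
    rw [Nat.card_coe_set_eq]; omega)
  have c : ∀ j, g * e j * g⁻¹ ∈ Q → g⁻¹ * y * g⁻¹⁻¹ ∈ Cz (e j) := fun j m => by
    rw [inv_inv, conj_mem_Cz]; exact mem_Cz.2 (cm_cj (congrArg Subtype.val (hy ⟨_, m⟩))).symm
  exact inv_mem_iff.1 (f.fus t y.2 (t.ce ⟨c 2 m2, c 4 m4⟩))
theorem Ct_le : Cz (e 2) ≤ θ.range := fun x hx => by
  have T := m24.tt
  have r2 : e 2 ∈ θ.range := ⟨_, t.t2⟩
  have rz : z ∈ θ.range := ⟨_, t.tz⟩
  refine f.two t ((mem_Cz'.1 hx).symm ▸ r2) ?_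
  have hu : x * e 4 * x⁻¹ ∈ Cz (e 2) := mul_mem (mul_mem hx (mem_Cz.2 (f.cm 4 2))) (inv_mem hx)
  have l : closure {z, x * e 4 * x⁻¹} ≤ Cz (e 2) := (closure_le _).2 (Set.pair_subset (f.DC zD).1 hu)
  obtain ⟨-, g, -, q⟩ | ⟨v, v0, v2, v1, c1, c2, g, g1, k, -, q⟩ := dihe (a := z) (b := x * e 4 * x⁻¹) h.zz
    (by rw [_root_.conj_mul, f.sq]; simp)
  · exact absurd ((isc x rfl).trans (isc g q)).symm (f.nz (a := 4) (by decide) (by decide +kernel))
  have rv := f.Cz_le t (mem_Cz.2 c1.symm)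
  obtain ⟨y, y1, y2, w, w1, w2, n⟩ : ∃ y ∈ θ.range, y ∈ Cz (e 2) ∧ ∃ w : L24, w.1 ∈ Cn [xx 0, xb] ∧ y * θ w * y⁻¹ = z * v ∧
      v ≠ e 2 := by
    have c := q4.cl_le_cn
    have d : Cn [xx 0, xb, xc, xd] ≤ Cn [xx 0, xb] := fun y a => mem_cn.2 fun p m => mem_cn.1 a p (List.mem_append_left [_, _] m)
    rcases q with ⟨q, -⟩ | ⟨q, -⟩
    · refine ⟨g, f.fus t (Cl.self _ _) (q ▸ mul_mem rz rv), l g1, zL, d (c (list_prod_mem fun _ => mem_cl)), t.tz ▸ q, ?_⟩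
      rintro rfl
      exact f.Dnz zD (by simp) (isc g q)
    · have q' : g * x * e 4 * (g * x)⁻¹ = z * v := by rw [← q]; group
      have m := mul_mem (l g1) hx
      refine ⟨g * x, f.two t ((mem_Cz'.1 m).symm ▸ r2) (q' ▸ mul_mem rz rv), m, tB,
        d (c (mul_mem (mem_cl (by simp)) (mem_cl (by simp)))), t.t4 ▸ q', ?_⟩
      rintro rfl
      refine f.nz (a := 4 ^^^ 2) (by decide) (by decide +kernel) (isc (g * x) ?_).symm
      rw [f.xor, ← _root_.conj_mul, q', mem_Cz'.1 m, mul_assoc, f.sq, mul_one]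
  generalize x * e 4 * x⁻¹ = u at *
  obtain ⟨y, rfl⟩ := y1
  obtain ⟨v, rfl⟩ := rv
  have vc : v.1 ∈ Cn [xx 0, xb] := by
    have a : y * tA * y⁻¹ = tA := t.inj (by rw [f.cjr t, t.t2]; exact mem_Cz'.1 y2)
    have b : y * w * y⁻¹ = zL * v := t.inj (by rw [f.cjr t, map_mul, t.tz, w2])
    have p := m24.nr.perm3 T ((fiso_conj lv24.tg.2.1 y.1).clq q2') q2' (by simp) (by simp) (by
      rw [map_conj_prod]; simpa [tA] using congrArg Subtype.val a)
    refine (mul_mem_cancel_left (show zs ∈ Cn [xx 0, xb] from mem_cn.2 fun p m =>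
      q4.comm_prod (List.mem_append_left [_, _] m))).1 ((show y * w * y.1⁻¹ = zs * v from congrArg Subtype.val b) ▸ mem_cn.2 fun a m => ?_)
    obtain ⟨a, m', rfl⟩ := List.mem_map.1 (p.mem_iff.2 m)
    exact (H28.commute_conj_iff ..).2 (mem_cn.1 w1 a m')
  obtain ⟨p, q, c, s⟩ | ⟨m, rfl⟩ := invL v (t.inj (by simpa using v2)) fun q => v1 (by simp [q])
  swap
  · exact f.zc t ⟨_, ⟨m, rfl⟩, by rw [f.cjr t, t.tz]⟩ c2
  have ha := q4.1 (xx 0) (by simp)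
  have hb := q4.1 xb (by simp)
  have ab : xx 0 ≠ xb := by simpa using q2'.nodup
  have cab := q2'.comm (xx 0) (by simp) xb (by simp)
  have key : ∀ p q, Clq E24 [p, q] → v.1 = p * q → (p = xx 0 ∨ p = xb) → u ∈ θ.range := fun p q c s o => by
    have hq := c.1 q (by simp)
    have pq : p ≠ q := by simpa using c.nodup
    have i := fun a m => ((tt_commute_mul_iff T (c.1 p (by simp)) hq (q2'.1 a m) pq).1 (s ▸ mem_cn.1 vc a m)).2
    obtain ⟨r, c3, e3⟩ : ∃ r, Clq E24 [p, r] ∧ p * r = xx 0 * xb ∧ r ∈ [xx 0, xb] := by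
      rcases o with rfl | rfl
      exacts [⟨_, q2', rfl, by simp⟩, ⟨_, (q2'.perm (List.Perm.swap _ _ [])).1, cab.symm, by simp⟩]
    have c4 : Clq E24 [q, p, r] := clq_cons'.2 ⟨⟨hq, by
      simp only [List.mem_cons, List.not_mem_nil, or_false]
      rintro (rfl | rfl)
      exacts [pq rfl, n (t.t2 ▸ congrArg θ (Subtype.ext (s.trans e3.1)))], by
        simpa using ⟨c.comm p (by simp) q (by simp), i r e3.2⟩⟩, c3⟩
    obtain ⟨m, hm⟩ := evgt q3' (c4.perm (l' := [p, r, q]) (List.perm_append_comm (l₁ := [q]))).1 rfl (by simp) List.mem_cons_self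
    simp only [List.map_cons, List.map_nil, List.cons.injEq, and_true] at hm
    have a1 : m * tA * m⁻¹ = tA := Subtype.ext (by
      change m * (xx 0 * xb) * m.1⁻¹ = xx 0 * xb; rw [← _root_.conj_mul, hm.1, hm.2.1, e3.1])
    have a2 : m * tB * m⁻¹ = v := Subtype.ext (by change m * (xx 0 * xc) * m.1⁻¹ = v; rw [← _root_.conj_mul, hm.1, hm.2.2, s])
    have := t.ce (show (θ m)⁻¹ * u * θ m ∈ CE e from ⟨conj_mem_Cz.2 (by rwa [← t.t2, ← f.cjr t, a1, t.t2]),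
      conj_mem_Cz.2 (by rw [← t.t4, ← f.cjr t, a2]; exact mem_Cz.2 c2)⟩)
    exact (mul_mem_cancel_left (inv_mem (θ.mem_range.2 ⟨m, rfl⟩))).1 ((mul_mem_cancel_right (θ.mem_range.2 ⟨m, rfl⟩)).1 this)
  have c' := c.perm (List.Perm.swap q p [])
  by_cases o1 : p = xx 0 ∨ p = xb
  · exact key p q c s o1
  by_cases o2 : q = xx 0 ∨ q = xb
  · exact key q p c'.1 (s.trans (by simpa using c'.2)) o2
  have pq : p ≠ q := by simpa using c.nodup
  have i := fun a m => (tt_commute_mul_iff T (c.1 p (by simp)) (c.1 q (by simp)) (q2'.1 a m) pq).1 (s ▸ mem_cn.1 vc a m)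
  obtain ⟨m, hm⟩ := fourL (l := [xx 0, xb] ++ [p, q]) (clq_append.2 ⟨q2', List.forall_mem_cons.2
    ⟨⟨c.1 p (by simp), by simpa using o1, fun a m => (i a m).1⟩, List.forall_mem_singleton.2
      ⟨c.1 q (by simp), by simpa using o2, fun a m => (i a m).2⟩⟩, c.2⟩) rfl
  refine f.zc t (y := e 2 * θ v) ⟨_, ⟨m, rfl⟩, ?_⟩ ((show Commute u (e 2) from mem_Cz.1 hu).mul_right c2)
  rw [← t.tz, ← f.cjr t, ← t.t2, ← map_mul]
  exact congrArg θ (Subtype.ext (hm.trans (by simp [s, tA, mul_assoc])))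
theorem sur0 : Function.Surjective θ := fun g => by
  obtain ⟨-, k, -, q⟩ | ⟨v, -, v2, v1, c1, c2, -⟩ := dihe (a := e 2) (b := g * z * g⁻¹) (f.sq 2) (h.conj_sq g)
  · exact absurd ((isc g rfl).trans (isc k q)) (f.nz (a := 2) (by decide) (by decide +kernel))
  refine f.fus t (Cl.self _ _) ?_
  rcases f.inv0 t (f.Ct_le t (mem_Cz.2 c1.symm)) v2 v1 with ⟨k, a, rfl⟩ | m
  · exact (mul_mem_cancel_left (inv_mem a)).1 ((mul_mem_cancel_right a).1 (f.Ct_le t (conj_mem_Cz.2 (mem_Cz.2 c2))))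
  · exact f.zc t m c2
end Fr
theorem lf_iso {Q : Subgroup (Cz z)} [Q.Normal] (hF : IsOfLargeFischerTypeAt z Q) : ∃ i : L24 ≃* G, i zL = z := by
  obtain ⟨π, P, h⟩ := H13.exists_ft0 hF
  obtain ⟨x, e, f⟩ := ex_fr h
  obtain ⟨θ, t⟩ := f.th
  exact ⟨.ofBijective θ ⟨t.inj, f.sur0 t⟩, t.tz⟩
theorem l24_iso : Nonempty (L24 ≃* Spor.Fi24') := by
  obtain ⟨e, -⟩ := fi24_equiv
  refine ⟨((e.subgroupMap _).trans (MulEquiv.subgroupCongr ?_)).symm⟩
  rw [L24, ← f24_commutator, map_commutator_eq, MonoidHom.range_eq_top.2 e.surjective, commutator_def]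
end
end H1.Lf
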