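import Cfsg.Agent.H1.I5

/-! Consequences of the recognition of groups of large Fischer type. -/

set_option autoImplicit false
set_option linter.unusedSectionVars false
set_option maxRecDepth 100000

namespace H1.Lf
noncomputable section
open H13 MulAction Cfsg H27 Subgroup H18 H28
universe u
variable {G : Type u} [Group G] [Finite G]

theorem fstar_equiv {A B : Type*} [Group A] [Group B] (j : A ≃* B) :
    (generalizedFittingSubgroup A).map j.toMonoidHom = generalizedFittingSubgroup B := by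
  rw [← H5.fstarOf_top, H5.map_fstarOf_of_injective j.injective, map_top_of_surjective _ j.surjective, H5.fstarOf_top]
theorem cent_two (i : L24 ≃* G) {t : G} (h2 : orderOf t = 2) (n : ¬ IsConj (i zL) t)
    [((zpowers t).subgroupOf (centralizer {t})).Normal] :
    IsQuasisimple (generalizedFittingSubgroup (centralizer {t})) ∧ (generalizedFittingSubgroup (centralizer {t})).index = 2 ∧
    (∃ h : t ∈ centralizer {t}, (⟨t, h⟩ : centralizer {t}) ∈ generalizedFittingSubgroup (centralizer {t})) ∧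
    Nonempty (centralizer {t} ⧸ (zpowers t).subgroupOf (centralizer {t}) ≃* MulAut Spor.Fi22) := by
  obtain ⟨t, rfl⟩ := i.surjective t
  obtain ⟨p, q, c, e⟩ := (invL t (i.injective (by simpa using H6.ord2_mul_self h2)) fun q => H6.ord2_ne_one h2 (by simp [q])).resolve_right
    fun ⟨g, q⟩ => n (isc (i g) (by rw [← q]; simp))
  have h := m24
  have hD := lv24.tg
  obtain ⟨π, r⟩ := h.lv.rl2 lv23 c
  have := fi22_simple
  obtain ⟨a, b, d, -, -, ⟨φ, φ1, φ2⟩, α, α1, α2⟩ := r.even hD c (r.gen' (h.rl8.meet hD c (h.gts 2 (by norm_num)) (by simp)))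
    (by rw [fi22_card]; norm_num) (fun m hm => h.gts m (hm.trans (by simp))) (h.nr.mono (by simp)) (by simp) sgn24 sgn24_eq
    (by rw [H22.card_mulAut_eq_out _ fi22_center, Cfsg.Agent.S2079.result]; rfl) rfl rfl
  rw [even_sub hD.1 c sgn24 sgn24_eq inf_le_left, List.map_singleton, cl_one, ← e] at α2
  have e' : [p, q].prod = t := by simp [e]
  have m : t.1 ∈ sgn24.ker ⊓ Cn [p, q] := ⟨t.2, mem_cn.2 fun y hy => e' ▸ c.comm_prod hy⟩
  generalize sgn24.ker ⊓ Cn [p, q] = K at *
  generalize hC : sgn24.ker ⊓ centralizer {[p, q].prod} = C at *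
  rw [e'] at hC
  have l : C ≤ L24 := hC ▸ inf_le_left
  let j : C ≃* centralizer {i t} := .ofBijective ((i.toMonoidHom.comp (inclusion l)).codRestrict _ fun x =>
    mem_cent1.2 (Commute.map (show Commute t ⟨x, l x.2⟩ from Subtype.ext (mem_cent1.1 (hC.ge x.2).2)) i))
    ⟨fun x y e => inclusion_injective l (i.injective (congrArg Subtype.val e)), fun ⟨y, hy⟩ => by
      obtain ⟨y, rfl⟩ := i.surjective y
      exact ⟨⟨y, hC.le ⟨y.2, mem_cent1.2 (congrArg Subtype.val ((mem_cent1.1 hy).of_map i.injective))⟩⟩, rfl⟩⟩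
  have k : generalizedFittingSubgroup C = K.subgroupOf C := by
    rw [← b, subgroupOf, comap_map_eq_self_of_injective C.subtype_injective]
  rw [← fstar_equiv j, k]
  refine ⟨H5.qs_of_equiv a ((subgroupOfEquivOfLe d).symm.trans (j.subgroupMap _)), ?_, ⟨mem_cent1.2 (Commute.refl _), ⟨t, d m⟩, m, rfl⟩,
    (quot_equiv_of (α.comp j.symm.toMonoidHom) (α1.comp j.symm.surjective) fun x => ?_).2⟩
  · rw [index_map_of_bijective (f := j.toMonoidHom) j.bijective, ← φ2, index_ker, MonoidHom.range_eq_top.2 φ1]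
    simp [Fintype.card_perm]
  · obtain ⟨x, rfl⟩ := j.surjective x
    refine Iff.trans (by simp) ((Subgroup.ext_iff.1 α2 x).trans ⟨fun ⟨k, e⟩ => ⟨k, ?_⟩, fun ⟨k, e⟩ => ⟨k, ?_⟩⟩)
    · exact (map_zpow i t k).symm.trans (congrArg i (Subtype.ext e))
    · exact congrArg Subtype.val (i.injective ((map_zpow i t k).trans e))
end
end H1.Lf
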