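import Cfsg.Agent.H1.I6

/-! Extensions of degree two of groups of large Fischer type. -/

set_option autoImplicit false
set_option linter.unusedSectionVars false
set_option maxRecDepth 100000

namespace H1.Lf
noncomputable section
open H13 MulAction Cfsg H27 Subgroup H18 H28
universe u
variable {G M X : Type*} [Group G] [Group M] [Group X] {D : Set G}

theorem qsL : IsQuasisimple L24 ∧ center L24 = ⊥ :=
  have := ker24_simple; qs_of_simple (by rw [card_L24]; norm_num)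
theorem cent_idx {H : Subgroup X} (hi : H.index = 2) {c : X} (n : c ∉ H) (k : ∀ g ∈ H, Commute c g) : c ∈ center X :=
  mem_center_iff.2 fun y => by
    by_cases q : y ∈ H
    · exact (k y q).symm
    · simpa using ((k _ ((mul_mem_iff_of_index_two hi).2 (iff_of_false q n))).mul_right (Commute.refl c).inv_right).symm.eq
theorem cent_triv {H : Subgroup X} (i : L24 ≃* H) {c : X} (n : c ∈ H) (k : ∀ g ∈ H, Commute c g) : c = 1 :=
  congrArg Subtype.val ((center_equiv i.symm qsL.2).le (x := ⟨c, n⟩) (mem_center_iff.2 fun y => Subtype.ext (k y y.2).symm))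
theorem idxL : L24.index = 2 := by
  have := L24.index_mul_card
  rw [card_L24, f24_card] at this
  exact Nat.eq_of_mul_eq_mul_right (by norm_num) (this.trans (by norm_num))
theorem cjL24 : Function.Bijective (MulAut.conjNormal (H := L24)) := by
  refine ⟨(injective_iff_map_eq_one _).2 fun x hx => ?_, m24.autL sgn24 sgn24_eq⟩
  have k : ∀ y ∈ L24, Commute x y := fun y hy => conj_eq_iff_commute.1 (congrArg (fun f : MulAut L24 => (f ⟨y, hy⟩).1) hx)
  by_cases q : x ∈ L24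
  · exact cent_triv (.refl _) q k
  · exact lv24.cen.le (cent_idx idxL q k)
theorem ext_iso [Finite X] {H : Subgroup X} (hi : H.index = 2) (i : L24 ≃* H) (hC : center X ≤ H) :
    ∃ e : X ≃* F24, ∀ g : L24, e (i g) = g := by
  have := H.normal_of_index_eq_two hi
  have := m24.fin
  let κ := MulEquiv.ofBijective _ cjL24
  let ρ := κ.symm.toMonoidHom.comp ((MulAut.congr i.symm).toMonoidHom.comp (MulAut.conjNormal (H := H)))
  refine ⟨.ofBijective ρ ((Nat.bijective_iff_injective_and_card ρ).2 ⟨(injective_iff_map_eq_one _).2 fun x hx => ?_, ?_⟩),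
    fun g => κ.symm_apply_eq.2 (MulEquiv.ext fun y => i.injective ?_)⟩
  · have hx' : MulAut.conjNormal (H := H) x = 1 := (map_eq_one_iff _ (MulAut.congr i.symm).injective).1 ((map_eq_one_iff _ κ.symm.injective).1 hx)
    have k : ∀ y ∈ H, Commute x y := fun y hy => conj_eq_iff_commute.1 (congrArg (fun f : MulAut H => (f ⟨y, hy⟩).1) hx')
    exact cent_triv i (by_contra fun q => q (hC (cent_idx hi q k))) k
  · rw [← H.index_mul_card, hi, ← Nat.card_congr i.toEquiv, ← idxL, index_mul_card]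
  · change i (i.symm _) = i (g * y * g⁻¹)
    simp only [MulEquiv.apply_symm_apply, map_mul, map_inv]
    rfl
theorem cen_le [Finite X] {H : Subgroup X} {z : X} {K : Subgroup H}
    (h : (generalizedFittingSubgroup (centralizer {z})).map (Subgroup.subtype _) = K.map H.subtype) : center X ≤ H := fun c hc =>
  map_subtype_le K (h.le ⟨⟨c, mem_cent1.2 (mem_center_iff.1 hc z)⟩, le_sup_right (a := layer _) (H1.center_le_fitting
    (mem_center_iff.2 fun y => Subtype.ext (mem_center_iff.1 hc y))), rfl⟩)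
theorem type24 (e : X ≃* F24) : ∃ E : Set X, IsThreeTranspositionClass E ∧ IsOfTypeM24 X E :=
  ⟨_, class_map e24_class e.symm, (m24_equiv (class_group (class_map e24_class e.symm)) e (by rw [Set.image_image]; simp)).type⟩
theorem lv_cent {E : Set M} (h : Lv D E) [IsSimpleGroup M] (zM : center M = ⊥) (t : GTs D 2) {m : ℕ} (r : Rl D 7 m) (hm : 1 ≤ m)
    {d : G} (hd : d ∈ D) : IsQuasisimple (centralizer {d}) ∧ (∃ _ : ((zpowers d).subgroupOf (centralizer {d})).Normal,
      Nonempty (centralizer {d} ⧸ (zpowers d).subgroupOf (centralizer {d}) ≃* M)) ∧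
      ∃ g, g * d * g⁻¹ ∈ centralizer {d} ∧ g * d * g⁻¹ ≠ d := by
  obtain ⟨a, b, -⟩ := h.quasi1 zM t r hm hd
  obtain ⟨π, s⟩ := h.res d hd
  refine ⟨a ▸ b, quot_equiv_of (s.hom _ fun _ => mem_cent1.1) (fun m => let ⟨x, a, b⟩ := s.sur m; ⟨⟨x, mem_cent1.2 a⟩, b⟩) fun x =>
    (s.ker _ (mem_cent1.1 x.2)).trans (H6.mem_zpowers_ord2 (H6.ord2_mul_self (h.tg.1.1 d hd))).symm, ?_⟩
  obtain e | ⟨y, hy⟩ := (Nb D [d]).eq_empty_or_nonempty
  · exact absurd ((e ▸ s.gen).ge.trans closure_empty.le (mem_cent1.2 (Commute.refl d))) (tt_ne_one h.tg.1 hd)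
  · obtain ⟨a, b, c⟩ := mem_nb1.1 hy
    obtain ⟨g, rfl⟩ := h.cls d hd y a
    exact ⟨g, mem_cent1.2 c, b⟩
theorem m22_ex (e : G ≃* Spor.Fi22) : ∃ D : Set G, M22 D :=
  let ⟨_, a⟩ := m22.ne; ⟨_, m22_equiv (class_group (class_map (lv22.isClass a) e.symm)) e (by rw [Set.image_image]; simp)⟩
theorem m23_ex (e : G ≃* Spor.Fi23) : ∃ D : Set G, M23 D :=
  let ⟨_, a⟩ := m23.ne; ⟨_, m23_equiv (class_group (class_map (lv23.isClass a) e.symm)) e (by rw [Set.image_image]; simp)⟩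
theorem cent_out {H : Subgroup X} (i : L24 ≃* H) (e : X ≃* F24) (k : ∀ g : L24, e (i g) = g) {a : F24} (ha : a ∈ E24) :
    e.symm a ∉ H ∧ Nonempty (↥(H ⊓ centralizer {e.symm a}) ≃* Spor.Fi23) := by
  have n : e.symm a ∉ H := fun q => by
    obtain ⟨g, hg⟩ := i.surjective ⟨_, q⟩
    have := k g
    rw [hg, e.apply_symm_apply] at this
    exact absurd ((sgn24_eq a ha).symm.trans (this ▸ g.2)) (by decide)
  obtain ⟨π, r⟩ := lv24.res a ha
  have c : ∀ y : ↥(H ⊓ centralizer {e.symm a}), Commute a (e y) := fun y => by simpa using (mem_cent1.1 y.2.2).map e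
  refine ⟨n, ⟨.ofBijective (MonoidHom.mk' (fun y : ↥(H ⊓ centralizer {e.symm a}) => π (e y)) fun x y => (congrArg π (map_mul e _ _)).trans (r.mul _ _ (c x) (c y)))
    ⟨(injective_iff_map_eq_one _).2 fun y q => ?_, fun m => ?_⟩⟩⟩
  · exact ((r.ker _ (c y)).1 q).elim (fun q => Subtype.ext (by simpa using q)) fun q => absurd (e.eq_symm_apply.2 q ▸ y.2.1) n
  · obtain ⟨x, p, rfl⟩ := r.sur m
    obtain ⟨g, p, q⟩ : ∃ g : L24, Commute a g ∧ π g = π x := (sgn_or sgn24 (sgn24_eq a ha) x).elim (fun k => ⟨⟨x, k⟩, p, rfl⟩)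
      fun k => ⟨⟨_, k⟩, p.mul_right (Commute.refl a), by rw [r.mul _ _ p (Commute.refl a), r.self, mul_one]⟩
    exact ⟨⟨i g, (i g).2, mem_cent1.2 (Commute.of_map e.injective (by rwa [k, e.apply_symm_apply]))⟩, (congrArg π (k g)).trans q⟩
theorem zp3 {b x : G} (o : orderOf b = 3) (h : x ∈ zpowers b) : x = 1 ∨ x = b ∨ x = b⁻¹ := by
  obtain ⟨k, rfl⟩ := h
  have e : b ^ k = b ^ (k % 3) := by simpa [o] using (zpow_mod_orderOf b k).symm
  have t : b ^ (2 : ℤ) = b⁻¹ := eq_inv_of_mul_eq_one_left (by rw [← pow_orderOf_eq_one b, o, ← zpow_add_one]; exact zpow_natCast b 3)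
  obtain q | q | q : k % 3 = 0 ∨ k % 3 = 1 ∨ k % 3 = 2 := by omega
  all_goals simp [e, q, t]
theorem cover3 [Finite G] {b k : G} (o : orderOf b = 3) {Y : Subgroup G} (hY : zpowers b = Y)
    [(Y.subgroupOf (centralizer Y)).Normal] [(Y.subgroupOf (normalizer Y)).Normal]
    (i : L24 ≃* centralizer (Y : Set G) ⧸ Y.subgroupOf _) (pf : b ∈ ⁅centralizer (Y : Set G), centralizer (Y : Set G)⁆)
    (k1 : k ∈ normalizer (Y : Set G)) (k2 : k ∉ centralizer (Y : Set G)) :
    IsQuasisimple (centralizer (Y : Set G)) ∧ Nonempty (normalizer (Y : Set G) ⧸ Y.subgroupOf _ ≃* F24) := by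
  have mc : ∀ {x}, x ∈ centralizer (Y : Set G) ↔ x * b * x⁻¹ = b := by
    rw [← hY, zpowers_eq_closure, centralizer_closure]; exact mem_Cz'
  have nb : ∀ x ∈ normalizer (Y : Set G), x ∉ centralizer (Y : Set G) → x * b * x⁻¹ = b⁻¹ := fun x a c =>
    ((zp3 o (hY.ge ((mem_normalizer_iff.1 a b).1 (hY.le (mem_zpowers b))))).resolve_left fun q => by
      rw [conj_eq_one_iff.1 q, orderOf_one] at o; cases o).resolve_left (mt mc.2 c)
  have cn := centralizer_le_normalizer (Y : Set G)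
  have cy : ∀ x ∈ centralizer (Y : Set G), ∀ y ∈ Y, Commute y x := fun x a => a
  generalize centralizer (Y : Set G) = C at *
  generalize normalizer (Y : Set G) = N at *
  let f := i.symm.toMonoidHom.comp (QuotientGroup.mk' (Y.subgroupOf C))
  have f1 : Function.Surjective f := i.symm.surjective.comp (QuotientGroup.mk'_surjective _)
  have f2 : ∀ x, f x = 1 ↔ x.1 ∈ Y := fun x => (map_eq_one_iff _ i.symm.injective).trans (QuotientGroup.eq_one_iff x)
  have p : C ≤ ⁅C, C⁆ := fun x hx => by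
    obtain ⟨y, a, c⟩ : f ⟨x, hx⟩ ∈ (commutator C).map f := by
      rw [map_commutator_eq, MonoidHom.range_eq_top.2 f1, ← commutator_def, qsL.1.1.commutator_eq_top]; trivial
    exact (mul_mem_cancel_left (inv_mem (show y.1 ∈ ⁅C, C⁆ from C.map_subtype_commutator.le ⟨y, a, rfl⟩))).1
      (hY.ge.trans (zpowers_le.2 pf) ((f2 (y⁻¹ * ⟨x, hx⟩)).1 (by simp [c])))
  have := ker24_simple
  refine ⟨⟨isPerfect_iff.2 (le_antisymm (commutator_le.2 fun x a y c => mul_mem (mul_mem (mul_mem a c) (inv_mem a)) (inv_mem c)) p),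
    ((QuotientGroup.quotientMulEquivOfEq (center_of_hom f f1 qsL.2 fun x a => mem_center_iff.2 fun y =>
      Subtype.ext (cy y y.2 x ((f2 x).1 a)).symm)).trans (QuotientGroup.quotientKerEquivOfSurjective f f1)).isSimpleGroup⟩, ?_⟩
  let π := QuotientGroup.mk' (Y.subgroupOf N)
  have π1 : Function.Surjective π := QuotientGroup.mk'_surjective _
  obtain ⟨_, ⟨j⟩⟩ := quot_equiv_of (C := Y) ((π.comp (inclusion cn)).codRestrict ((C.subgroupOf N).map π) fun x => ⟨_, x.2, rfl⟩)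
    (fun ⟨_, y, a, rfl⟩ => ⟨⟨y, a⟩, rfl⟩) fun x => Subtype.ext_iff.trans (QuotientGroup.eq_one_iff _)
  refine (ext_iso ?_ (i.trans j) fun c hc => ?_).nonempty
  · rw [index_map_eq _ π1 fun x a => mc.2 (conj_eq_iff_commute.2 ((hY.ge.trans (zpowers_le.2 (mem_cent1.2 (Commute.refl b)))
      ((QuotientGroup.eq_one_iff x).1 a)) |> mem_cent1.1).symm)]
    refine index_eq_two_iff.2 ⟨⟨k, k1⟩, fun x => ?_⟩
    have e : x.1 * k ∈ C ↔ x * b⁻¹ * x.1⁻¹ = b := by rw [mc, ← nb k k1 k2]; simp [mul_assoc]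
    by_cases q : x.1 ∈ C
    · exact .inr ⟨q, fun a => k2 ((mul_mem_cancel_left q).1 a)⟩
    · exact .inl ⟨e.2 (by rw [← conj_inv, nb x x.2 q, inv_inv]), q⟩
  · obtain ⟨n, rfl⟩ := π1 c
    have u : ∀ x ∈ C, ∃ u ∈ Y, n * x * n.1⁻¹ = u * x := fun x a => ⟨_, (QuotientGroup.eq_one_iff (n * ⟨x, cn a⟩ * n⁻¹ * ⟨x, cn a⟩⁻¹)).1
      (show π _ = 1 by simp only [map_mul, map_inv]; rw [← mem_center_iff.1 hc]; simp), by simp⟩
    refine ⟨n, mc.2 (conj_eq_iff_commute.2 (mem_cent1.1 (commutator_le.2 (fun x a y c => ?_) pf))), rfl⟩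
    obtain ⟨v, v1, v2⟩ := u x a
    obtain ⟨w, w1, w2⟩ := u y c
    refine mem_cent1.2 (conj_eq_iff_commute.1 ?_)
    have := hY.ge.trans (zpowers_le.2 (mc.2 (mul_inv_cancel_right b b))) w1
    rw [conjugate_commutatorElement, coe_subtype, v2, w2, commutatorElement_def, commutatorElement_def,
      show v * x * (w * y) * (v * x)⁻¹ = v * (x * w * x⁻¹ * (x * y * x⁻¹)) * v⁻¹ by group, conj_eq_iff_commute.2 (cy x a w w1).symm,
      conj_eq_iff_commute.2 (cy _ (mul_mem this (mul_mem (mul_mem a c) (inv_mem a))) v v1), mul_inv_rev, mul_assoc w, ← mul_assoc _ y⁻¹, ← mul_assoc,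
      conj_eq_iff_commute.2 (cy _ (mul_mem (mul_mem (mul_mem a c) (inv_mem a)) (inv_mem c)) w w1)]
end
end H1.Lf
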