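import Cfsg.Agent.H7.AutAlt

open Subgroup Equiv

namespace H1.Inv1

theorem ctype {σ : Perm (Fin 11)} (h2 : σ * σ = 1) (h1 : σ ≠ 1) (hs : Perm.sign σ = 1) :
    σ.cycleType = Multiset.replicate 2 2 ∨ σ.cycleType = Multiset.replicate 4 2 := by
  have ho : orderOf σ = 2 := orderOf_eq_prime (by rw [pow_two, h2]) h1
  obtain ⟨n, hn⟩ := Perm.cycleType_prime_order (σ := σ) (by rw [ho]; exact Nat.prime_two)
  rw [ho] at hn
  have h3 := Perm.sum_cycleType σ
  have h4 : σ.support.card ≤ 11 := by simpa using Finset.card_le_univ σ.support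
  have h5 := Perm.sign_of_cycleType σ
  rw [hn, Multiset.sum_replicate, smul_eq_mul] at h3
  rw [hn, Multiset.sum_replicate, smul_eq_mul, Multiset.card_replicate, hs] at h5
  have h6 : n ≤ 4 := by omega
  interval_cases n
  · exact absurd h5 (by decide)
  · exact Or.inl hn
  · exact absurd h5 (by decide)
  · exact Or.inr hn
  · exact absurd h5 (by decide)

theorem econj {σ τ : Perm (Fin 11)} (h2 : σ * σ = 1) (h1 : σ ≠ 1) (hs : Perm.sign σ = 1)
    (ht : Perm.sign τ = 1) (h : σ.cycleType = τ.cycleType) :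
    ∃ p : Perm (Fin 11), Perm.sign p = 1 ∧ p * σ * p⁻¹ = τ := by
  have h3 := Perm.sum_cycleType σ
  have h4 : σ.support.card + 2 ≤ Fintype.card (Fin 11) := by
    rcases ctype h2 h1 hs with e | e <;> rw [e] at h3 <;> simp at h3 ⊢ <;> omega
  have := alternatingGroup.isConj_of (σ := ⟨σ, Perm.mem_alternatingGroup.2 hs⟩)
    (τ := ⟨τ, Perm.mem_alternatingGroup.2 ht⟩) (Perm.isConj_of_cycleType_eq h) h4
  obtain ⟨p, hp⟩ := isConj_iff.1 this
  exact ⟨p.1, Perm.mem_alternatingGroup.1 p.2, congrArg Subtype.val hp⟩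

theorem fix {G : Type*} [Group G] [Finite G] (C : Subgroup G) (hodd : ¬ 2 ∣ C.index) (z : G)
    (hz : orderOf z = 2) : ∃ g : G, g⁻¹ * z * g ∈ C := by
  haveI : Fact (Nat.Prime 2) := ⟨Nat.prime_two⟩
  have hp : IsPGroup 2 (zpowers z) := IsPGroup.of_card (n := 1) (by rw [Nat.card_zpowers, hz]; rfl)
  obtain ⟨q, hq⟩ := hp.nonempty_fixed_point_of_prime_not_dvd_card (G ⧸ C) hodd
  obtain ⟨g, rfl⟩ := QuotientGroup.mk_surjective q
  have h := hq ⟨z, mem_zpowers z⟩
  have h' : ((z * g : G) : G ⧸ C) = (g : G ⧸ C) := h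
  refine ⟨g, ?_⟩
  have := QuotientGroup.eq.1 h'.symm
  rwa [← mul_assoc] at this

theorem inv1 {G : Type*} [Group G] [Finite G] {t s w : G} (ht : orderOf t = 2) (π : G → Perm (Fin 11))
    (hm : ∀ a b, Commute a t → Commute b t → π (a * b) = π a * π b)
    (hk : ∀ c, Commute c t → (π c = 1 ↔ c = 1 ∨ c = t))
    (hr : ∀ p, Perm.sign p = 1 ↔ ∃ c, Commute c t ∧ π c = p)
    (hodd : ¬ 2 ∣ (centralizer ({t} : Set G)).index) (hw : w * w = t) (hs : Commute s t) (s1 : s ≠ t)
    (h1 : IsConj t s) (h2 : IsConj t (t * s)) (z : G) (hz : orderOf z = 2) : IsConj t z := by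
  have t1 : t ≠ 1 := by rintro rfl; simp at ht
  have tt : t * t = 1 := by rw [← pow_two, ← ht, pow_orderOf_eq_one]
  have p1 : π 1 = 1 := (hk 1 (Commute.one_left t)).2 (Or.inl rfl)
  have pt : π t = 1 := (hk t (Commute.refl t)).2 (Or.inr rfl)
  have pinv : ∀ c, Commute c t → π c⁻¹ = (π c)⁻¹ := fun c hc => by
    rw [eq_inv_iff_mul_eq_one, ← hm _ _ hc.inv_left hc, inv_mul_cancel, p1]
  have sg : ∀ c, Commute c t → Perm.sign (π c) = 1 := fun c hc => (hr _).2 ⟨c, hc, rfl⟩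
  have key : ∀ a b, Commute a t → Commute b t → π a * π a = 1 → π a ≠ 1 →
      (π a).cycleType = (π b).cycleType →
      ∃ c, Commute c t ∧ (b = c * a * c⁻¹ ∨ b = c * (t * a) * c⁻¹) := by
    intro a b ha hb a2 a1 e
    obtain ⟨p, hp, hp'⟩ := econj a2 a1 (sg a ha) (sg b hb) e
    obtain ⟨c, hc, rfl⟩ := (hr p).1 hp
    have hx : Commute (c * a * c⁻¹) t := (hc.mul_left ha).mul_left hc.inv_left
    have e1 : π (c * a * c⁻¹) = π b := by
      rw [hm _ _ (hc.mul_left ha) hc.inv_left, hm _ _ hc ha, pinv c hc, hp']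
    have e2 : π (b * (c * a * c⁻¹)⁻¹) = 1 := by
      rw [hm _ _ hb hx.inv_left, pinv _ hx, e1, mul_inv_cancel]
    refine ⟨c, hc, ?_⟩
    rcases (hk _ (hb.mul_left hx.inv_left)).1 e2 with h | h
    · exact Or.inl (mul_inv_eq_one.1 h)
    · right
      rw [mul_inv_eq_iff_eq_mul.1 h, ← mul_assoc c t a, hc.eq]
      simp only [mul_assoc]
  have hwt : Commute w t := hw ▸ (Commute.refl w).mul_right (Commute.refl w)
  have w2 : π w * π w = 1 := by rw [← hm _ _ hwt hwt, hw, pt]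
  have w1 : π w ≠ 1 := by
    intro h
    rcases (hk w hwt).1 h with rfl | rfl
    · exact t1 (by simpa using hw.symm)
    · exact t1 (by simpa using hw)
  have inv : ∀ a, Commute a t → a * a = 1 → a ≠ 1 → a ≠ t →
      π a * π a = 1 ∧ π a ≠ 1 ∧ (π a).cycleType ≠ (π w).cycleType := by
    intro a ha a2 a1 a3
    have b2 : π a * π a = 1 := by rw [← hm _ _ ha ha, a2, p1]
    have b1 : π a ≠ 1 := fun h => ((hk a ha).1 h).elim a1 a3
    refine ⟨b2, b1, fun e => ?_⟩
    obtain ⟨c, -, h | h⟩ := key a w ha hwt b2 b1 e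
    · apply t1
      rw [← hw, h]
      calc c * a * c⁻¹ * (c * a * c⁻¹) = c * (a * a) * c⁻¹ := by group
        _ = 1 := by rw [a2]; group
    · apply t1
      have : t * a * (t * a) = 1 := by
        calc t * a * (t * a) = t * (a * t) * a := by group
          _ = (t * t) * (a * a) := by rw [ha.eq]; group
          _ = 1 := by rw [tt, a2, mul_one]
      rw [← hw, h]
      calc c * (t * a) * c⁻¹ * (c * (t * a) * c⁻¹) = c * (t * a * (t * a)) * c⁻¹ := by group
        _ = 1 := by rw [this]; group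
  obtain ⟨g, hg⟩ := fix _ hodd z hz
  have hy : Commute (g⁻¹ * z * g) t := ((mem_centralizer_iff.1 hg) t rfl).symm
  have zz : z * z = 1 := by rw [← pow_two, ← hz, pow_orderOf_eq_one]
  have z1 : z ≠ 1 := by rintro rfl; simp at hz
  have cz : IsConj (g⁻¹ * z * g) z := isConj_iff.2 ⟨g, by group⟩
  refine IsConj.trans ?_ cz
  generalize hyy : g⁻¹ * z * g = y at hy
  have y2 : y * y = 1 := by
    rw [← hyy]
    calc g⁻¹ * z * g * (g⁻¹ * z * g) = g⁻¹ * (z * z) * g := by group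
      _ = 1 := by rw [zz]; group
  have y1 : y ≠ 1 := by
    rintro rfl
    apply z1
    calc z = g * (g⁻¹ * z * g) * g⁻¹ := by group
      _ = 1 := by rw [hyy]; group
  by_cases yt : y = t
  · rw [yt]
  obtain ⟨k, hk'⟩ := isConj_iff.1 h1
  have s2 : s * s = 1 := by
    rw [← hk']
    calc k * t * k⁻¹ * (k * t * k⁻¹) = k * (t * t) * k⁻¹ := by group
      _ = 1 := by rw [tt]; group
  have s0 : s ≠ 1 := by
    rintro rfl
    apply t1
    calc t = k⁻¹ * (k * t * k⁻¹) * k := by group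
      _ = 1 := by rw [hk']; group
  obtain ⟨a2, a1, a3⟩ := inv s hs s2 s0 s1
  obtain ⟨b2, b1, b3⟩ := inv y hy y2 y1 yt
  have e : (π s).cycleType = (π y).cycleType := by
    rcases ctype a2 a1 (sg _ hs) with e1 | e1 <;> rcases ctype b2 b1 (sg _ hy) with e2 | e2 <;>
      rcases ctype w2 w1 (sg _ hwt) with e3 | e3 <;>
      first
        | exact e1.trans e2.symm
        | exact absurd (e1.trans e3.symm) a3
        | exact absurd (e2.trans e3.symm) b3
  obtain ⟨c, -, h | h⟩ := key s y hs hy a2 a1 e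
  · exact h1.trans (isConj_iff.2 ⟨c, h.symm⟩)
  · exact h2.trans (isConj_iff.2 ⟨c, h.symm⟩)

end H1.Inv1
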