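import Cfsg.Agent.H1.CN1
import Cfsg.Agent.H8.Count
import Cfsg.Agent.H7.Kegel

/-! Numbers of elements of given order. -/

set_option autoImplicit false
set_option linter.unusedSectionVars false

namespace H1.Ord
open Subgroup Cfsg H10 Finset

theorem sd_mul {p m : ℕ} (hp : p.Prime) (h : ¬ p ∣ m) (f : ℕ → ℕ) :
    ∑ d ∈ (m * p).divisors, f d = ∑ d ∈ m.divisors, (f d + f (d * p)) := by
  have hm : m ≠ 0 := by rintro rfl; exact h (dvd_zero p)
  have : (m * p).divisors = m.divisors ∪ m.divisors.map ⟨(· * p), mul_left_injective₀ hp.ne_zero⟩ := by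
    ext d
    simp only [Nat.mem_divisors, mem_union, Finset.mem_map, Function.Embedding.coeFn_mk]
    constructor
    · rintro ⟨h1, -⟩
      by_cases hd : p ∣ d
      · obtain ⟨e, rfl⟩ := hd
        rw [mul_comm p] at h1
        exact Or.inr ⟨e, ⟨Nat.dvd_of_mul_dvd_mul_right hp.pos h1, hm⟩, mul_comm _ _⟩
      · exact Or.inl ⟨((hp.coprime_iff_not_dvd.2 hd).symm).dvd_of_dvd_mul_right h1, hm⟩
    · rintro (⟨h1, -⟩ | ⟨e, ⟨h1, -⟩, rfl⟩)
      · exact ⟨h1.mul_right p, mul_ne_zero hm hp.ne_zero⟩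
      · exact ⟨Nat.mul_dvd_mul_right h1 p, mul_ne_zero hm hp.ne_zero⟩
  rw [this, sum_union, sum_map, sum_add_distrib]
  · rfl
  · rw [Finset.disjoint_left]
    intro d h1 h2
    obtain ⟨e, -, rfl⟩ := Finset.mem_map.1 h2
    exact h ((Dvd.intro_left e rfl).trans (Nat.dvd_of_mem_divisors h1))

variable (G : Type*) [Group G] [Finite G]

noncomputable def s (m : ℕ) : ℕ := Nat.card {g : G // orderOf g = m}

theorem sum_s {n : ℕ} (hn : n ≠ 0) : Nat.card {g : G // g ^ n = 1} = ∑ d ∈ n.divisors, s G d := by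
  classical
  haveI := Fintype.ofFinite G
  rw [Nat.card_eq_fintype_card, Fintype.card_subtype,
    card_eq_sum_card_fiberwise (f := orderOf) (t := n.divisors) (fun g hg => by
      simpa [hn, orderOf_dvd_iff_pow_eq_one] using hg)]
  refine sum_congr rfl fun d hd => ?_
  rw [s, Nat.card_eq_fintype_card, Fintype.card_subtype]
  congr 1
  ext g
  simp only [mem_filter, mem_univ, true_and, and_iff_right_iff_imp]
  rintro rfl
  exact orderOf_dvd_iff_pow_eq_one.1 (Nat.dvd_of_mem_divisors hd)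

theorem s_one : s G 1 = 1 := by
  simp only [s, orderOf_eq_one_iff]
  exact Nat.card_unique

theorem tot (m : ℕ) : m.totient ∣ s G m :=
  H8.dvd_ncard_of_totient {g : G | orderOf g = m}
    (fun _ hx _ h => (H8.orderOf_eq_of_zpowers_eq h).trans hx) _ (fun _ hx => hx ▸ dvd_rfl)

variable {G}

theorem frob {n : ℕ} (h : n ∣ Nat.card G) : n ∣ ∑ d ∈ n.divisors, s G d := by
  rw [← sum_s G (ne_zero_of_dvd_ne_zero Nat.card_pos.ne' h)]; exact H8.frobenius_dvd h

theorem frobZ {n p : ℕ} (h : n ∣ Nat.card G) (hp : p ∣ n) :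
    ((∑ d ∈ n.divisors, s G d : ℕ) : ZMod p) = 0 :=
  (ZMod.natCast_eq_zero_iff _ _).2 (hp.trans (frob h))

theorem s_ne {m : ℕ} : s G m ≠ 0 ↔ ∃ g : G, orderOf g = m := by
  rw [s, Nat.card_ne_zero, nonempty_subtype]
  exact and_iff_left inferInstance

theorem s_pos {p : ℕ} (hp : p.Prime) (h : p ∣ Nat.card G) : s G p ≠ 0 :=
  haveI : Fact p.Prime := ⟨hp⟩; s_ne.2 (exists_prime_orderOf_dvd_card' p h)

theorem s_dvd {m d : ℕ} (h : s G m ≠ 0) (hd : d ∣ m) : s G d ≠ 0 := by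
  obtain ⟨g, rfl⟩ := s_ne.1 h
  exact s_ne.2 ⟨_, orderOf_pow_orderOf_div (orderOf_pos g).ne' hd⟩

theorem s_card {m : ℕ} (h : s G m ≠ 0) : m ∣ Nat.card G := by
  obtain ⟨g, rfl⟩ := s_ne.1 h; exact orderOf_dvd_natCard g

theorem s_even {m : ℕ} (h : 2 < m) : 2 ∣ s G m := (Nat.totient_even h).two_dvd.trans (tot G m)

theorem s_ne_one {m : ℕ} (h : 2 < m) : s G m ≠ 1 := fun e => by
  have := s_even (G := G) h; omega

theorem fp {p : ℕ} (hp : p.Prime) (h : p ∣ Nat.card G) : (s G p : ZMod p) = -1 := by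
  have := frobZ h dvd_rfl
  rw [hp.sum_divisors, s_one] at this
  push_cast at this
  linear_combination this

theorem fpq {p q r : ℕ} (hp : p.Prime) (hq : q.Prime) (hne : p ≠ q) (h1 : p ∣ Nat.card G)
    (h2 : q ∣ Nat.card G) (hr : r ∣ p * q) : (1 + s G p + s G q + s G (p * q) : ZMod r) = 0 := by
  have := frobZ (((Nat.coprime_primes hp hq).2 hne).mul_dvd_of_dvd_of_dvd h1 h2) hr
  rw [sd_mul hq (fun e => hne ((Nat.prime_dvd_prime_iff_eq hq hp).1 e).symm), hp.sum_divisors,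
    one_mul, s_one] at this
  push_cast at this
  linear_combination this

theorem no1 {p : ℕ} (hp : p.Prime) (h : (1 : ZMod p) = 0) : False :=
  haveI : Fact p.Prime := ⟨hp⟩; one_ne_zero h

theorem no2 {p : ℕ} (hp : p.Prime) (h2 : p ≠ 2) (h : (2 : ZMod p) = 0) : False :=
  h2 ((Nat.prime_dvd_prime_iff_eq hp Nat.prime_two).1 ((ZMod.natCast_eq_zero_iff 2 p).1 h))

theorem s2_odd (h : 2 ∣ Nat.card G) : Odd (s G 2) := by
  have := frob h
  rw [Nat.prime_two.sum_divisors, s_one] at this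
  exact Nat.odd_iff.2 (by omega)

theorem s4_mod (h : 4 ∣ Nat.card G) (h2 : s G 2 = 1) : s G 4 % 4 = 2 := by
  have := frob h
  rw [show Nat.divisors 4 = {1, 2, 4} from rfl, sum_insert (by decide), sum_pair (by decide),
    s_one, h2] at this
  omega

theorem uniq (h2 : s G 2 = 1) {x y : G} (hx : orderOf x = 2) (hy : orderOf y = 2) : x = y :=
  congrArg Subtype.val ((Nat.card_eq_one_iff_unique.1 h2).1.elim
    (⟨x, hx⟩ : {g : G // orderOf g = 2}) ⟨y, hy⟩)

theorem exists_z (h2 : s G 2 = 1) : ∃ z : G, orderOf z = 2 ∧ ∀ g, Commute g z := by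
  obtain ⟨z, hz⟩ := (s_ne (G := G) (m := 2)).1 (by omega)
  refine ⟨z, hz, fun g => ?_⟩
  have := uniq h2 (((MulAut.conj g).orderOf_eq z).trans hz) hz
  exact mul_inv_eq_iff_eq_mul.1 this

theorem s_two_mul (h2 : s G 2 = 1) {m : ℕ} (hm : Odd m) : s G (2 * m) = s G m := by
  obtain ⟨z, hz, hc⟩ := exists_z h2
  have zz : z * z = 1 := by rw [← sq, ← hz, pow_orderOf_eq_one]
  have h1 : ∀ g : G, Odd (orderOf g) → orderOf (g * z) = 2 * orderOf g := fun g hg => by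
    rw [(hc g).orderOf_mul_eq_mul_orderOf_of_coprime (by rw [hz]; exact Nat.coprime_two_right.2 hg),
      hz, mul_comm]
  refine Nat.card_congr ((Equiv.mulRight z).subtypeEquiv fun g => ⟨fun hg => ?_, fun hg => ?_⟩)
  · have e : g ^ m = z := uniq h2 (by
      rw [orderOf_pow' _ hm.pos.ne', hg, Nat.gcd_mul_left_left, Nat.mul_div_cancel _ hm.pos]) hz
    have e2 : (g * z) ^ m = 1 := by
      obtain ⟨k, rfl⟩ := hm
      rw [(hc g).mul_pow, e, pow_succ, pow_mul, sq, zz, one_pow, one_mul, zz]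
    have := h1 _ (hm.of_dvd_nat (orderOf_dvd_of_pow_eq_one e2))
    rw [mul_assoc, zz, mul_one, hg] at this
    show orderOf (g * z) = m
    omega
  · have hg : orderOf (g * z) = m := hg
    have := h1 _ (hg ▸ hm)
    rwa [mul_assoc, zz, mul_one, hg] at this

theorem four_tot {p : ℕ} (hp : p.Prime) (h2 : p ≠ 2) {m : ℕ} (hm : 2 < m) (h : ¬ p ∣ m) :
    4 ∣ s G (m * p) := by
  refine Dvd.dvd.trans ?_ (tot G _)
  rw [Nat.totient_mul (hp.coprime_iff_not_dvd.2 h).symm]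
  exact Nat.mul_dvd_mul (Nat.totient_even hm).two_dvd
    (Nat.totient_even (lt_of_le_of_ne hp.two_le (Ne.symm h2))).two_dvd

theorem ndvd4 {p : ℕ} (hp : p.Prime) (h2 : p ≠ 2) : ¬ p ∣ 4 := fun h =>
  h2 ((Nat.prime_dvd_prime_iff_eq hp Nat.prime_two).1 (hp.dvd_of_dvd_pow (n := 2) h))

theorem f4p (h : 4 ∣ Nat.card G) (h2 : s G 2 = 1) {p : ℕ} (hp : p.Prime) (hp2 : p ≠ 2)
    (h1 : p ∣ Nat.card G) : (s G 4 + s G (4 * p) : ZMod p) = 0 := by
  have := frobZ ((hp.coprime_iff_not_dvd.2 (ndvd4 hp hp2)).symm.mul_dvd_of_dvd_of_dvd h h1)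
    (dvd_mul_left p 4)
  rw [sd_mul hp (ndvd4 hp hp2), show Nat.divisors 4 = {1, 2, 4} from rfl, sum_insert (by decide),
    sum_pair (by decide), s_one, h2, one_mul, s_two_mul h2 (hp.odd_of_ne_two hp2)] at this
  push_cast at this
  linear_combination this - 2 * fp hp h1

theorem sq_dvd {p : ℕ} (hp : p.Prime) (m : ℕ) : p ∣ s G (p ^ 2 * m) := by
  refine Dvd.dvd.trans ?_ (tot G _)
  refine Dvd.dvd.trans ?_ (Nat.totient_dvd_of_dvd (dvd_mul_right _ m))
  rw [Nat.totient_prime_pow hp two_pos]; simp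

/-- At most one odd prime when all orders above two have the same count. -/
theorem one_odd {c p q : ℕ} (hp : p.Prime) (hq : q.Prime) (hp2 : p ≠ 2) (h1 : p ∣ Nat.card G)
    (h2 : q ∣ Nat.card G) (e1 : s G p = c) (e2 : s G q = c) (e3 : s G (p * q) = 0 ∨ s G (p * q) = c) :
    p = q := by
  by_contra hne
  have a1 := fp hp h1
  have a2 := fpq hp hq hne h1 h2 (dvd_mul_right p q)
  rw [e1] at a1
  rw [e1, e2] at a2
  rcases e3 with e | e <;> rw [e] at a2
  · exact no1 hp (by push_cast at a2; linear_combination 2 * a1 - a2)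
  · exact no2 hp hp2 (by linear_combination 3 * a1 - a2)

theorem pg_of {p : ℕ} (hp : p.Prime) (h : ∀ q : ℕ, q.Prime → q ∣ Nat.card G → q = p) : IsPGroup p G :=
  haveI : Fact p.Prime := ⟨hp⟩
  IsPGroup.iff_card.2 ⟨_, Nat.eq_prime_pow_of_unique_prime_dvd Nat.card_pos.ne' fun hq hd => h _ hq hd⟩

theorem pow_p {p : ℕ} (hp : p.Prime) (h : s G (p ^ 2) = 0) {x : G} {k : ℕ} (hx : orderOf x = p ^ k) :
    x ^ p = 1 := by
  rw [← orderOf_dvd_iff_pow_eq_one, hx]
  rcases k with _ | _ | k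
  · simp
  · simp
  · exact absurd h (s_dvd (s_ne.2 ⟨x, hx⟩) (pow_dvd_pow p (by omega)))

theorem exp_p {p : ℕ} (hp : p.Prime) (h : s G (p ^ 2) = 0) {P : Subgroup G} (hP : IsPGroup p P)
    (h0 : P ≠ ⊥) : Monoid.exponent P = p := by
  haveI : Fact p.Prime := ⟨hp⟩
  haveI := P.nontrivial_iff_ne_bot.2 h0
  refine (Monoid.exponent_eq_prime_iff hp).2 fun g hg => orderOf_eq_prime (Subtype.ext ?_) hg
  obtain ⟨k, hk⟩ := orderOf_eq_pow_of_mem hP g.2
  exact pow_p hp h hk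

/-! ### Groups without elements of order `p q` -/

def Epp (G : Type*) [Group G] : Prop := ∀ p q : ℕ, p.Prime → q.Prime → p ≠ q → s G (p * q) = 0

theorem Epp.eq (h : Epp G) {p q : ℕ} (hp : p.Prime) (hq : q.Prime) {x y : G} (hx : p ∣ orderOf x)
    (hy : q ∣ orderOf y) (hc : Commute x y) : p = q := by
  by_contra hne
  have h1 := orderOf_pow_orderOf_div (orderOf_pos x).ne' hx
  have h2 := orderOf_pow_orderOf_div (orderOf_pos y).ne' hy
  refine s_ne.2 ⟨x ^ (orderOf x / p) * y ^ (orderOf y / q), ?_⟩ (h p q hp hq hne)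
  rw [(hc.pow_pow _ _).orderOf_mul_eq_mul_orderOf_of_coprime
    (by rw [h1, h2]; exact (Nat.coprime_primes hp hq).2 hne), h1, h2]

theorem Epp.cn (h : Epp G) : IsCNGroup G := fun g g1 => by
  obtain ⟨p, hp, hd⟩ := Nat.exists_prime_and_dvd (mt orderOf_eq_one_iff.1 g1)
  haveI : Fact p.Prime := ⟨hp⟩
  refine (pg_of hp fun q hq hd' => ?_).isNilpotent
  haveI : Fact q.Prime := ⟨hq⟩
  obtain ⟨x, hx, ho⟩ := exists_orderOf_eq_of_dvd hd'
  exact h.eq hq hp ho.symm.dvd hd (CN.mC.1 hx)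

theorem Epp.nn (h : Epp G) {p q : ℕ} (hp : p.Prime) (hq : q.Prime) (hne : p ≠ q)
    (h1 : p ∣ Nat.card G) (h2 : q ∣ Nat.card G) : ¬ Group.IsNilpotent G := fun _ => by
  obtain ⟨x, hx⟩ := s_ne.1 (s_pos hp h1)
  obtain ⟨y, hy⟩ := s_ne.1 (s_pos hq h2)
  exact hne (h.eq hp hq hx.symm.dvd hy.symm.dvd (commute_of_coprime_orderOf
    (by rw [hx, hy]; exact (Nat.coprime_primes hp hq).2 hne)))

theorem Epp.not_three (h : Epp G) {r : ℕ} (hr : r.Prime) (h2 : s G (r ^ 2) = 0) :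
    ¬ IsThreeStepGroup r G := by
  rintro ⟨h0, A, hA0, -, -, hc, hn, ht, ⟨n, hi⟩, hf, -⟩
  haveI : Fact r.Prime := ⟨hr⟩
  have hK := H7.kegel hr _ ht fun x hx => by
    have h1 : r ∣ orderOf x := by
      by_contra hd
      have h3 : x ^ r ^ n ∈ pCore r G ⊔ A := hi ▸ pow_index_mem _ x
      exact hx (zpowers_le.2 h3 (mem_zpowers_pow_iff.2 ((hr.coprime_iff_not_dvd.2 hd).pow_left n)))
    exact pow_p hr h2 (Nat.eq_prime_pow_of_unique_prime_dvd (orderOf_pos x).ne' fun hq hd =>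
      h.eq hq hr hd h1 (Commute.refl x))
  obtain ⟨k, hk⟩ := IsPGroup.iff_card.1 (isPGroup_pCore' (p := r) (G := G))
  have := le_centralizer_of_coprime_of_isNilpotent hK le_sup_left le_sup_right
    (by rw [hk]; exact hc.symm.pow_left k)
  obtain ⟨⟨a, ha⟩, h1⟩ := ne_bot_iff_exists_ne_one.1 hA0
  exact h0 (eq_bot_iff.2 ((le_inf le_rfl (this.trans
    (centralizer_le (Set.singleton_subset_iff.2 ha)))).trans (hf a ha fun e => h1 (Subtype.ext e)).le))

theorem three_vals (h : (((fun m : ℕ => Nat.card {g : G // orderOf g = m}) ''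
    Set.range (orderOf : G → ℕ))).ncard = 3) :
    ∃ a b : ℕ, ∀ m, s G m = 0 ∨ s G m = 1 ∨ s G m = a ∨ s G m = b := by
  obtain ⟨x, y, z, -, -, -, e⟩ := Set.ncard_eq_three.1 h
  have h1 : ∀ m, s G m ≠ 0 → s G m = x ∨ s G m = y ∨ s G m = z := fun m hm =>
    e.le ⟨m, s_ne.1 hm, rfl⟩
  have h2 := h1 1 (by rw [s_one]; omega)
  rw [s_one] at h2
  rcases h2 with rfl | rfl | rfl
  · exact ⟨y, z, fun m => by have := h1 m; tauto⟩
  · exact ⟨x, z, fun m => by have := h1 m; tauto⟩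
  · exact ⟨x, y, fun m => by have := h1 m; tauto⟩

end H1.Ord
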