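import Cfsg.Agent.H1.Ord1
import Cfsg.Agent.H1.Hig2
import Cfsg.Agent.H17.Central
import Cfsg.Agent.H6.Dihedral
import Cfsg.Agent.H10.S34
import Cfsg.Agent.S3779

/-! Groups whose elements have order at most four. -/

set_option autoImplicit false
set_option linter.unusedSectionVars false

namespace H1.Ord
open Subgroup Cfsg H10 H1.Hig
open scoped commutatorElement

variable {G : Type*} [Group G] [Finite G]

theorem lcs {K : Subgroup G} [K.Normal] (hK : K ≠ ⊥) {x : G} {p : ℕ} (hp : p.Prime) (hx : x ^ p = 1)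
    (hf : K ⊓ centralizer {x} = ⊥) : (p = 2 → IsMulCommutative K) ∧
    (p = 3 → (⊤ : Subgroup K).lowerCentralSeries 2 = ⊥) := by
  haveI : Fact p.Prime := ⟨hp⟩
  have h1 : ∀ g : K, MulAut.conjNormal x g = g → g = 1 := fun g e => Subtype.ext (mem_bot.1 (hf.le
    ⟨g.2, mem_centralizer_singleton_iff.2 (mul_inv_eq_iff_eq_mul.1 (congrArg Subtype.val e)).symm⟩))
  have h2 : orderOf (MulAut.conjNormal x : MulAut K) = p := by
    refine orderOf_eq_prime (by rw [← map_pow, hx, map_one]) fun e => hK (eq_bot_iff.2 fun g hg => ?_)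
    exact congrArg Subtype.val (h1 ⟨g, hg⟩ (by rw [e]; rfl))
  obtain ⟨a, b, -⟩ := Cfsg.Agent.S3779.result hp _ h2 h1
  refine ⟨fun e => ⟨⟨fun u v => ?_⟩⟩, b⟩
  exact commutatorElement_eq_one_iff_mul_comm.1
    (mem_bot.1 ((a e).le (commutator_mem_commutator (mem_top u) (mem_top v))))

theorem ea_of_s3 {H : Subgroup G} [hH : H.Normal] {y t : G} (hc : H ≤ CC((⁅H, H⁆ : Subgroup G)))
    (hy : P3 H y) (y3 : y * y * y = 1) (tt : t * t = 1) (ty : t * y * t⁻¹ = y⁻¹)
    (h4 : ∀ h ∈ H, h ^ 4 = 1) (ht : ∀ h ∈ H, (h * t) ^ 4 = 1) : IsElementaryAbelian 2 H := by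
  have m := hH.conj_mem
  have hz : ∀ {a b g : G}, a ∈ H → b ∈ H → g ∈ H → ⁅a, b⁆ * g = g * ⁅a, b⁆ := fun ha hb hg =>
    mem_CC.1 (hc hg) _ (commutator_mem_commutator ha hb)
  have hsq : ∀ {a b : G}, a ∈ H → b ∈ H → (a * b) ^ 2 = a ^ 2 * b ^ 2 * ⁅a⁻¹, b⁆ := by
    intro a b ha hb
    rw [mul_assoc, ← hz (inv_mem ha) hb (pow_mem hb 2), commutatorElement_def, sq, sq, sq]; group
  have c4 : ∀ {a b : G}, a ∈ H → b ∈ H → ⁅a ^ 2, b ^ 2⁆ = 1 := by
    intro a b ha hb
    rw [sq a, bl hc ha ha (pow_mem hb 2), sq b, br hc hb hb ha, ← sq, ← sq, ← pow_mul]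
    exact h4 _ (comm_le_of_le le_rfl le_rfl (commutator_mem_commutator ha hb))
  have c2 : ∀ {a b : G}, a ∈ H → b ∈ H → ⁅a, b⁆ ^ 2 = 1 := by
    intro a b ha hb
    have e := h4 _ (mul_mem (inv_mem ha) hb)
    have ha' := inv_mem ha
    rw [show 4 = 2 * 2 from rfl, pow_mul, hsq ha' hb, inv_inv,
      (show Commute _ _ from (hz ha hb (mul_mem (pow_mem ha' 2) (pow_mem hb 2))).symm).mul_pow,
      (show Commute _ _ from commutatorElement_eq_one_iff_mul_comm.1 (c4 ha' hb)).mul_pow,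
      ← pow_mul, ← pow_mul, h4 _ ha', h4 _ hb] at e
    simpa using e
  let Z : Subgroup G :=
    { carrier := {z | z ∈ H ⊓ CC(H) ∧ z ^ 2 = 1}
      one_mem' := ⟨one_mem _, one_pow _⟩
      mul_mem' := fun {a b} ha hb => ⟨mul_mem ha.1 hb.1, by
        rw [(show Commute a b from mem_CC.1 hb.1.2 a ha.1.1).mul_pow, ha.2, hb.2, one_mul]⟩
      inv_mem' := fun {a} ha => ⟨inv_mem ha.1, by rw [inv_pow, ha.2, inv_one]⟩ }
  haveI hZ : Z.Normal := ⟨fun a ha g => ⟨(inferInstance : (H ⊓ CC(H)).Normal).conj_mem a ha.1 g, by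
    rw [conj_pow, ha.2]; simp⟩⟩
  let f := QuotientGroup.mk' Z
  have f1 : ∀ {a b : G}, a ∈ H → b ∈ H → f a * f b = f b * f a := fun {a b} ha hb => by
    rw [← commutatorElement_eq_one_iff_mul_comm, ← map_commutatorElement]
    exact (QuotientGroup.eq_one_iff _).2 ⟨⟨comm_le_of_le le_rfl le_rfl (commutator_mem_commutator ha hb),
      mem_CC.2 fun g hg => (hz ha hb hg).symm⟩, c2 ha hb⟩
  have f2 : ∀ {a : G}, a ∈ H → f a * f a = 1 := fun {a} ha => by
    rw [← map_mul]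
    refine (QuotientGroup.eq_one_iff _).2 ⟨⟨mul_mem ha ha, mem_CC.2 fun g hg => ?_⟩, ?_⟩
    · rw [← commutatorElement_eq_one_iff_mul_comm, br hc ha ha hg, ← sq, c2 hg ha]
    · rw [← sq, ← pow_mul]; exact h4 a ha
  have fz : ∀ {a b : G}, f a = f b → ∃ z ∈ Z, a = b * z := fun {a b} e =>
    ⟨b⁻¹ * a, QuotientGroup.eq.1 e.symm, by group⟩
  let u : G → G := fun h => h * (t * h * t⁻¹)
  have mu : ∀ {h : G}, h ∈ H → u h ∈ H := fun hh => mul_mem hh (m _ hh t)
  have ti : t⁻¹ = t := inv_eq_of_mul_eq_one_right tt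
  have u2 : ∀ {h : G}, h ∈ H → u h ^ 2 = 1 := fun {h} hh => by
    rw [← ht h hh, show 4 = 2 * 2 from rfl, pow_mul, sq (h * t)]
    simp only [u, ti, mul_assoc]
  have uu : ∀ {h k : G}, h ∈ H → k ∈ H → Commute (u h) (u k) := fun {h k} hh hk => by
    obtain ⟨z, hz, e⟩ := fz (a := u h * u k) (b := u (h * k)) (by
      simp only [u, ← conj_mul, map_mul f h, map_mul f (h * k), map_mul f (h * _), map_mul f k,
        map_mul f (t * h * t⁻¹)]
      rw [mul_assoc, ← mul_assoc (f (t * h * t⁻¹)), f1 (m h hh t) hk]; simp only [mul_assoc])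
    have e2 : (u h * u k) ^ 2 = 1 := by
      rw [e, (show Commute _ _ from mem_CC.1 hz.1.2 _ (mu (mul_mem hh hk))).mul_pow,
        u2 (mul_mem hh hk), hz.2, one_mul]
    have i1 : (u h)⁻¹ = u h := inv_eq_of_mul_eq_one_right (sq (u h) ▸ u2 hh)
    have i2 : (u k)⁻¹ = u k := inv_eq_of_mul_eq_one_right (sq (u k) ▸ u2 hk)
    have i3 := inv_eq_of_mul_eq_one_right (sq (u h * u k) ▸ e2)
    rw [mul_inv_rev, i1, i2] at i3
    exact i3.symm
  have yi : y⁻¹ = y * y := inv_eq_of_mul_eq_one_left y3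
  have u3 : ∀ {h k : G}, h ∈ H → k ∈ H → Commute (u h) (y * (y * u k * y⁻¹) * y⁻¹) :=
    fun {h k} hh hk => by
      rw [← commutatorElement_eq_one_iff_commute, hy.adj hc (mu hh) (m _ (mu hk) y),
        ← conjugate_commutatorElement, commutatorElement_eq_one_iff_commute.2 (uu hh hk)]
      simp
  have u4 : ∀ {h k : G}, h ∈ H → k ∈ H → Commute (u h) (y * u k * y⁻¹) := fun {h k} hh hk => by
    have e := hy _ (mu hk)
    have : y * u k * y⁻¹ = (u k)⁻¹ * (y * (y * u k * y⁻¹) * y⁻¹)⁻¹ := by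
      rw [← mul_one (u k)⁻¹, ← e]; group
    rw [this]
    exact (uu hh hk).inv_right.mul_right (u3 hh hk).inv_right
  have key : ∀ {a : G}, a ∈ H → ∃ z ∈ Z, a = u a * (y * u (y⁻¹ * a * y) * y⁻¹) *
      (y * (y * u (y * a * y⁻¹) * y⁻¹) * y⁻¹) * z := fun {a} ha => fz (by
    have ty' : t * y⁻¹ = y * t := by
      calc t * y⁻¹ = (t * y * t⁻¹)⁻¹ * t := by group
        _ = _ := by rw [ty, inv_inv]
    have ty2 : t * y = y⁻¹ * t := by rw [← ty]; group
    set b := t * a * t⁻¹ with hb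
    have mb : b ∈ H := m a ha t
    have e1 : y * u (y⁻¹ * a * y) * y⁻¹ = a * (y * (y * b * y⁻¹) * y⁻¹) := by
      calc _ = a * (y * (t * y⁻¹) * a * (y * (t * y⁻¹))⁻¹) := by simp only [u]; group
        _ = _ := by rw [ty', hb]; group
    have e2 : y * (y * u (y * a * y⁻¹) * y⁻¹) * y⁻¹ = a * (y * b * y⁻¹) := by
      calc _ = (y * y * y) * a * (y * y * y)⁻¹ * (y * y * (t * y) * a * (y * y * (t * y))⁻¹) := by
            simp only [u]; group
        _ = _ := by rw [ty2, y3, hb]; group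
    rw [e1, e2]
    have e3 := congrArg f (hy b mb)
    have m1 := m b mb y
    have m2 := m _ m1 y
    simp only [u, ← hb]
    generalize y * (y * b * y⁻¹) * y⁻¹ = b2 at *
    generalize y * b * y⁻¹ = b1 at *
    simp only [map_mul, map_one] at e3 ⊢
    calc f a = (f a * f a) * f a * (f b * f b1 * f b2) := by rw [f2 ha, e3]; simp
      _ = f a * f a * (f a * f b) * (f b1 * f b2) := by group
      _ = f a * f a * (f b * f a) * (f b2 * f b1) := by rw [f1 ha mb, f1 m1 m2]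
      _ = f a * (f a * f b) * (f a * f b2) * f b1 := by group
      _ = f a * (f b * f a) * (f b2 * f a) * f b1 := by rw [f1 ha mb, f1 ha m2]
      _ = _ := by group)
  have uz : ∀ {h : G}, h ∈ H → u h ∈ Z := fun {h} hh => ⟨⟨mu hh, mem_CC.2 fun a ha => by
    obtain ⟨z, hz, e⟩ := key ha
    rw [e]
    exact ((((uu hh ha).mul_right (u4 hh (hH.conj_mem' a ha y))).mul_right
      (u3 hh (m a ha y))).mul_right (mem_CC.1 hz.1.2 _ (mu hh))).symm⟩, u2 hh⟩
  have fin : H ≤ Z := fun a ha => by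
    obtain ⟨z, hz, e⟩ := key ha
    rw [e]
    exact mul_mem (mul_mem (mul_mem (uz ha) (hZ.conj_mem _ (uz (hH.conj_mem' a ha y)) y))
      (hZ.conj_mem _ (hZ.conj_mem _ (uz (m a ha y)) y) y)) hz
  exact ⟨isMulCommutative_iff_le_CC.2 fun a ha => (fin ha).1.2, fun a ha => (fin ha).2⟩

section small
variable {n : ℕ} (hn : n ≤ 4) (hn3 : 3 ≤ n)
  (h : Set.range (orderOf : G → ℕ) = {k : ℕ | 1 ≤ k ∧ k ≤ n})
include h

theorem ole (g : G) : orderOf g ≤ n := (h.le ⟨g, rfl⟩).2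

theorem s0 {m : ℕ} (hm : n < m) : s G m = 0 := by_contra fun e => by
  obtain ⟨g, rfl⟩ := s_ne.1 e
  have := ole h g; omega

include hn

theorem sm_epp : Epp G := fun p q hp hq hne => s0 h (by
  have := hp.two_le; have := hq.two_le
  rcases lt_or_gt_of_ne hne with e | e <;> nlinarith)

theorem sm_pr {r : ℕ} (hr : r.Prime) (hd : r ∣ Nat.card G) : r = 2 ∨ r = 3 := by
  have : r ≤ n := not_lt.1 fun e => s_pos hr hd (s0 h e)
  have := hr.two_le
  have : r ≠ 4 := by rintro rfl; exact absurd hr (by decide)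
  omega

theorem sm_solv : Group.IsSolvable G :=
  H17.isSolvable_of_two_primes Nat.prime_two Nat.prime_three fun _ => sm_pr hn h

theorem sm_two {g : G} (hg : ¬ 3 ∣ orderOf g) : g ^ 4 = 1 := by
  have := ole h g; have := orderOf_pos g
  rw [← orderOf_dvd_iff_pow_eq_one]
  generalize orderOf g = k at *
  have : k ≤ 4 := by omega
  interval_cases k <;> simp_all

theorem sm_three {g : G} (hg : ¬ 2 ∣ orderOf g) : g ^ 3 = 1 := by
  have := ole h g; have := orderOf_pos g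
  rw [← orderOf_dvd_iff_pow_eq_one]
  generalize orderOf g = k at *
  have : k ≤ 4 := by omega
  interval_cases k <;> simp_all

include hn3

theorem sm_nn : ¬ Group.IsNilpotent G :=
  (sm_epp hn h).nn Nat.prime_two Nat.prime_three (by decide)
    (s_card (s_ne.2 (h.ge ⟨by omega, by omega⟩))) (s_card (s_ne.2 (h.ge ⟨by omega, by omega⟩)))

/-- The Frobenius case. -/
theorem sm_frob (h0 : fittingHall G ≠ ⊥) : ∃ K : Subgroup G, ∃ _ : K.Normal,
    (IsPGroup 2 K ∧ Group.nilpotencyClass K ≤ 2 ∧ K.index = 3) ∨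
    (IsElementaryAbelian 3 K ∧ ((IsCyclic (G ⧸ K) ∧ (K.index = 2 ∨ K.index = 4 ∧ n = 4)) ∨
      n = 4 ∧ Nonempty (G ⧸ K ≃* QuaternionGroup 2))) := by
  have hE := sm_epp hn h
  obtain ⟨-, E, hc, hF, hf, hN⟩ := CN.frob hE.cn (sm_nn hn hn3 h) h0
  obtain ⟨hK, hcop⟩ := CN.fh_spec (G := G)
  have hi := hc.symm.index_eq_card
  have e := hc.symm.QuotientMulEquiv
  set K := fittingHall G
  have ord : ∀ {p : ℕ}, p.Prime → p ∣ K.index → ∀ x ∈ K, ¬ p ∣ orderOf x := fun hp hd x hx hd' =>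
    hp.one_lt.ne' (Nat.eq_one_of_dvd_coprimes hcop (hd'.trans (K.orderOf_dvd_natCard hx)) hd)
  have ev : 2 ∣ K.index → IsElementaryAbelian 3 K := fun h2 => by
    haveI : Fact (Nat.Prime 2) := ⟨Nat.prime_two⟩
    obtain ⟨t, ht, ho⟩ := exists_orderOf_eq_of_dvd (hi ▸ h2)
    exact ⟨(lcs h0 Nat.prime_two (ho ▸ pow_orderOf_eq_one t)
      (hf t ht (ne_one_of_orderOf_eq ho))).1 rfl, fun x hx => sm_three hn h (ord Nat.prime_two h2 x hx)⟩
  have cyc : IsCyclic E → (IsPGroup 2 K ∧ Group.nilpotencyClass K ≤ 2 ∧ K.index = 3) ∨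
      (IsElementaryAbelian 3 K ∧ ((IsCyclic (G ⧸ K) ∧ (K.index = 2 ∨ K.index = 4 ∧ n = 4)) ∨
      n = 4 ∧ Nonempty (G ⧸ K ≃* QuaternionGroup 2))) := fun hcy => by
    obtain ⟨g, hg⟩ := IsCyclic.exists_ofOrder_eq_natCard (α := E)
    rw [← orderOf_coe, ← hi] at hg
    have h1 := ole h g
    have h2 : K.index ≠ 1 := hi ▸ mt card_eq_one.1 hF.1
    have h3 := orderOf_pos (g : G)
    have hq : IsCyclic (G ⧸ K) := isCyclic_of_surjective e.symm e.symm.surjective
    by_cases h4 : K.index = 3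
    · refine Or.inl ⟨isPGroup_iff_mem.2 fun x hx => ⟨2, sm_two hn h (ord Nat.prime_three h4.symm.dvd x hx)⟩,
        Subgroup.lowerCentralSeries_eq_bot_iff_nilpotencyClass_le.1 ((lcs h0 Nat.prime_three
          (by rw [← h4, ← hg, pow_orderOf_eq_one]) (hf g g.2 fun e => ?_)).2 rfl), h4⟩
      rw [e, orderOf_one] at hg; omega
    · exact Or.inr ⟨ev (by omega), Or.inl ⟨hq, by omega⟩⟩
  refine ⟨K, inferInstance, ?_⟩
  rcases CN.shape h0 hf hN with hcy | ⟨C, Q, h1, h2, -, h3, k, ⟨f⟩⟩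
  · exact cyc hcy
  have hC : C = ⊥ := by
    by_contra hC
    obtain ⟨p, hp, hd⟩ := Nat.exists_prime_and_dvd (mt card_eq_one.1 hC)
    haveI : Fact p.Prime := ⟨hp⟩
    obtain ⟨c, hc, ho⟩ := exists_orderOf_eq_of_dvd hd
    have := hE.eq hp Nat.prime_two ho.symm.dvd (y := f.symm (.xa 0)) (by
      rw [orderOf_coe, MulEquiv.orderOf_eq, QuaternionGroup.orderOf_xa]; decide) (h2 c hc _ (f.symm _).2)
    exact (Nat.not_even_iff_odd.2 h3) (even_iff_two_dvd.2 (this ▸ hd))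
  rw [hC, bot_sup_eq] at h1
  subst h1
  have h5 := ole h (f.symm (.a 1))
  rw [orderOf_coe, MulEquiv.orderOf_eq, QuaternionGroup.orderOf_a_one] at h5
  rcases k with _ | _ | k
  · haveI := QuaternionGroup.quaternionGroup_one_isCyclic
    exact cyc (isCyclic_of_surjective f.symm f.symm.surjective)
  · refine Or.inr ⟨ev ?_, Or.inr ⟨by omega, ⟨e.trans f⟩⟩⟩
    rw [hi, Nat.card_congr f.toEquiv, Nat.card_eq_fintype_card, QuaternionGroup.card]; decide
  · have : 0 < 2 ^ k := by positivity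
    rw [pow_succ, pow_succ] at h5; omega

omit hn3 in
theorem sm_step (h3 : IsThreeStepGroup 2 G) : IsElementaryAbelian 2 (pCore 2 G) ∧
    Nonempty (G ⧸ pCore 2 G ≃* Equiv.Perm (Fin 3)) := by
  classical
  have hE := sm_epp hn h
  obtain ⟨h0, A, hA0, hcy, ho, -, hN, ht, ⟨k, hi⟩, hf, hx⟩ := h3
  set H := pCore 2 G
  haveI : Fact (Nat.Prime 2) := ⟨Nat.prime_two⟩
  haveI : Fact (Nat.Prime 3) := ⟨Nat.prime_three⟩
  have hH : IsPGroup 2 H := isPGroup_pCore'
  obtain ⟨y, rfl⟩ := (Subgroup.isCyclic_iff_exists_zpowers_eq_top A).1 hcy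
  rw [Nat.card_zpowers] at ho
  have y1 : y ≠ 1 := fun e => hA0 (zpowers_eq_bot.2 e)
  have y3 : y ^ 3 = 1 := sm_three hn h (Nat.two_dvd_ne_zero.2 (Nat.odd_iff.1 ho))
  have oy : orderOf y = 3 := orderOf_eq_prime y3 y1
  have hs : IsSylowIn 3 (zpowers y) (H ⊔ zpowers y) := by
    refine isSylowIn_of_not_dvd le_sup_right (isPGroup_zpowers_of_orderOf_eq oy) fun hd => ?_
    have e1 := H10.card_sup_mul_card_inf (L := zpowers y) (N := H) (le_NN_of_normal _ _)
    have e2 := card_mul_relIndex (le_sup_right : zpowers y ≤ H ⊔ zpowers y)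
    rw [sup_comm, ← e2, mul_assoc] at e1
    obtain ⟨j, hj⟩ := IsPGroup.iff_card.1 hH
    have := (hd.mul_right _).trans (Nat.eq_of_mul_eq_mul_left Nat.card_pos e1).dvd
    rw [hj] at this
    exact absurd (Nat.prime_three.dvd_of_dvd_pow this) (by decide)
  have inv : ∀ x ∈ NN(zpowers y), x ∉ H ⊔ zpowers y → x * y * x⁻¹ = y⁻¹ := fun x h1 h2 => by
    have h3 := conj_mem_of_mem_NN h1 (mem_zpowers y)
    obtain ⟨j, hj, e⟩ := (mem_zpowers_iff_mem_range_orderOf.1 h3 |> Finset.mem_image.1)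
    rw [oy, Finset.mem_range] at hj
    interval_cases j
    · exact absurd (by simpa using e.symm) y1
    · exact absurd (by rw [← e]; simp) (hx x h2 y (mem_zpowers y) y1)
    · rw [← e]; exact eq_inv_of_mul_eq_one_left (by rw [← pow_succ, y3])
  have c3 : ∀ x, Commute x y → x ∈ H ⊔ zpowers y := fun x hc => by
    have h1 : x ^ 2 ^ k ∈ H ⊔ zpowers y := hi ▸ pow_index_mem _ x
    refine zpowers_le.2 h1 (mem_zpowers_pow_iff.2 (Nat.Coprime.pow_left k
      ((Nat.prime_two.coprime_iff_not_dvd).2 fun hd => ?_)))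
    exact absurd (hE.eq Nat.prime_two Nat.prime_three hd oy.symm.dvd hc) (by decide)
  obtain ⟨g, hg⟩ : ∃ g, g ∉ H ⊔ zpowers y := by
    by_contra! hg; exact ht (eq_top_iff.2 fun g _ => hg g)
  have fr := fun g => hs.frattini' (L := ⊤) le_top (le_NN_of_normal _ _) (mem_top g)
  obtain ⟨a, ha, t, ⟨-, tn⟩, rfl⟩ := fr g
  have tK : t ∉ H ⊔ zpowers y := fun e => hg (mul_mem ha e)
  have ty := inv t tn tK
  have tt : t * t = 1 := by
    by_contra e
    have c : Commute (t * t) y := by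
      calc t * t * y = t * (t * y * t⁻¹) * t := by group
        _ = t * y⁻¹ * t := by rw [ty]
        _ = (t * y * t⁻¹)⁻¹ * t * t := by group
        _ = _ := by rw [ty]; group
    have t4 : ¬ 3 ∣ orderOf t := fun hd => tK (c3 t (by
      have := ole h t; have := orderOf_pos t
      have e3 : t ^ 3 = 1 := by
        rw [← orderOf_dvd_iff_pow_eq_one]; exact (show orderOf t = 3 by omega).dvd
      have : t = (t * t)⁻¹ := eq_inv_of_mul_eq_one_left (by rw [← e3, pow_three])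
      rw [this]; exact c.inv_left))
    have := orderOf_eq_prime (p := 2) (x := t * t) (by rw [← sq, ← pow_mul]; exact sm_two hn h t4) e
    exact absurd (hE.eq Nat.prime_two Nat.prime_three this.symm.dvd oy.symm.dvd c) (by decide)
  have hfy := hf y (mem_zpowers y) y1
  have l2 := (lcs h0 Nat.prime_three y3 hfy).2 rfl
  have hc : H ≤ CC((⁅H, H⁆ : Subgroup G)) := by
    rw [← comm_eq_bot', ← H.range_subtype, MonoidHom.range_eq_map, ← map_commutator,
      ← map_commutator]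
    exact (congrArg (map H.subtype) l2).trans (map_bot _)
  have y3' : y * y * y = 1 := by rw [← y3, pow_three']
  refine ⟨ea_of_s3 hc (p3_of_fpf (le_NN_of_normal ⊤ _ (mem_top y)) y3' fun q hq e =>
    mem_bot.1 (hfy.le ⟨hq, mem_centralizer_singleton_iff.2 (mul_inv_eq_iff_eq_mul.1 e).symm⟩))
    y3' tt ty (fun a ha => sm_two hn h fun hd => ?_) (fun a ha => sm_two hn h fun hd => ?_), ?_⟩
  · obtain ⟨j, hj⟩ := orderOf_eq_pow_of_mem hH ha
    exact absurd (Nat.prime_three.dvd_of_dvd_pow (hj ▸ hd)) (by decide)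
  · have h1 : (a * t) ^ 2 ^ k ∈ H ⊔ zpowers y := hi ▸ pow_index_mem _ _
    have := ole h (a * t); have := orderOf_pos (a * t)
    have h2 := zpowers_le.2 h1 (mem_zpowers_pow_iff.2 (by
      rw [show orderOf (a * t) = 3 by omega]; exact Nat.Coprime.pow_left k (by decide)))
    exact tK ((mul_mem_cancel_left (mem_sup_left ha)).1 h2)
  let f := QuotientGroup.mk' H
  have mk : ∀ x, f x ∈ zpowers (f y) ↔ x ∈ H ⊔ zpowers y := fun x => by
    rw [← MonoidHom.map_zpowers, ← mem_comap, comap_map_eq, QuotientGroup.ker_mk', sup_comm]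
  obtain ⟨e⟩ := H6.equiv_dihedral_of_top (a := f y) (b := f t) (n := 3)
    (orderOf_eq_prime (by rw [← map_pow, y3, map_one]) fun e => y1 (mem_bot.1 (hfy.le
      ⟨(QuotientGroup.eq_one_iff y).1 e, mem_centralizer_singleton_iff.2 rfl⟩)))
    (by rw [← map_mul, tt, map_one]) (by rw [← map_inv, ← map_mul, ← map_mul, ty, map_inv])
    (mt (mk t).1 tK) (eq_top_iff.2 fun x _ => by
      obtain ⟨x, rfl⟩ := QuotientGroup.mk'_surjective H x
      have m1 : zpowers (f y) ≤ closure {f y, f t} := zpowers_le.2 (subset_closure (by simp))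
      have m2 : f t ∈ closure {f y, f t} := subset_closure (by simp)
      obtain ⟨b, hb, c, ⟨-, hc⟩, rfl⟩ := fr x
      rw [map_mul]
      refine mul_mem (m1 ((mk b).2 hb)) ?_
      by_cases hcK : c ∈ H ⊔ zpowers y
      · exact m1 ((mk c).2 hcK)
      · rw [← mul_mem_cancel_left m2, ← map_mul]
        refine m1 ((mk _).2 (c3 _ ?_))
        calc t * c * y = t * (c * y * c⁻¹) * c := by group
          _ = (t * y * t⁻¹)⁻¹ * t * c := by rw [inv c hc hcK]; group
          _ = _ := by rw [ty]; group)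
  obtain ⟨d⟩ := d3_equiv
  exact ⟨e.trans d⟩

theorem sm_three_step (h0 : fittingHall G = ⊥) : n = 4 ∧ IsThreeStepGroup 2 G := by
  have hE := sm_epp hn h
  haveI := sm_solv hn h
  obtain ⟨r, hr, h3⟩ := CN.three hE.cn (sm_nn hn hn3 h) h0
  have := mt (hE.not_three hr) (not_not.2 h3)
  have h1 : r ^ 2 ≤ n := not_lt.1 fun e => this (s0 h e)
  have := hr.two_le
  obtain rfl : r = 2 := by nlinarith
  exact ⟨by omega, h3⟩
end small

end H1.Ord
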