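import Mathlib
import Cfsg.Agent.H5.Component
import Cfsg.Agent.H17.Central

/-! The `P(G,V)`-theorem, part 1: ring theoretic preliminaries. -/

set_option autoImplicit false
open Cfsg Subgroup
open scoped commutatorElement

namespace H1.PGV

section QS
variable {K : Type*} [Group K]

theorem hom_eq_one_of_perfect (h : commutator K = ⊤) {M : Type*} [Group M] (f : K →* M)
    (hf : ∀ a b, Commute (f a) (f b)) (k : K) : f k = 1 := by
  have : commutator K ≤ f.ker := commutator_le.2 fun a _ b _ => by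
    rw [MonoidHom.mem_ker, map_commutatorElement]; exact (hf a b).commutator_eq
  exact this (h ▸ mem_top k)

theorem qs_aut (hK : IsQuasisimple K) {φ : MulAut K} (hφ : φ ≠ 1) {M : Subgroup K}
    (h : ∀ k, k * (φ k)⁻¹ ∈ M) : ∀ k, k ∈ M := by
  obtain ⟨h1, -, h2⟩ := H5.isQuasisimple_iff_top.1 hK
  let M0 : Subgroup K := closure (Set.range fun k => k * (φ k)⁻¹)
  have hM : M0 ≤ M := (closure_le _).2 (by rintro _ ⟨k, rfl⟩; exact h k)
  have hm : ∀ k, k * (φ k)⁻¹ ∈ M0 := fun k => subset_closure ⟨k, rfl⟩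
  have hn : M0.Normal := ⟨fun x hx g => by
    induction hx using closure_induction with
    | mem x hx =>
      obtain ⟨k, rfl⟩ := hx
      have : g * (k * (φ k)⁻¹) * g⁻¹ = (g * k) * (φ (g * k))⁻¹ * (g * (φ g)⁻¹)⁻¹ := by
        rw [map_mul]; group
      rw [this]; exact mul_mem (hm _) (inv_mem (hm _))
    | one => simp
    | mul x y _ _ hx hy =>
      have : g * (x * y) * g⁻¹ = g * x * g⁻¹ * (g * y * g⁻¹) := by group
      rw [this]; exact mul_mem hx hy
    | inv x _ hx =>
      have : g * x⁻¹ * g⁻¹ = (g * x * g⁻¹)⁻¹ := by group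
      rw [this]; exact inv_mem hx⟩
  rcases h2 M0 hn with h3 | h3
  · exact fun k => hM (h3 ▸ mem_top k)
  · exfalso
    let f : K →* K := MonoidHom.mk' (fun k => k * (φ k)⁻¹) fun a b => by
        have := mem_center_iff.1 (h3 (hm b)) a
        show a * b * (φ (a * b))⁻¹ = a * (φ a)⁻¹ * (b * (φ b)⁻¹)
        rw [map_mul, mul_inv_rev, mem_center_iff.1 (h3 (hm b)) (a * (φ a)⁻¹), ← mul_assoc _ a,
          ← this]; group
    refine hφ (MulEquiv.ext fun k => ?_)
    have := hom_eq_one_of_perfect h1 f (fun a b => mem_center_iff.1 (h3 (hm b)) _) k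
    exact (mul_inv_eq_one.1 this).symm

theorem qs_inn (hK : IsQuasisimple K) {y : K} (hy : y ∉ center K) {M : Subgroup K}
    (h : ∀ k : K, ⁅k, y⁆ ∈ M) : ∀ k, k ∈ M := by
  refine qs_aut hK (φ := MulAut.conj y) (fun h1 => hy (mem_center_iff.2 fun k => ?_)) fun k => ?_
  · have : y * k * y⁻¹ = k := DFunLike.congr_fun h1 k
    rw [mul_inv_eq_iff_eq_mul] at this; exact this.symm
  · have : k * (MulAut.conj y k)⁻¹ = ⁅k, y⁆ := by
      rw [MulAut.conj_apply, commutatorElement_def]; group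
    rw [this]; exact h k

theorem qs_center (hK : IsQuasisimple K) {U : Type*} [Group U] {i : K →* U} (hi : ∃ k, i k ≠ 1)
    {x : K} (hx : ∀ k, Commute (i k) (i x)) : x ∈ center K := by
  by_contra h
  obtain ⟨k, hk⟩ := hi
  refine hk (qs_inn hK h (M := i.ker) (fun k => ?_) k)
  rw [MonoidHom.mem_ker, map_commutatorElement]
  exact (hx k).commutator_eq

theorem qs_exists_noncentral (hK : IsQuasisimple K) : ∃ y : K, y ∉ center K := by
  by_contra h
  push Not at h
  obtain ⟨h1, h2, -⟩ := H5.isQuasisimple_iff_top.1 hK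
  obtain ⟨x, hx⟩ := exists_ne (1 : K)
  exact hx (hom_eq_one_of_perfect h1 (MonoidHom.id K) (fun a b => mem_center_iff.1 (h b) a) x)

theorem qs_not_solvable' (hK : IsQuasisimple K) : ¬ Group.IsSolvable K := fun h =>
  H5.qs_not_solvable (H5.qs_top_iff.2 hK) inferInstance

theorem qs_exists_prime [Finite K] (hK : IsQuasisimple K) {p q : ℕ} (hp : p.Prime) (hq : q.Prime) :
    ∃ r n : ℕ, r.Prime ∧ r ≠ p ∧ r ≠ q ∧ ∃ x : K, x ∉ center K ∧ x ^ r ^ n = 1 := by
  have h1 : ¬ Group.IsSolvable (K ⧸ center K) := fun h => qs_not_solvable' hK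
    ((Group.isSolvable_iff_subgroup_quotient (center K)).2 ⟨Group.isSolvable_of_comm fun a b =>
      Subtype.ext (mem_center_iff.1 b.2 a), h⟩)
  obtain ⟨r, hr, h2, h3⟩ : ∃ r : ℕ, r.Prime ∧ r ∣ Nat.card (K ⧸ center K) ∧ ¬ (r = p ∨ r = q) := by
    by_contra hcon
    push Not at hcon
    exact h1 (H17.isSolvable_of_two_primes hp hq fun r h2 h3 => by
      by_contra h4; exact h4 (by_contra fun h5 => by
        have := hcon r h2 h3; tauto))
  haveI := Fact.mk hr
  obtain ⟨xb, hx⟩ := exists_prime_orderOf_dvd_card' r h2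
  obtain ⟨x, rfl⟩ := QuotientGroup.mk_surjective xb
  obtain ⟨n, m, hm, e⟩ := Nat.exists_eq_pow_mul_and_not_dvd (orderOf_pos x).ne' r hr.ne_one
  refine ⟨r, n, hr, fun h => h3 (Or.inl h), fun h => h3 (Or.inr h), x ^ m, fun h => hm ?_, ?_⟩
  · rw [← hx]
    exact orderOf_dvd_of_pow_eq_one (by
      rw [← QuotientGroup.mk_pow]; exact (QuotientGroup.eq_one_iff _).2 h)
  · rw [← pow_mul, mul_comm, ← e, pow_orderOf_eq_one]

end QS

section Ring
variable {E : Type*} [Ring E]

/-- the units fixing `T` -/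
def Fix (T : E) : Subgroup Eˣ := MulAction.stabilizer Eˣ T

theorem mem_Fix {T : E} {g : Eˣ} : g ∈ Fix T ↔ (g : E) * T = T := Iff.rfl

theorem fix_comm {g h : Eˣ} (hc : Commute g h) (h1 : g ∈ Fix ((h : E) - 1)) :
    h ∈ Fix ((g : E) - 1) := by
  rw [mem_Fix, mul_sub, mul_one] at h1 ⊢
  have : (h : E) * g = g * h := by rw [← Units.val_mul, ← hc.eq, Units.val_mul]
  rw [this]
  linear_combination (norm := noncomm_ring) h1

theorem conj_fix {T : E} {g x : Eˣ} (hg : g ∈ Fix T) (hx : Commute (x : E) T) :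
    x * g * x⁻¹ ∈ Fix T := by
  have h1 : ((x⁻¹ : Eˣ) : E) * T = T * (x⁻¹ : Eˣ) := (Commute.units_inv_left hx).eq
  rw [mem_Fix, Units.val_mul, Units.val_mul, mul_assoc, h1, mul_assoc, ← mul_assoc (g : E),
    mem_Fix.1 hg, ← mul_assoc, hx.eq, Units.mul_inv_cancel_right]

theorem comm_fix {T : E} {g x : Eˣ} (hg : g ∈ Fix T) (hx : Commute (x : E) T) :
    ⁅x, g⁆ ∈ Fix T := mul_mem (conj_fix hg hx) (inv_mem hg)

theorem commute_sub_one {g h : Eˣ} (hc : Commute g h) : Commute (g : E) ((h : E) - 1) :=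
  (Commute.units_val hc).sub_right (Commute.one_right _)

theorem perf {K : Type*} [Group K] (hK : commutator K = ⊤) (i : K →* Eˣ) {T : E}
    (h : ∀ k m, i k ∈ Fix (((i m : E) - 1) * T)) (k : K) : i k ∈ Fix T := by
  let f : K →* Multiplicative E := MonoidHom.mk' (fun k => Multiplicative.ofAdd (i k * T - T))
    fun a b => by
      rw [← ofAdd_add]
      congr 1
      have := mem_Fix.1 (h a b)
      rw [map_mul, Units.val_mul]
      linear_combination (norm := noncomm_ring) this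
  have := hom_eq_one_of_perfect hK f (fun _ _ => Commute.all _ _) k
  exact sub_eq_zero.1 (ofAdd_eq_one.1 this)

end Ring

end H1.PGV
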