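import Mathlib
import Cfsg.Agent.H1.PGV1

/-! The `P(G,V)`-theorem, part 2: quadratic action and permuted components. -/

set_option autoImplicit false
open Cfsg Subgroup
open scoped commutatorElement

namespace H1.PGV

/-- A quasisimple group `K` and an abelian group `A` acting on a module, `A` permuting commuting
conjugates of `K`, with stabilizer `B`. -/
structure Dat (K A E : Type*) [Group K] [CommGroup A] [Ring E] where
  i : K →* Eˣ
  j : A →* Eˣ
  B : Subgroup A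
  β : A → MulAut K
  hβ : ∀ b ∈ B, ∀ k, j b * i k * (j b)⁻¹ = i (β b k)
  hc : ∀ a ∉ B, ∀ k l, Commute (i k) (j a * i l * (j a)⁻¹)
  qs : IsQuasisimple K
  nt : ∃ k, i k ≠ 1

namespace Dat
variable {K A E : Type*} [Group K] [CommGroup A] [Ring E] (D : Dat K A E)

include D in
theorem perfect : commutator K = ⊤ := (H5.isQuasisimple_iff_top.1 D.qs).1

def ϕ (c : A) : K →* Eˣ := (MulAut.conj (D.j c)).toMonoidHom.comp D.i

theorem ϕ_apply (c : A) (k : K) : D.ϕ c k = D.j c * D.i k * (D.j c)⁻¹ := rfl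

theorem ϕ_one (k : K) : D.ϕ 1 k = D.i k := by simp [ϕ_apply]

theorem j_comm (a b : A) : Commute (D.j a) (D.j b) := (Commute.all a b).map D.j

theorem conj_ϕ (a c : A) (k : K) : D.j a * D.ϕ c k * (D.j a)⁻¹ = D.ϕ (a * c) k := by
  simp only [ϕ_apply, map_mul]; group

theorem conjB_ϕ {b : A} (hb : b ∈ D.B) (c : A) (k : K) :
    D.j b * D.ϕ c k * (D.j b)⁻¹ = D.ϕ c (D.β b k) := by
  rw [conj_ϕ, mul_comm, ← conj_ϕ, ϕ_apply D b, D.hβ b hb]; rfl

theorem ϕ_comm {c c' : A} (h : c⁻¹ * c' ∉ D.B) (k l : K) : Commute (D.ϕ c k) (D.ϕ c' l) := by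
  have := (D.hc _ h k l).map (MulAut.conj (D.j c))
  rwa [← ϕ_apply, MulAut.conj_apply, MulAut.conj_apply, conj_ϕ, mul_inv_cancel_left] at this

theorem i_comm {c : A} (h : c ∉ D.B) (k l : K) : Commute (D.i k) (D.ϕ c l) := D.hc c h k l

theorem ϕ_nt (c : A) : ∃ k, D.ϕ c k ≠ 1 := by
  obtain ⟨k, hk⟩ := D.nt
  exact ⟨k, fun h => hk (by simpa [ϕ_apply, mul_inv_eq_iff_eq_mul] using h)⟩

variable {A0 : Subgroup A} [Fintype A0] (h0 : Disjoint A0 D.B)

omit [Fintype A0] in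
theorem not_mem_B (h0 : Disjoint A0 D.B) {c c' : A0} (h : c ≠ c') : (c : A)⁻¹ * c' ∉ D.B :=
  fun h1 => h (Subtype.ext (inv_mul_eq_one.1
    (disjoint_def.1 h0 (mul_mem (inv_mem c.2) c'.2) h1)))

noncomputable def Φ : (A0 → K) →* Eˣ :=
  MonoidHom.noncommPiCoprod (fun c : A0 => D.ϕ c) fun _ _ h => D.ϕ_comm (D.not_mem_B h0 h)

theorem Φ_single [DecidableEq A0] (c : A0) (k : K) : D.Φ h0 (Pi.mulSingle c k) = D.ϕ c k :=
  MonoidHom.noncommPiCoprod_mulSingle _ _ _

theorem Φ_shift (a : A0) (f : A0 → K) :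
    D.j a * D.Φ h0 f * (D.j a)⁻¹ = D.Φ h0 fun c => f (a⁻¹ * c) := by
  classical
  let sh : (A0 → K) →* (A0 → K) := MonoidHom.mk' (fun f c => f (a⁻¹ * c)) fun _ _ => rfl
  have : (MulAut.conj (D.j a)).toMonoidHom.comp (D.Φ h0) = (D.Φ h0).comp sh := by
    refine MonoidHom.pi_ext fun c k => ?_
    have e : sh (Pi.mulSingle c k) = Pi.mulSingle (a * c) k := by
      funext c'
      show Pi.mulSingle (M := fun _ => K) c k (a⁻¹ * c') = _
      by_cases h : c' = a * c
      · rw [h, inv_mul_cancel_left, Pi.mulSingle_eq_same, Pi.mulSingle_eq_same]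
      · rw [Pi.mulSingle_eq_of_ne h, Pi.mulSingle_eq_of_ne fun h1 => h (by rw [← h1]; simp)]
    show D.j a * D.Φ h0 (Pi.mulSingle c k) * (D.j a)⁻¹ = D.Φ h0 (sh _)
    rw [e, Φ_single, Φ_single, conj_ϕ]; rfl
  exact DFunLike.congr_fun this f

theorem Φ_B {b : A} (hb : b ∈ D.B) (f : A0 → K) :
    D.j b * D.Φ h0 f * (D.j b)⁻¹ = D.Φ h0 fun c => D.β b (f c) := by
  classical
  let sh : (A0 → K) →* (A0 → K) := MonoidHom.mk' (fun f c => D.β b (f c)) fun _ _ =>
    funext fun _ => map_mul _ _ _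
  have : (MulAut.conj (D.j b)).toMonoidHom.comp (D.Φ h0) = (D.Φ h0).comp sh := by
    refine MonoidHom.pi_ext fun c k => ?_
    have e : sh (Pi.mulSingle c k) = Pi.mulSingle c (D.β b k) := by
      funext c'
      show D.β b (Pi.mulSingle (M := fun _ => K) c k c') = _
      by_cases h : c' = c
      · rw [h, Pi.mulSingle_eq_same, Pi.mulSingle_eq_same]
      · rw [Pi.mulSingle_eq_of_ne h, Pi.mulSingle_eq_of_ne h, map_one]
    show D.j b * D.Φ h0 (Pi.mulSingle c k) * (D.j b)⁻¹ = D.Φ h0 (sh _)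
    rw [e, Φ_single, Φ_single, conjB_ϕ _ hb]
  exact DFunLike.congr_fun this f

theorem comm_Φ (c : A0) (f : A0 → K) (l : K) : ⁅D.ϕ c l, D.Φ h0 f⁆ = D.ϕ c ⁅l, f c⁆ := by
  classical
  rw [← Φ_single D h0, ← Φ_single D h0, ← map_commutatorElement]
  congr 1
  funext c'
  by_cases h : c' = c
  · subst h; simp [commutatorElement_def]
  · simp [commutatorElement_def, Pi.mulSingle_eq_of_ne h]

/-- the diagonal -/
noncomputable def δ : K →* Eˣ := (D.Φ h0).comp (Pi.constMonoidHom A0 K)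

theorem δ_comm (a : A0) (k : K) : Commute (D.j a) (D.δ h0 k) := by
  have := D.Φ_shift h0 a fun _ => k
  exact mul_inv_eq_iff_eq_mul.1 this

theorem δ_fix {b : A} (hb : b ∈ D.B) (hβ : D.β b ≠ 1) (a : A0)
    (hq : D.j b ∈ Fix ((D.j a : E) - 1)) (k : K) : D.δ h0 k ∈ Fix ((D.j a : E) - 1) := by
  refine qs_aut D.qs hβ (M := (Fix _).comap (D.δ h0)) (fun k => ?_) k
  have h1 := comm_fix hq (commute_sub_one (D.δ_comm h0 a k).symm)
  have h2 : D.j b * D.δ h0 k * (D.j b)⁻¹ = D.δ h0 (D.β b k) := D.Φ_B h0 hb fun _ => k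
  rw [mem_comap, map_mul, map_inv, ← h2]
  convert h1 using 1
  rw [commutatorElement_def]; group

include h0 in
theorem cross {b : A} (hb : b ∈ D.B) (hβ : D.β b ≠ 1) {a c : A0} (ha : a ≠ 1) (hc : c ≠ 1)
    (hac : a ≠ c) (hq : D.j b ∈ Fix ((D.j a : E) - 1)) (k l : K) :
    D.i k ∈ Fix ((D.ϕ c l : E) - 1) := by
  obtain ⟨y, hy⟩ := qs_exists_noncentral D.qs
  have haB : (a : A) ∉ D.B := by simpa using D.not_mem_B h0 ha.symm
  have hcB : (c : A) ∉ D.B := by simpa using D.not_mem_B h0 hc.symm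
  have hcy : ∀ t : A0, Commute (D.ϕ t y) (D.δ h0 y) := fun t => by
    rw [← commutatorElement_eq_one_iff_commute]
    refine (D.comm_Φ h0 t _ y).trans ?_
    simp
  have h1y : Commute (D.i y) (D.δ h0 y) := by simpa [ϕ_one] using hcy 1
  have h1 := fix_comm (D.δ_comm h0 a y).symm (D.δ_fix h0 hb hβ a hq y)
  have h2 := inv_mem (comm_fix h1 (commute_sub_one h1y))
  rw [commutatorElement_inv, commutatorElement_def, ← ϕ_apply] at h2
  set u := D.ϕ a y * (D.i y)⁻¹ with hu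
  have h3 := fix_comm ((hcy a).mul_left h1y.inv_left) h2
  have hul : ∀ l, Commute (D.ϕ c l) u := fun l =>
    (D.ϕ_comm (D.not_mem_B h0 hac.symm) l y).mul_right (D.i_comm hcB y l).symm.inv_right
  have h4 : D.ϕ c l ∈ Fix ((u : E) - 1) := by
    refine qs_inn D.qs hy (M := (Fix _).comap (D.ϕ c)) (fun l => ?_) l
    have := comm_fix h3 (commute_sub_one (hul l))
    rwa [show ⁅D.ϕ c l, D.δ h0 y⁆ = _ from D.comm_Φ h0 c _ l] at this
  have h5 := fix_comm (hul l) h4
  refine qs_inn D.qs (y := y⁻¹) (by simpa using hy) (M := (Fix _).comap D.i) (fun k => ?_) k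
  have := comm_fix h5 (commute_sub_one (D.i_comm hcB k l))
  rw [mem_comap, map_commutatorElement, map_inv]
  convert this using 1
  have e1 := (D.i_comm haB k y).eq
  have e2 := (D.i_comm haB y y).inv_left.eq
  have e3 := (D.i_comm haB k y).inv_inv.eq
  rw [hu, commutatorElement_def, commutatorElement_def, ← e2, mul_inv_rev, inv_inv,
    mul_assoc (D.i k * (_ * _)) (D.i k)⁻¹, ← mul_assoc (D.i k)⁻¹, e3]
  group

omit [Fintype A0] in
theorem false_of_cross {b c : A} (hb : b ∈ D.B) (hβ : D.β b ≠ 1)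
    (hq : D.j b ∈ Fix ((D.j c : E) - 1)) (h : ∀ k l, D.i k ∈ Fix ((D.ϕ c l : E) - 1)) : False := by
  have h1 := mem_Fix.1 (fix_comm (D.j_comm b c) hq)
  have hb' : ∀ k, (D.i k : E) * D.j b = D.j b * D.i (D.β b⁻¹ k) := fun k => by
    rw [← D.hβ _ (inv_mem hb), ← Units.val_mul, ← Units.val_mul]; simp [mul_assoc]
  have h2 : ∀ k l, (D.i k : E) * ((D.j b - 1) * (D.i l - 1)) = (D.j b - 1) * (D.i l - 1) := by
    intro k l
    have e1 : (D.j c : E) * (D.i l - 1) = (D.ϕ c l - 1) * D.j c := by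
      rw [mul_sub, sub_mul, ← Units.val_mul, ← Units.val_mul, ϕ_apply]; simp
    have e2 : (D.j c : E) * D.j b = D.j b * D.j c := by
      rw [← Units.val_mul, ← Units.val_mul, (D.j_comm c b).eq]
    have e3 : ((D.j b : E) - 1) * (D.i l - 1) = (D.j b - 1) * (D.ϕ c l - 1) * D.j c := by
      rw [mul_assoc, ← e1, ← mul_assoc]
      congr 1
      linear_combination (norm := noncomm_ring) e2 - h1
    have e4 := mem_Fix.1 (h k l)
    have e5 := mem_Fix.1 (h (D.β b⁻¹ k) l)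
    rw [e3]
    linear_combination (norm := noncomm_ring) (hb' k) * ((D.ϕ c l : E) - 1) * D.j c +
      (D.j b : E) * e5 * D.j c - e4 * D.j c
  let P : Eˣ → Prop := fun g => (∀ l, ∃ l', g * D.i l * g⁻¹ = D.i l') ∧
    ∀ k l, (D.i k : E) * ((g - 1) * (D.i l - 1)) = (g - 1) * (D.i l - 1)
  have Pmul : ∀ g g', P g → P g' → P (g * g') := by
    rintro g g' ⟨a1, a2⟩ ⟨b1, b2⟩
    refine ⟨fun l => ?_, fun k l => ?_⟩
    · obtain ⟨l', e⟩ := b1 l
      obtain ⟨l'', e'⟩ := a1 l'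
      exact ⟨l'', by rw [← e', ← e]; group⟩
    · obtain ⟨l', e⟩ := b1 l
      have e' : (g' : E) * D.i l = D.i l' * g' := by
        rw [← Units.val_mul, ← Units.val_mul, ← e]; simp
      rw [Units.val_mul]
      linear_combination (norm := noncomm_ring) (a2 k l') * (g' : E) + b2 k l +
        ((D.i k : E) - 1) * ((g : E) - 1) * e'
  have Pconj : ∀ m g, P g → P (D.i m * g * (D.i m)⁻¹) := by
    rintro m g ⟨a1, a2⟩
    refine ⟨fun l => ?_, fun k l => ?_⟩
    · obtain ⟨l', e⟩ := a1 (m⁻¹ * l * m)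
      exact ⟨m * l' * m⁻¹, by simp only [map_mul, map_inv] at e ⊢; rw [← e]; group⟩
    · have := a2 (m⁻¹ * k * m) (m⁻¹ * l * m)
      simp only [map_mul, map_inv, Units.val_mul] at this ⊢
      have e1 : (D.i m : E) * ((D.i m)⁻¹ : Eˣ) = 1 := Units.mul_inv _
      have e2 : (((D.i m)⁻¹ : Eˣ) : E) * D.i m = 1 := Units.inv_mul _
      generalize (((D.i m)⁻¹ : Eˣ) : E) = n at *
      generalize (D.i m : E) = x at *
      have e3 : (x * g * n - 1) * (D.i l - 1) = x * ((g - 1) * (n * D.i l * x - 1)) * n := by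
        linear_combination (norm := noncomm_ring) e1 * ((D.i l : E) - 1) -
          x * ((g : E) - 1) * n * (D.i l : E) * e1
      rw [e3]
      linear_combination (norm := noncomm_ring) x * this * n -
        e1 * (D.i k : E) * x * (((g : E) - 1) * (n * D.i l * x - 1)) * n
  have Pb : P (D.j b) := ⟨fun l => ⟨_, D.hβ b hb l⟩, h2⟩
  have Pbi : P (D.j b)⁻¹ := by
    refine ⟨fun l => ⟨D.β b⁻¹ l, by rw [← D.hβ _ (inv_mem hb), map_inv]⟩, fun k l => ?_⟩
    have e1 : (D.j b : E) * ((D.j b)⁻¹ : Eˣ) = 1 := Units.mul_inv _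
    have e2 : (((D.j b)⁻¹ : Eˣ) : E) * D.i l = D.i (D.β b⁻¹ l) * ((D.j b)⁻¹ : Eˣ) := by
      rw [← D.hβ _ (inv_mem hb), ← Units.val_mul, ← Units.val_mul]; simp
    have e3 := h2 k (D.β b⁻¹ l)
    generalize (((D.j b)⁻¹ : Eˣ) : E) = n at *
    linear_combination (norm := noncomm_ring) -e3 * n - ((D.i k : E) - 1) * (D.j b - 1 : E) * e2 +
      ((D.i k : E) - 1) * e1 * ((D.i l : E) - 1)
  let M : Subgroup K :=
    { carrier := {m | P (D.i m)}
      mul_mem' := fun {x y} hx hy => by simpa only [Set.mem_setOf_eq, map_mul] using Pmul _ _ hx hy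
      one_mem' := ⟨fun l => ⟨l, by simp⟩, fun k l => by simp⟩
      inv_mem' := fun {x} hx => by
        refine ⟨fun l => ⟨x⁻¹ * l * x, by simp⟩, fun k l => ?_⟩
        have e1 : (D.i x : E) * D.i x⁻¹ = 1 := by rw [← Units.val_mul, ← map_mul]; simp
        have e2 : (D.i x⁻¹ : E) * D.i l = D.i (x⁻¹ * l * x) * D.i x⁻¹ := by
          rw [← Units.val_mul, ← Units.val_mul, ← map_mul, ← map_mul]; simp
        have e3 := hx.2 k (x⁻¹ * l * x)
        linear_combination (norm := noncomm_ring) -e3 * (D.i x⁻¹ : E) -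
          ((D.i k : E) - 1) * (D.i x - 1 : E) * e2 + ((D.i k : E) - 1) * e1 * ((D.i l : E) - 1) }
  have h3 : ∀ m, P (D.i m) := qs_aut D.qs hβ (M := M) fun m => by
    have := Pmul _ _ (Pconj m _ Pb) Pbi
    show P (D.i (m * (D.β b m)⁻¹))
    rw [map_mul, map_inv, ← D.hβ b hb]
    convert this using 1
    group
  obtain ⟨k, hk⟩ := D.nt
  have h4 : ∀ l k, D.i k ∈ Fix ((D.i l : E) - 1) := fun l =>
    perf D.perfect D.i fun k m => (h3 m).2 k l
  have h5 := mem_Fix.1 (perf D.perfect D.i (T := 1) (fun k m => by rw [mul_one]; exact h4 m k) k)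
  exact hk (Units.ext (by simpa using h5))

/-- Stage 1. -/
theorem stage1 {b : A} (hb : b ∈ D.B) (hβ : D.β b ≠ 1) (h0 : Disjoint A0 D.B)
    (h3 : 3 ≤ Nat.card A0) (hq : ∀ a : A0, D.j b ∈ Fix ((D.j a : E) - 1)) : False := by
  classical
  rw [Nat.card_eq_fintype_card] at h3
  obtain ⟨c, -, hc⟩ := Finset.exists_mem_notMem_of_card_lt_card (s := {(1 : A0)})
    (t := Finset.univ) (by rw [Finset.card_singleton, Finset.card_univ]; omega)
  obtain ⟨a, -, ha⟩ := Finset.exists_mem_notMem_of_card_lt_card (s := {(1 : A0), c})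
    (t := Finset.univ) (Finset.card_le_two.trans_lt (by rw [Finset.card_univ]; omega))
  simp only [Finset.mem_insert, Finset.mem_singleton, not_or] at ha hc
  exact D.false_of_cross hb hβ (hq c) (D.cross h0 hb hβ ha.1 hc ha.2 (hq a))

end Dat

end H1.PGV
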