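import Mathlib
import Cfsg.Agent.H1.PGV2
import Cfsg.Agent.H7.Maschke

/-! The `P(G,V)`-theorem, part 3: quadratic elements moving a component. -/

set_option autoImplicit false
open Cfsg Subgroup
open scoped commutatorElement

namespace H1.PGV

theorem exists_frob {p m : ℕ} (hp : p.Prime) (h : ¬ p ∣ m) :
    ∃ n, 2 ≤ p ^ n ∧ ∀ {M : Type*} [Monoid M] (y : M), y ^ m = 1 → y ^ p ^ n = y := by
  have hm : 0 < m := Nat.pos_of_ne_zero fun h0 => h (h0 ▸ dvd_zero p)
  have h1 := Nat.ModEq.pow_totient ((Nat.Prime.coprime_iff_not_dvd hp).2 h)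
  refine ⟨m.totient, hp.two_le.trans (Nat.le_self_pow (Nat.totient_pos.2 hm).ne' p), ?_⟩
  intro M _ y hy
  rw [pow_eq_pow_of_modEq h1 hy, pow_one]

theorem sub_one_eq_mul_sq {p m : ℕ} [hp : Fact p.Prime] {E : Type*} [Ring E] [CharP E p] {y : E}
    (h : ¬ p ∣ m) (hy : y ^ m = 1) : ∃ c : E, y - 1 = c * ((y - 1) * (y - 1)) := by
  obtain ⟨n, h1, h2⟩ := exists_frob hp.out h
  refine ⟨(y - 1) ^ (p ^ n - 2), ?_⟩
  rw [← sq, ← pow_add, Nat.sub_add_cancel h1, sub_pow_char_pow_of_commute _ _ (Commute.one_right y),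
    h2 y hy, one_pow]

theorem card_le_two_mul {A : Type*} [Group A] [Finite A] {S T : Subgroup A} {a : A}
    (h : ∀ s ∈ S, s ∈ T ∨ s * a ∈ T) : Nat.card S ≤ 2 * Nat.card T := by
  have h1 : (S : Set A) ⊆ T ∪ (fun t => t * a⁻¹) '' T := fun s hs =>
    (h s hs).imp id fun h => ⟨_, h, by simp⟩
  have h2 := (Set.ncard_le_ncard h1).trans (Set.ncard_union_le _ _)
  have h3 : ((fun t => t * a⁻¹) '' (T : Set A)).ncard ≤ (T : Set A).ncard := Set.ncard_image_le
  rw [← Nat.card_coe_set_eq, ← Nat.card_coe_set_eq] at h2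
  rw [← Nat.card_coe_set_eq (T : Set A)] at h3
  change Nat.card S ≤ Nat.card T + _ at h2
  change _ ≤ Nat.card T at h3
  omega

namespace Dat
variable {K A E : Type*} [Group K] [CommGroup A] [Ring E] (D : Dat K A E)

include D in
theorem charP (p : ℕ) [Fact p.Prime] [Algebra (ZMod p) E] : CharP E p := by
  obtain ⟨k, hk⟩ := D.nt
  have : Nontrivial E := ⟨⟨_, _, fun h => hk (Units.ext h)⟩⟩
  exact charP_of_injective_algebraMap (algebraMap (ZMod p) E).injective p

theorem odd_case [Finite K] {p : ℕ} [hp : Fact p.Prime] [CharP E p] {a : A} (ha : a ∉ D.B)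
    (ha2 : a * a ∉ D.B) (hq : D.j a ∈ Fix ((D.j a : E) - 1)) : False := by
  obtain ⟨r, n, hr, hrp, -, x, hx, hxr⟩ := qs_exists_prime D.qs hp.out hp.out
  obtain ⟨N, h1, h2⟩ := exists_frob (m := r ^ n) hp.out fun h =>
    hrp ((Nat.prime_dvd_prime_iff_eq hp.out hr).1 (hp.out.dvd_of_dvd_pow h)).symm
  obtain ⟨α, hα⟩ : ∃ α : E, (D.j a : E) = 1 + α := ⟨D.j a - 1, by abel⟩
  have hαα : α * α = 0 := by
    have := mem_Fix.1 hq
    rw [hα] at this
    linear_combination (norm := noncomm_ring) this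
  have hinv : (((D.j a)⁻¹ : Eˣ) : E) = 1 - α := Units.inv_eq_of_mul_eq_one_right (by
    rw [hα]; linear_combination (norm := noncomm_ring) -hαα)
  have hP : ∀ y, (D.ϕ a y : E) = (1 + α) * D.i y * (1 - α) := fun y => by
    rw [ϕ_apply, Units.val_mul, Units.val_mul, hα, hinv]
  have hM : ∀ y, (D.ϕ a⁻¹ y : E) = (1 - α) * D.i y * (1 + α) := fun y => by
    rw [ϕ_apply, map_inv, inv_inv, Units.val_mul, Units.val_mul, hα, hinv]
  have hf : ∀ (c : A) y, y ^ r ^ n = 1 → (D.ϕ c y : E) ^ p ^ N = D.ϕ c y := fun c y hy =>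
    h2 _ (by rw [← Units.val_pow_eq_pow_val, ← map_pow, hy, map_one, Units.val_one])
  have hnil : ∀ X : E, X ^ p ^ N = X → X * X = 0 → X = 0 := fun X h3 h4 => by
    rw [← h3, ← Nat.sub_add_cancel h1, pow_add, sq, h4, mul_zero]
  have c1 : ∀ y, Commute (D.i y : E) (D.ϕ a y) := fun y => (D.i_comm ha y y).units_val
  have c2 : ∀ y, Commute (D.i y : E) (D.ϕ a⁻¹ y) := fun y =>
    (D.i_comm (by simpa using ha) y y).units_val
  have c3 : ∀ y, Commute (D.ϕ a y : E) (D.ϕ a⁻¹ y) := fun y =>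
    (D.ϕ_comm (by simpa using ha2) y y).symm.units_val
  have hZ : ∀ y, y ^ r ^ n = 1 → α * D.i y * α + α * D.i y * α = 0 := fun y hy => by
    have e : α * D.i y * α + α * D.i y * α = (D.i y - D.ϕ a y) + (D.i y - D.ϕ a⁻¹ y) := by
      rw [hP, hM]; noncomm_ring
    refine hnil _ ?_ ?_
    · rw [e, add_pow_char_pow_of_commute _ _ (((Commute.refl _).sub_left (c1 y).symm).sub_right
        ((c2 y).sub_left (c3 y))), sub_pow_char_pow_of_commute _ _ (c1 y),
        sub_pow_char_pow_of_commute _ _ (c2 y), hf _ _ hy, hf _ _ hy, ← ϕ_one, hf _ _ hy]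
    · linear_combination (norm := noncomm_ring) (α * D.i y + α * D.i y) * hαα *
        (D.i y * α + D.i y * α)
  have hY : (D.ϕ a x : E) - D.ϕ a⁻¹ x = 0 := by
    refine hnil _ ?_ ?_
    · rw [sub_pow_char_pow_of_commute _ _ (c3 x), hf _ _ hxr, hf _ _ hxr]
    · have z1 := hZ x hxr
      have z2 := hZ (x * x) (by rw [← sq, ← pow_mul, mul_comm, pow_mul, hxr, one_pow])
      rw [map_mul, Units.val_mul] at z2
      rw [hP, hM]
      linear_combination (norm := noncomm_ring) z1 * (D.i x + D.i x : E) + (D.i x + D.i x : E) * z1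
        - z2 - z2 - (D.i x + D.i x : E) * hαα * (D.i x + D.i x : E)
  have h3 : D.ϕ (a * a) x = D.i x := by
    rw [← conj_ϕ, Units.ext (sub_eq_zero.1 hY), conj_ϕ, mul_inv_cancel, ϕ_one]
  exact hx (qs_center D.qs D.nt fun k => h3 ▸ D.i_comm ha2 k x)

end Dat

/-- fixed vectors of a subgroup -/
def fx {A F W : Type*} [Group A] [Field F] [AddCommGroup W] [Module F W]
    (j : A →* (Module.End F W)ˣ) (T : Subgroup A) : AddSubgroup W where
  carrier := {w | ∀ t ∈ T, (j t : Module.End F W) w = w}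
  add_mem' ha hb t ht := by rw [map_add, ha t ht, hb t ht]
  zero_mem' t _ := map_zero _
  neg_mem' ha t ht := by rw [map_neg, ha t ht]

theorem fx_anti {A F W : Type*} [Group A] [Field F] [AddCommGroup W] [Module F W]
    (j : A →* (Module.End F W)ˣ) {S T : Subgroup A} (h : T ≤ S) : fx j S ≤ fx j T :=
  fun _ hw t ht => hw t (h ht)

namespace Dat
variable {K A W : Type*} [Group K] [Finite K] [CommGroup A] [Finite A] [AddCommGroup W] [Finite W]
  [Module (ZMod 2) W] (D : Dat K A (Module.End (ZMod 2) W))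

theorem semireg_case (h2 : ∀ a : A, a ^ 2 = 1) {S C : Subgroup A} (hCS : C ≤ S)
    (hC : ∀ c ∈ C, D.j c = 1) (hSB : S ⊓ D.B ≤ C) (hS : ¬ S ≤ D.B)
    (hq : ∀ s ∈ S, ∀ a ∈ S, D.j s ∈ Fix ((D.j a : Module.End (ZMod 2) W) - 1))
    (hoff : ∀ T ≤ S, Nat.card T * Nat.card (fx D.j T) ≤ Nat.card S * Nat.card (fx D.j S)) :
    False := by
  classical
  haveI := D.charP 2
  obtain ⟨X, hX1, hX2⟩ := H7.exists_complement_of_exponent Nat.prime_two h2 (S ⊓ D.B)
  have hdec : ∀ s ∈ S, ∃ c ∈ S ⊓ D.B, ∃ u ∈ X ⊓ S, c * u = s := fun s hs => by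
    obtain ⟨c, hc, u, hu, e⟩ := mem_sup.1 (hX2 ▸ mem_top s)
    refine ⟨c, hc, u, ⟨hu, ?_⟩, e⟩
    rw [eq_inv_mul_of_mul_eq e]; exact S.mul_mem (S.inv_mem hc.1) hs
  have h0 : Disjoint (X ⊓ S) D.B := by
    rw [disjoint_iff, eq_bot_iff, ← hX1]
    exact fun x hx => ⟨⟨hx.1.2, hx.2⟩, hx.1.1⟩
  obtain ⟨a, ha, ha1⟩ : ∃ a ∈ X ⊓ S, a ≠ 1 := by
    by_contra hcon
    push Not at hcon
    refine hS fun s hs => ?_
    obtain ⟨c, hc, u, hu, rfl⟩ := hdec s hs
    rw [hcon u hu, mul_one]; exact hc.2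
  have haa : a * a = 1 := by rw [← sq, h2]
  obtain ⟨Y, hY1, hY2⟩ := H7.exists_complement_of_exponent Nat.prime_two h2 (zpowers a)
  have haY : a ∉ Y := fun h => ha1 (mem_bot.1 (hY1 ▸ (⟨mem_zpowers a, h⟩ : a ∈ zpowers a ⊓ Y)))
  have hYdec : ∀ u, u ∈ Y ∨ u * a ∈ Y := fun u => by
    obtain ⟨c, hc, v, hv, rfl⟩ := mem_sup.1 (hY2 ▸ mem_top u)
    obtain ⟨n, rfl⟩ := (mem_powers_iff_mem_zpowers.2 hc)
    rcases Nat.even_or_odd' n with ⟨m, rfl | rfl⟩
    · left; simpa [pow_mul, h2] using hv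
    · right; simpa [pow_succ, pow_mul, h2, mul_right_comm _ v a, haa] using hv
  let T := C ⊔ (X ⊓ S ⊓ Y)
  have hTS : T ≤ S := sup_le hCS (inf_le_left.trans inf_le_right)
  have hcard : Nat.card S ≤ 2 * Nat.card T := card_le_two_mul (a := a) fun s hs => by
    obtain ⟨c, hc, u, hu, rfl⟩ := hdec s hs
    rcases hYdec u with h | h
    · exact Or.inl (mul_mem_sup (hSB hc) ⟨hu, h⟩)
    · exact Or.inr (by rw [mul_assoc]; exact mul_mem_sup (hSB hc) ⟨mul_mem hu ha, h⟩)
  have hidx : (fx D.j S).relIndex (fx D.j T) ≤ 2 := by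
    have e1 := AddSubgroup.relIndex_mul_relIndex ⊥ _ _ bot_le (fx_anti D.j hTS)
    rw [AddSubgroup.relIndex_bot_left, AddSubgroup.relIndex_bot_left] at e1
    have e2 := (hoff T hTS).trans (Nat.mul_le_mul_right _ hcard)
    rw [← e1] at e2
    have e3 : 0 < Nat.card T * Nat.card (fx D.j S) := Nat.mul_pos Nat.card_pos Nat.card_pos
    refine Nat.le_of_mul_le_mul_left (?_ : _ ≤ _) e3
    linarith
  obtain ⟨r, n, hr, hr2, hr3, x, hx, hxr⟩ := qs_exists_prime D.qs Nat.prime_two Nat.prime_three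
  have hr5 : 5 ≤ r := by
    have := hr.two_le
    have h4 : r ≠ 4 := fun h => by rw [h] at hr; norm_num at hr
    omega
  have hodd : ¬ 2 ∣ r ^ n := fun h =>
    hr2 ((Nat.prime_dvd_prime_iff_eq Nat.prime_two hr).1 (Nat.prime_two.dvd_of_dvd_pow h)).symm
  letI : Fintype (X ⊓ S : Subgroup A) := Fintype.ofFinite _
  let f : (X ⊓ S : Subgroup A) → K := fun c => if (c : A) ∈ Y then x else x⁻¹
  obtain ⟨y, hy⟩ : ∃ y, y = D.Φ h0 f := ⟨_, rfl⟩
  have hyr : y ^ r ^ n = 1 := by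
    rw [hy, ← map_pow, ← map_one (D.Φ h0)]
    congr 1; funext c
    simp only [f, Pi.pow_apply]; split_ifs <;> simp [hxr]
  have hya : D.j a * y * (D.j a)⁻¹ = y⁻¹ := by
    rw [hy, ← map_inv (D.Φ h0)]
    refine (D.Φ_shift h0 ⟨a, ha⟩ f).trans ?_
    congr 1; funext c
    have hai : a⁻¹ = a := inv_eq_of_mul_eq_one_right haa
    by_cases hc : (c : A) ∈ Y
    · have : a⁻¹ * c ∉ Y := fun h => haY (by simpa using inv_mem (mul_mem h (inv_mem hc)))
      simp [f, hc, this]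
    · have : a⁻¹ * c ∈ Y := by rw [hai, mul_comm]; exact (hYdec c).resolve_left hc
      simp [f, hc, this]
  have hsq : ∀ {M : Subgroup (Module.End (ZMod 2) W)ˣ}, y * y ∈ M → y ∈ M := fun {M} h => by
    obtain ⟨m, hm⟩ := Nat.odd_iff.2 (Nat.two_dvd_ne_zero.1 hodd)
    have : y = (y * y) ^ (m + 1) := by
      rw [← sq, ← pow_mul, show 2 * (m + 1) = r ^ n + 1 by omega, pow_succ, hyr, one_mul]
    rw [this]; exact pow_mem h _
  have hcomm : ⁅y, D.j a⁆ = y * y := by
    have : D.j a * y⁻¹ * (D.j a)⁻¹ = y := by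
      calc _ = (D.j a * y * (D.j a)⁻¹)⁻¹ := by group
        _ = y := by rw [hya, inv_inv]
    rw [commutatorElement_def, mul_assoc, mul_assoc, ← mul_assoc (D.j a), this]
  have hT : T ≤ (Fix ((y : Module.End (ZMod 2) W) - 1)).comap D.j := by
    refine sup_le (fun c hc => by rw [mem_comap, hC c hc]; exact one_mem _) fun t ht => ?_
    have c1 : Commute y (D.j t) := by
      have := D.Φ_shift h0 ⟨t, ht.1⟩ f
      rw [mul_inv_eq_iff_eq_mul] at this
      rw [hy]
      refine (this.trans ?_).symm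
      congr 2; funext c
      simp [f, Y.mul_mem_cancel_left (Y.inv_mem ht.2)]
    exact fix_comm c1 (hsq (hcomm ▸ comm_fix (hq a ha.2 t ht.1.2) (commute_sub_one c1)))
  obtain ⟨c0, hc0⟩ := sub_one_eq_mul_sq (y := (y : Module.End (ZMod 2) W)) hodd
    (by rw [← Units.val_pow_eq_pow_val, hyr, Units.val_one])
  let U : AddSubgroup W := (LinearMap.range ((y : Module.End (ZMod 2) W) - 1)).toAddSubgroup
  have hUT : U ≤ fx D.j T := by
    rintro _ ⟨w, rfl⟩ t ht
    exact LinearMap.congr_fun (mem_Fix.1 (hT ht)) w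
  have hU0 : ∀ u ∈ U, (y : Module.End (ZMod 2) W) u = u → u = 0 := by
    rintro _ ⟨w, rfl⟩ h
    rw [hc0, Module.End.mul_apply, Module.End.mul_apply, LinearMap.sub_apply, h]; simp
  have hUy : ∀ g : (Module.End (ZMod 2) W)ˣ, Commute g y → ∀ u ∈ U,
      (g : Module.End (ZMod 2) W) u ∈ U := by
    rintro g hg _ ⟨w, rfl⟩
    exact ⟨(g : Module.End (ZMod 2) W) w, (LinearMap.congr_fun (commute_sub_one hg).eq w).symm⟩
  let yi : W →+ W := ((y⁻¹ : (Module.End (ZMod 2) W)ˣ) : Module.End (ZMod 2) W).toAddMonoidHom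
  have hne : (fx D.j S).relIndex (fx D.j T) ≠ 0 := AddSubgroup.index_ne_zero_of_finite
  have hU4 : Nat.card U ≤ 4 := by
    have e1 : (fx D.j S).relIndex U ≤ 2 :=
      (AddSubgroup.relIndex_le_of_le_right hUT hne).trans hidx
    have e2 : ((fx D.j S).comap yi).relIndex U ≤ 2 := by
      rw [AddSubgroup.relIndex_comap]
      refine (AddSubgroup.relIndex_le_of_le_right ?_ hne).trans hidx
      rintro _ ⟨u, hu, rfl⟩
      exact hUT (hUy _ (Commute.refl y).inv_left u hu)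
    have e3 := (AddSubgroup.relIndex_inf_le (H := fx D.j S) (K := (fx D.j S).comap yi) (L := U)).trans
      (Nat.mul_le_mul e1 e2)
    rw [← AddSubgroup.inf_relIndex_right, show fx D.j S ⊓ (fx D.j S).comap yi ⊓ U = ⊥ from ?_,
      AddSubgroup.relIndex_bot_left] at e3
    · exact e3
    rw [eq_bot_iff]
    rintro u ⟨⟨h3, h4⟩, hu⟩
    refine hU0 u hu ?_
    let M := MulAction.stabilizer (Module.End (ZMod 2) W)ˣ u
    have m1 : D.j a ∈ M := h3 a ha.2
    have m2 : y * D.j a * y⁻¹ ∈ M := by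
      show (y : Module.End (ZMod 2) W) ((D.j a : Module.End (ZMod 2) W) (yi u)) = u
      rw [h4 a ha.2]
      exact LinearMap.congr_fun y.mul_inv u
    exact hsq (M := M) (hcomm ▸ mul_mem m2 (inv_mem m1))
  have hy1 : y = 1 := by
    refine Units.ext (sub_eq_zero.1 (LinearMap.ext fun w => ?_))
    let g : U → U := fun u => ⟨(y : Module.End (ZMod 2) W) u, hUy y (Commute.refl y) u u.2⟩
    have hg : ∀ m (u : U), (g^[m] u : W) = ((y ^ m : (Module.End (ZMod 2) W)ˣ) :
        Module.End (ZMod 2) W) u := fun m u => by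
      induction m with
      | zero => rfl
      | succ m ih => rw [Function.iterate_succ_apply', pow_succ', Units.val_mul,
          Module.End.mul_apply, ← ih]
    let u : U := ⟨_, w, rfl⟩
    have hper : Function.IsPeriodicPt g (r ^ n) u := Subtype.ext (by rw [hg, hyr]; rfl)
    obtain ⟨k, -, hk⟩ := (Nat.dvd_prime_pow hr).1 hper.minimalPeriod_dvd
    letI := Fintype.ofFinite U
    have hle := Function.minimalPeriod_le_card (f := g) (x := u)
    rw [← Nat.card_eq_fintype_card, hk] at hle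
    have hk0 : k = 0 := by
      by_contra h
      have := Nat.le_self_pow h r
      omega
    rw [hk0, pow_zero, Function.minimalPeriod_eq_one_iff_isFixedPt] at hk
    exact hU0 _ u.2 (congrArg Subtype.val hk)
  refine hx (qs_center D.qs D.nt fun k => ?_)
  have := D.comm_Φ h0 1 f k
  rw [← hy, hy1, commutatorElement_one_right, OneMemClass.coe_one, ϕ_one,
    show f 1 = x by simp [f], map_commutatorElement] at this
  exact commutatorElement_eq_one_iff_commute.1 this.symm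

end Dat

end H1.PGV
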