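import Mathlib
import Cfsg.Agent.H1.PGV3
import Cfsg.Agent.H1.FTLib
import Cfsg.Agent.H10.Act

/-! The `P(G,V)`-theorem, part 4: two components swapped by an involution. -/

set_option autoImplicit false
open Cfsg Subgroup
open scoped commutatorElement

namespace H1.PGV

theorem exists_fixed_elt {G : Type*} [Group G] [Finite G] {p : ℕ} [Fact p.Prime] {I J : Subgroup G}
    (hJ : IsPGroup p J) (hn : J ≤ normalizer (I : Set G)) (hd : p ∣ Nat.card I) :
    ∃ x ∈ I, orderOf x = p ∧ ∀ y ∈ J, Commute x y := by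
  obtain ⟨T, hT, hJT⟩ := H10.exists_isSylowIn_ge hJ (le_sup_left : J ≤ J ⊔ I)
  have h1 := hT.inf_normal le_sup_right (sup_le hn le_normalizer)
  have h2 := H10.inf_CC_ne_bot' h1.isPGroup hJ
    (H1.le_normalizer_inf (hJT.trans le_normalizer) hn) (h1.ne_bot hd)
  obtain ⟨x, hx, ho⟩ := H10.exists_orderOf_eq_of_ne_bot (h1.isPGroup.to_le inf_le_left) h2
  exact ⟨x, hx.1.2, ho, fun y hy => (mem_centralizer_iff.1 hx.2 y hy).symm⟩

variable {K A W : Type*} [Group K] [CommGroup A] [AddCommGroup W] [Module (ZMod 2) W]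

abbrev En (W : Type*) [AddCommGroup W] [Module (ZMod 2) W] := Module.End (ZMod 2) W

/-- The irreducible situation. -/
structure FinH (D : Dat K A (En W)) (a : A) (S : Subgroup A) : Prop where
  haB : a ∉ D.B
  haa : a * a = 1
  hSB : S ≤ D.B
  hq : ∀ b ∈ S, D.j b ∈ Fix ((D.j a : En W) - 1)
  hδ : ∀ k, D.i k * D.ϕ a k ∈ Fix ((D.j a : En W) - 1)
  irr : ∀ U : Submodule (ZMod 2) W, (∀ k, ∀ v ∈ U, (D.i k : En W) v ∈ U) →
    (∀ v ∈ U, (D.j a : En W) v ∈ U) → (∀ b ∈ S, ∀ v ∈ U, (D.j b : En W) v ∈ U) → U = ⊥ ∨ U = ⊤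

theorem two (X : En W) : X + X = 0 := by
  rw [← two_smul (ZMod 2) X, show (2 : ZMod 2) = 0 from rfl, zero_smul]

/-- commutes with everything -/
def Cen (D : Dat K A (En W)) (a : A) (S : Subgroup A) (θ : En W) : Prop :=
  (∀ k, Commute θ (D.i k)) ∧ Commute θ (D.j a) ∧ ∀ b ∈ S, Commute θ (D.j b)

def C2 (D : Dat K A (En W)) (a : A) (X : En W) : Prop := ∀ k, Commute X (D.ϕ a k)

def Bar (D : Dat K A (En W)) (a : A) (r r' : En W) : Prop :=
  C2 D a r ∧ C2 D a r' ∧ (∀ s, C2 D a s → Commute ((D.j a : En W) * r * D.j a) s) ∧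
    (D.j a : En W) * r * (D.j a - 1) = r' * (D.j a - 1)

namespace FinH
variable {D : Dat K A (En W)} {a : A} {S : Subgroup A} (h : FinH D a S)
include h

theorem aa : (D.j a : En W) * D.j a = 1 := by
  rw [← Units.val_mul, ← map_mul, h.haa, map_one, Units.val_one]

theorem aα : (D.j a : En W) * (D.j a - 1) = D.j a - 1 := by
  linear_combination (norm := noncomm_ring) h.aa + two (1 : En W) - two (D.j a : En W)

theorem ϕ_eq (k : K) : (D.ϕ a k : En W) = D.j a * D.i k * D.j a := by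
  rw [Dat.ϕ_apply, Units.val_mul, Units.val_mul, Units.inv_eq_of_mul_eq_one_right h.aa]

theorem ϕα (k : K) : (D.ϕ a k : En W) * (D.j a - 1) = D.i k⁻¹ * (D.j a - 1) := by
  have := mem_Fix.1 (h.hδ k)
  have e : (D.i k⁻¹ : En W) * D.i k = 1 := by rw [← Units.val_mul, ← map_mul]; simp
  rw [Units.val_mul] at this
  linear_combination (norm := noncomm_ring) (D.i k⁻¹ : En W) * this -
    e * (D.ϕ a k : En W) * ((D.j a : En W) - 1)

theorem iα (k : K) : (D.i k : En W) * (D.j a - 1) = D.ϕ a k⁻¹ * (D.j a - 1) := by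
  rw [h.ϕα, inv_inv]

theorem α_ne : (D.j a : En W) - 1 ≠ 0 := fun h0 => by
  have h1 : D.j a = 1 := Units.ext (sub_eq_zero.1 h0)
  obtain ⟨k, hk⟩ := D.nt
  refine hk (hom_eq_one_of_perfect D.perfect D.i (fun x y => ?_) k)
  simpa [Dat.ϕ_apply, h1] using D.i_comm h.haB x y

theorem schur {θ : En W} (hθ : Cen D a S θ) (h0 : θ ≠ 0) {w : W} (hw : θ w = 0) : w = 0 := by
  have key : ∀ g : En W, Commute θ g → ∀ v ∈ LinearMap.ker θ, g v ∈ LinearMap.ker θ := fun g hg v hv => by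
    rw [LinearMap.mem_ker, ← Module.End.mul_apply, hg.eq, Module.End.mul_apply,
      LinearMap.mem_ker.1 hv, map_zero]
  rcases h.irr (LinearMap.ker θ) (fun k => key _ (hθ.1 k)) (key _ hθ.2.1)
    (fun b hb => key _ (hθ.2.2 b hb)) with h1 | h1
  · exact (Submodule.mem_bot _).1 (h1 ▸ LinearMap.mem_ker.2 hw)
  · exact (h0 (LinearMap.ker_eq_top.1 h1)).elim

theorem cancel {θ X : En W} (hθ : Cen D a S θ) (h0 : θ ≠ 0) (hX : θ * X = 0) : X = 0 :=
  LinearMap.ext fun w => h.schur hθ h0 (LinearMap.congr_fun hX w)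

theorem eq_zero {X : En W} (h1 : C2 D a X) (h2 : X * (D.j a - 1) = 0) : X = 0 := by
  let U := Submodule.span (ZMod 2) {v | ∃ k w, v = ((D.ϕ a k : En W) * (D.j a - 1)) w}
  have key : ∀ g : En W, (∀ k, ∃ k', g * (D.ϕ a k * (D.j a - 1)) = D.ϕ a k' * (D.j a - 1)) →
      ∀ v ∈ U, g v ∈ U := fun g hg v hv => by
    have : U ≤ U.comap g := Submodule.span_le.2 (by
      rintro _ ⟨k, w, rfl⟩
      obtain ⟨k', e⟩ := hg k
      exact Submodule.subset_span ⟨k', w, LinearMap.congr_fun e w⟩)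
    exact this hv
  rcases h.irr U (fun l => key _ fun k => ⟨k * l⁻¹, by
      rw [← mul_assoc, (D.i_comm h.haB l k).units_val.eq, mul_assoc, h.iα, map_mul, Units.val_mul,
        mul_assoc]⟩)
    (key _ fun k => ⟨k⁻¹, by
      rw [← h.iα, h.ϕ_eq]
      linear_combination (norm := noncomm_ring) h.aa * (D.i k : En W) * (D.j a : En W) * ((D.j a : En W) - 1)
        + (D.i k : En W) * h.aα⟩)
    (fun b hb => key _ fun k => ⟨D.β b k, by
      rw [← D.conjB_ϕ (h.hSB hb), Units.val_mul, Units.val_mul, mul_assoc _ _ ((D.j a : En W) - 1),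
        mem_Fix.1 (inv_mem (h.hq b hb)), mul_assoc]⟩) with h3 | h3
  · refine (h.α_ne (LinearMap.ext fun w => ?_)).elim
    have : ((D.ϕ a 1 : En W) * (D.j a - 1)) w ∈ U := Submodule.subset_span ⟨1, w, rfl⟩
    rw [h3] at this
    simpa using this
  · have : U ≤ LinearMap.ker X := Submodule.span_le.2 (by
      rintro _ ⟨k, w, rfl⟩
      show (X * (D.ϕ a k * (D.j a - 1))) w = 0
      rw [← mul_assoc, (h1 k).eq, mul_assoc, h2, mul_zero]; rfl)
    exact LinearMap.ker_eq_top.1 (top_le_iff.1 (h3 ▸ this))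

theorem c2_i (k : K) : C2 D a (D.i k) := fun l => (D.i_comm h.haB k l).units_val

theorem bar_i (k : K) : Bar D a (D.i k) (D.i k⁻¹) :=
  ⟨h.c2_i k, h.c2_i _, fun s hs => by rw [← h.ϕ_eq]; exact (hs k).symm, by
    rw [← h.ϕα, h.ϕ_eq, mul_assoc (_ * _) _ ((D.j a : En W) - 1), h.aα]⟩

theorem bar_one : Bar D a 1 1 := by simpa using h.bar_i 1

omit h in
theorem bar_add {r r' s s' : En W} (h1 : Bar D a r r') (h2 : Bar D a s s') :
    Bar D a (r + s) (r' + s') :=
  ⟨fun k => (h1.1 k).add_left (h2.1 k), fun k => (h1.2.1 k).add_left (h2.2.1 k), fun t ht => by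
    rw [mul_add, add_mul]; exact (h1.2.2.1 t ht).add_left (h2.2.2.1 t ht), by
    linear_combination (norm := noncomm_ring) h1.2.2.2 + h2.2.2.2⟩

theorem bar_mul {r r' s s' : En W} (h1 : Bar D a r r') (h2 : Bar D a s s') :
    Bar D a (r * s) (s' * r') := by
  have e : (D.j a : En W) * (r * s) * D.j a = D.j a * r * D.j a * (D.j a * s * D.j a) := by
    linear_combination (norm := noncomm_ring) -(D.j a : En W) * r * h.aa * s * (D.j a : En W)
  refine ⟨fun k => (h1.1 k).mul_left (h2.1 k), fun k => (h2.2.1 k).mul_left (h1.2.1 k),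
    fun t ht => e ▸ (h1.2.2.1 t ht).mul_left (h2.2.2.1 t ht), ?_⟩
  have e1 := (h1.2.2.1 s' h2.2.1).eq
  linear_combination (norm := noncomm_ring) -(D.j a : En W) * r * h.aa * s * ((D.j a : En W) - 1) +
    (D.j a : En W) * r * (D.j a : En W) * h2.2.2.2 + e1 * ((D.j a : En W) - 1) +
    s' * (D.j a : En W) * r * h.aα + s' * h1.2.2.2

theorem cen {r r' : En W} (h1 : Bar D a r r') : Cen D a S (r + r') := by
  have e0 : (r + r') * (D.j a - 1) = (D.j a - 1) * r * (D.j a - 1) := by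
    linear_combination (norm := noncomm_ring) -h1.2.2.2 + two (r * ((D.j a : En W) - 1))
  have c2 : C2 D a (r + r') := fun k => (h1.1 k).add_left (h1.2.1 k)
  generalize r + r' = θ at *
  have c1 : ∀ k, Commute θ (D.i k) := fun k => sub_eq_zero.1 (h.eq_zero
    (fun l => ((c2 l).mul_left (h.c2_i k l)).sub_left ((h.c2_i k l).mul_left (c2 l))) (by
      linear_combination (norm := noncomm_ring) θ * h.iα k + (c2 k⁻¹).eq * ((D.j a : En W) - 1) +
        (D.ϕ a k⁻¹ : En W) * e0 - (D.i k : En W) * e0 - h.iα k * r * ((D.j a : En W) - 1)))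
  refine ⟨c1, ?_, fun b hb => ?_⟩
  · have : (D.j a : En W) * θ * D.j a - θ = 0 := h.eq_zero (fun k => Commute.sub_left (by
      rw [h.ϕ_eq]
      show _ = _
      linear_combination (norm := noncomm_ring) (D.j a : En W) * θ * h.aa * (D.i k : En W) * (D.j a : En W) +
        (D.j a : En W) * (c1 k).eq * (D.j a : En W) - (D.j a : En W) * (D.i k : En W) * h.aa * θ * (D.j a : En W))
      (c2 k)) (by
      linear_combination (norm := noncomm_ring) (D.j a : En W) * θ * h.aα + (D.j a : En W) * e0 - e0 +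
        h.aα * r * ((D.j a : En W) - 1))
    show _ = _
    linear_combination (norm := noncomm_ring) (D.j a : En W) * this - h.aa * θ * (D.j a : En W)
  · have hb' := h.hSB hb
    have e1 := mem_Fix.1 (h.hq b hb)
    refine sub_eq_zero.1 ?_
    have e2 : (D.j b : En W) * D.j b⁻¹ = 1 := by rw [← Units.val_mul, ← map_mul]; simp
    have e3 : (D.j b⁻¹ : En W) * D.j b = 1 := by rw [← Units.val_mul, ← map_mul]; simp
    have e4 := mem_Fix.1 (h.hq _ (inv_mem hb))
    have : (D.j b : En W) * θ * D.j b⁻¹ - θ = 0 := h.eq_zero (fun k => Commute.sub_left (by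
      have e5 : (D.j b⁻¹ : En W) * D.ϕ a k = D.ϕ a (D.β b⁻¹ k) * D.j b⁻¹ := by
        rw [← D.conjB_ϕ (inv_mem hb'), ← Units.val_mul, ← Units.val_mul]; simp
      show _ = _
      linear_combination (norm := noncomm_ring) (D.j b : En W) * θ * e5 +
        (D.j b : En W) * (c2 (D.β b⁻¹ k)).eq * (D.j b⁻¹ : En W) +
        (D.j b : En W) * (D.ϕ a (D.β b⁻¹ k) : En W) * (-e3) * θ * (D.j b⁻¹ : En W) -
        (D.j b : En W) * e5 * (D.j b : En W) * θ * (D.j b⁻¹ : En W) +
        e2 * (D.ϕ a k : En W) * (D.j b : En W) * θ * (D.j b⁻¹ : En W)) (c2 k)) (by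
      linear_combination (norm := noncomm_ring) (D.j b : En W) * θ * e4 + (D.j b : En W) * e0 - e0 +
        e1 * r * ((D.j a : En W) - 1))
    linear_combination (norm := noncomm_ring) -this * (D.j b : En W) + (D.j b : En W) * θ * e3

end FinH

end H1.PGV
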