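import Cfsg.Agent.H10.SylowIn
import Cfsg.Prelude.Def_HallClasses

/-!
Pronormal subgroups.
-/

set_option autoImplicit false

namespace H1

open Subgroup Cfsg H10
open scoped commutatorElement

variable {G : Type*} [Group G]

/-- Pronormality at one element. -/
def PrAt (H : Subgroup G) (g : G) : Prop :=
  ∀ K : Subgroup G, H ≤ K → cj g H ≤ K → ∃ x ∈ K, cj g H = cj x H

theorem isPronormal_iff {H : Subgroup G} : IsPronormal H ↔ ∀ g, PrAt H g := by
  constructor
  · intro h g K h1 h2
    obtain ⟨x, hx, e⟩ := h g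
    exact ⟨x, sup_le h1 h2 hx, e⟩
  · intro h g
    exact h g _ le_sup_left le_sup_right

theorem PrAt.of_mul {H K : Subgroup G} {y a n : G} (h : PrAt H a) (hy : y ∈ K)
    (hn : n ∈ normalizer (H : Set G)) (h1 : H ≤ K) (h2 : cj (y * a * n) H ≤ K) :
    ∃ x ∈ K, cj (y * a * n) H = cj x H := by
  rw [cj_mul, cj_eq_of_mem_NN hn, cj_mul] at h2 ⊢
  have h3 : cj a H ≤ K := by
    rw [cj_le_iff, cj_eq_of_mem (inv_mem hy)] at h2; exact h2
  obtain ⟨x, hx, e⟩ := h K h1 h3
  exact ⟨y * x, mul_mem hy hx, by rw [e, cj_mul]⟩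

theorem PrAt.map {G' : Type*} [Group G'] {H : Subgroup G} {g : G} (h : PrAt H g) (f : G →* G') :
    PrAt (H.map f) (f g) := by
  intro K h1 h2
  rw [← map_cj, map_le_iff_le_comap] at h2
  obtain ⟨x, hx, e⟩ := h (K.comap f) (map_le_iff_le_comap.1 h1) h2
  exact ⟨f x, hx, by rw [← map_cj, ← map_cj, e]⟩

theorem PrAt.exists_of_map {G' : Type*} [Group G'] {H K : Subgroup G} {g : G} (f : G →* G')
    (h : PrAt (H.map f) (f g)) (h1 : H ≤ K) (h2 : cj g H ≤ K) :
    ∃ y ∈ K, f (y⁻¹ * g) ∈ normalizer ((H.map f : Subgroup G') : Set G') := by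
  obtain ⟨_, ⟨y, hy, rfl⟩, e⟩ := h (K.map f) (map_mono h1) (by rw [← map_cj]; exact map_mono h2)
  refine ⟨y, hy, ?_⟩
  rw [mem_NN, map_mul, cj_mul, e, map_inv, cj_inv_cj]

theorem PrAt.of_map {G' : Type*} [Group G'] {H : Subgroup G} {g : G} (f : G →* G')
    (hk : f.ker ≤ H) (h : PrAt (H.map f) (f g)) : PrAt H g := by
  intro K h1 h2
  obtain ⟨y, hy, e⟩ := h.exists_of_map f h1 h2
  refine ⟨y, hy, ?_⟩
  rw [mem_NN, ← map_cj] at e
  have h3 := congrArg (comap f) e
  rw [comap_map_eq, comap_map_eq, sup_of_le_left hk, sup_of_le_left, cj_mul, cj_eq_iff, inv_inv] at h3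
  · exact h3
  · rw [← cj_eq_of_normal (y⁻¹ * g) f.ker]; exact cj_mono _ hk

theorem IsPronormal.map' {G' : Type*} [Group G'] {H : Subgroup G} (h : IsPronormal H) {f : G →* G'}
    (hf : Function.Surjective f) : IsPronormal (H.map f) := by
  rw [isPronormal_iff] at h ⊢
  intro g
  obtain ⟨g, rfl⟩ := hf g
  exact (h g).map f

theorem isPronormal_subgroupOf_iff {D A : Subgroup G} (h : D ≤ A) :
    IsPronormal (D.subgroupOf A) ↔ ∀ a ∈ A, PrAt D a := by
  rw [isPronormal_iff]
  constructor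
  · intro h1 a ha
    have := (h1 ⟨a, ha⟩).map A.subtype
    rwa [map_subgroupOf_of_le h] at this
  · intro h1 a
    refine PrAt.of_map A.subtype (by simp) ?_
    rw [map_subgroupOf_of_le h]
    exact h1 a a.2

theorem IsPronormal.cj' {H : Subgroup G} (h : IsPronormal H) (g : G) : IsPronormal (cj g H) :=
  IsPronormal.map' h (f := (MulAut.conj g).toMonoidHom) (MulAut.conj g).surjective

theorem IsPronormal.map_normalizer {G' : Type*} [Group G'] {H : Subgroup G} (h : IsPronormal H)
    {f : G →* G'} (hf : Function.Surjective f) :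
    (normalizer (H : Set G)).map f = normalizer ((H.map f : Subgroup G') : Set G') := by
  refine le_antisymm (map_NN_le f H) fun g hg => ?_
  obtain ⟨g, rfl⟩ := hf g
  rw [mem_NN, ← map_cj] at hg
  obtain ⟨x, hx, e⟩ := isPronormal_iff.1 h g ((H.map f).comap f) (le_comap_map f H)
    (by rw [← hg]; exact le_comap_map f _)
  obtain ⟨y, hy, e'⟩ := hx
  refine ⟨y * (x⁻¹ * g), mul_mem (le_normalizer hy) ?_, by simp [e']⟩
  rw [mem_NN, cj_mul, e, cj_inv_cj]

theorem exists_sylow_le_iff [Finite G] {p : ℕ} [Fact p.Prime] {K : Subgroup G} :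
    (∃ P : Sylow p G, (P : Subgroup G) ≤ K) ↔ ¬ p ∣ K.index := by
  constructor
  · rintro ⟨P, hP⟩ h
    exact P.not_dvd_index (h.trans (index_dvd_of_le hP))
  · intro h
    obtain ⟨T, hT⟩ := exists_isSylowIn p K
    have h1 : IsSylowIn p T ⊤ := by
      refine isSylowIn_of_not_dvd le_top hT.isPGroup ?_
      rw [relIndex_top_right, ← relIndex_mul_index hT.le]
      intro h2
      rcases (Nat.Prime.dvd_mul Fact.out).1 h2 with h3 | h3
      · exact hT.not_dvd_relIndex h3
      · exact h h3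
    exact ⟨h1.toSylowTop, hT.le⟩

/-- All overgroups of Sylow `p`-subgroups are pronormal. -/
def PronSyl (p : ℕ) (G : Type*) [Group G] : Prop :=
  ∀ K : Subgroup G, (∃ P : Sylow p G, (P : Subgroup G) ≤ K) → IsPronormal K

theorem pronSyl_quotient_iff [Finite G] {p : ℕ} [Fact p.Prime] {T N : Subgroup G} (hT : IsPGroup p T)
    (hTN : T ≤ N) [(T.subgroupOf N).Normal] :
    PronSyl p (N ⧸ T.subgroupOf N) ↔
      ∀ K : Subgroup G, T ≤ K → K ≤ N → ¬ p ∣ K.relIndex N → ∀ g ∈ N, PrAt K g := by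
  constructor
  · intro h K h1 h2 h3
    rw [← isPronormal_subgroupOf_iff h2, isPronormal_iff]
    intro g
    have hk : (QuotientGroup.mk' (T.subgroupOf N)).ker ≤ K.subgroupOf N := by
      rw [QuotientGroup.ker_mk']; exact comap_mono h1
    refine PrAt.of_map _ hk (isPronormal_iff.1 (h _ (exists_sylow_le_iff.2 ?_)) _)
    rw [index_map_eq _ (QuotientGroup.mk'_surjective _) hk]
    exact h3
  · intro h K hK
    rw [exists_sylow_le_iff, ← index_comap_of_surjective _ (QuotientGroup.mk'_surjective _)] at hK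
    have h1 := h ((K.comap (QuotientGroup.mk' _)).map N.subtype)
      (le_map_subtype_iff.2 ⟨hTN, fun x hx => by
        rw [mem_comap, (QuotientGroup.eq_one_iff x).2 hx |> (show (QuotientGroup.mk' _ x = 1) from ·)]
        exact one_mem _⟩) (map_subtype_le _)
      (by rw [relIndex, subgroupOf_map_subtype']; exact hK)
    rw [← isPronormal_subgroupOf_iff (map_subtype_le _), subgroupOf_map_subtype'] at h1
    have := IsPronormal.map' h1 (QuotientGroup.mk'_surjective (T.subgroupOf N))
    rwa [map_comap_eq_self_of_surjective (QuotientGroup.mk'_surjective _)] at this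

theorem not_dvd_index_normalizer_of_sylowIn [Finite G] {p : ℕ} [Fact p.Prime] {A T : Subgroup G}
    [A.Normal] (hT : IsSylowIn p T A) : ¬ p ∣ (normalizer (T : Set G)).index := by
  obtain ⟨S, hS, hTS⟩ := exists_isSylowIn_ge hT.isPGroup (le_top : T ≤ ⊤)
  have h1 : S ⊓ A = T := hT.eq_of_le (hS.isPGroup.to_inf_left) (le_inf hTS hT.le) inf_le_right
  rw [← exists_sylow_le_iff]
  refine ⟨hS.toSylowTop, ?_⟩
  rw [← h1]
  exact le_NN_inf (le_NN_self S) (le_NN_of_normal S A)

theorem pronSyl_iff_of_normal [Finite G] {p : ℕ} [Fact p.Prime] (A : Subgroup G) [A.Normal]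
    (hA : PronSyl p A) (hQ : PronSyl p (G ⧸ A)) {T : Subgroup G} (hT : IsSylowIn p T A)
    [(T.subgroupOf (normalizer (T : Set G))).Normal] :
    PronSyl p G ↔ (PronSyl p (normalizer (T : Set G) ⧸ T.subgroupOf (normalizer (T : Set G))) ∧
      ∀ K : Subgroup G, (∃ P : Sylow p G, (P : Subgroup G) ≤ K) →
        (normalizer (K : Set G)).map (QuotientGroup.mk' A) =
          normalizer ((K.map (QuotientGroup.mk' A) : Subgroup (G ⧸ A)) : Set (G ⧸ A))) := by
  rw [pronSyl_quotient_iff hT.isPGroup (le_NN_self T)]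
  constructor
  · intro h
    refine ⟨fun K _ h2 h3 g _ => isPronormal_iff.1 (h K (exists_sylow_le_iff.2 ?_)) g,
      fun K hK => IsPronormal.map_normalizer (h K hK) (QuotientGroup.mk'_surjective A)⟩
    rw [← relIndex_mul_index h2]
    intro h4
    rcases (Nat.Prime.dvd_mul Fact.out).1 h4 with h5 | h5
    · exact h3 h5
    · exact not_dvd_index_normalizer_of_sylowIn hT h5
  · rintro ⟨h1, h2⟩
    have key : ∀ H : Subgroup G, (∃ P : Sylow p G, (P : Subgroup G) ≤ H) → T ≤ H → IsPronormal H := by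
      intro H hH hTH
      -- a Sylow subgroup of `G` between `T` and `H`
      obtain ⟨S, hS, hTS⟩ := exists_isSylowIn_ge hT.isPGroup hTH
      have hS' : IsSylowIn p S ⊤ := by
        obtain ⟨P, hP⟩ := hH
        exact isSylowIn_of_card_ge (isSylowIn_top P) hS.isPGroup le_top
          (hS.card_le P.isPGroup' hP)
      have hSA : S ⊓ A = T := hT.eq_of_le (hS.isPGroup.to_inf_left) (le_inf hTS hT.le) inf_le_right
      have hSN : S ≤ normalizer (T : Set G) := by
        rw [← hSA]; exact le_NN_inf (le_NN_self S) (le_NN_of_normal S A)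
      have hTD : IsSylowIn p T (H ⊓ A) := hT.of_le (le_inf hTH hT.le) inf_le_right
      have hHD : H ≤ normalizer ((H ⊓ A : Subgroup G) : Set G) :=
        le_NN_inf (le_NN_self H) (le_NN_of_normal H A)
      have hfac : (H ⊓ A) ⊔ (H ⊓ normalizer (T : Set G)) = H := hTD.frattini_sup inf_le_left hHD
      -- elements normalizing `T` and `H ⊓ A`
      have s1 : ∀ b ∈ normalizer (T : Set G), b ∈ normalizer ((H ⊓ A : Subgroup G) : Set G) →
          PrAt H b := by
        intro b hb hbD K hK1 hK2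
        have h3 := h1 (H ⊓ normalizer (T : Set G)) (le_inf hTH (le_NN_self T)) inf_le_right (by
          intro h4
          have h5 := (hS'.of_le hSN le_top).not_dvd_relIndex
          exact h5 (h4.trans (relIndex_dvd_of_le_left _ (le_inf hS.le hSN)))) b hb
        obtain ⟨x, hx, e⟩ := h3 (K ⊓ normalizer ((H ⊓ A : Subgroup G) : Set G))
          (le_inf (inf_le_left.trans hK1) (inf_le_left.trans hHD))
          (le_inf ((cj_mono b inf_le_left).trans hK2) (cj_le_of_mem hbD (inf_le_left.trans hHD)))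
        refine ⟨x, hx.1, ?_⟩
        rw [← hfac, cj_sup, cj_sup, e, cj_eq_of_mem_NN hbD, cj_eq_of_mem_NN hx.2]
      have s2 : ∀ b ∈ normalizer ((H ⊓ A : Subgroup G) : Set G), PrAt H b := by
        intro b hb K hK1 hK2
        obtain ⟨d, hd, c, hc, rfl⟩ := hTD.frattini' (le_NN_self _) le_rfl hb
        have := (s1 c hc.2 hc.1).of_mul (hK1 hd.1) (one_mem _) hK1 (by simpa using hK2)
        simpa using this
      have s3 : ∀ a ∈ A, PrAt H a := by
        intro a ha K hK1 hK2
        have h3 := (isPronormal_subgroupOf_iff (inf_le_right : H ⊓ A ≤ A)).1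
          (hA _ ⟨hT.toSylow, comap_mono hTD.le⟩) a ha
        obtain ⟨x, hx, e⟩ := h3 K (inf_le_left.trans hK1) ((cj_mono a inf_le_left).trans hK2)
        have := (s2 (x⁻¹ * a) (by rw [mem_NN, cj_mul, e, cj_inv_cj])).of_mul hx (one_mem _) hK1
          (by simpa using hK2)
        simpa using this
      rw [isPronormal_iff]
      intro g K hK1 hK2
      have h3 : IsPronormal (H.map (QuotientGroup.mk' A)) := by
        obtain ⟨P, hP⟩ := hH
        exact hQ _ ⟨((isSylowIn_top P).map_top (QuotientGroup.mk'_surjective A)).toSylowTop,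
          map_mono hP⟩
      obtain ⟨y, hy, e⟩ := (isPronormal_iff.1 h3 _).exists_of_map (QuotientGroup.mk' A) hK1 hK2
      rw [← h2 H hH] at e
      obtain ⟨n, hn, e⟩ := e
      have h4 : y⁻¹ * g * n⁻¹ ∈ A := by
        rw [← QuotientGroup.eq_one_iff, QuotientGroup.mk_mul, QuotientGroup.mk_inv, mul_inv_eq_one]
        exact e.symm
      have := (s3 _ h4).of_mul hy hn hK1 (by simpa [mul_assoc] using hK2)
      simpa [mul_assoc] using this
    rintro H ⟨P, hP⟩
    have h3 : IsSylowIn p ((P : Subgroup G) ⊓ A) A :=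
      (isSylowIn_top P).inf_normal le_top (le_NN_of_normal _ A)
    obtain ⟨a, -, e⟩ := h3.exists_cj hT
    have h4 := key (cj a H) ⟨((isSylowIn_top P).cj_top a).toSylowTop, cj_mono a hP⟩
      (by rw [← e]; exact cj_mono a (inf_le_left.trans hP))
    simpa using IsPronormal.cj' h4 a⁻¹

theorem pronSyl_of_self_normalizing [Finite G] {p : ℕ} [Fact p.Prime]
    (h : ∀ P : Sylow p G, normalizer ((P : Subgroup G) : Set G) = P) :
    PronSyl p G ∧ ∀ K : Subgroup G, (∃ P : Sylow p G, (P : Subgroup G) ≤ K) →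
      normalizer (K : Set G) = K := by
  constructor
  · rintro K ⟨P, hP⟩
    rw [isPronormal_iff]
    intro g L h1 h2
    obtain ⟨x, hx, e⟩ := (isSylowIn_of_sylow_le P (hP.trans h1)).exists_cj
      (((isSylowIn_top P).cj_top g).of_le ((cj_mono g hP).trans h2) le_top)
    refine ⟨x, hx, ?_⟩
    have h3 : x⁻¹ * g ∈ K := by
      apply hP
      rw [← h P, mem_NN, cj_mul, ← e, cj_inv_cj]
    conv_rhs => rw [← cj_eq_of_mem h3, ← cj_mul, mul_inv_cancel_left]
  · rintro K ⟨P, hP⟩
    refine le_antisymm (fun g hg => ?_) (le_NN_self K)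
    obtain ⟨a, ha, b, hb, rfl⟩ := (isSylowIn_of_sylow_le P hP).frattini' (le_NN_self K) le_rfl hg
    exact mul_mem ha (hP (h P ▸ hb.2))

end H1
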