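import Cfsg.Agent.H3.Critical
import Cfsg.Agent.H10.Act

/-!
A characteristic subgroup of exponent `p` (or `4`) detecting coprime action.
-/

set_option autoImplicit false

namespace H1

open Subgroup H10
open scoped commutatorElement

variable {G : Type*} [Group G] [Finite G] {p : ℕ} [hp : Fact p.Prime]

/-- Ambient form of the critical subgroup. -/
theorem exists_critical_amb {Q : Subgroup G} (hQ : IsPGroup p Q) :
    ∃ H : Subgroup G, H ≤ Q ∧ NN(Q) ≤ NN(H) ∧ (∀ x ∈ H, x ^ p ∈ CC(H)) ∧ ⁅H, Q⁆ ≤ H ⊓ CC(H) ∧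
      Q ⊓ CC(H) ≤ H := by
  obtain ⟨H, hH, -, h1, h2, h3⟩ := H3.exists_critical hQ ⊥
  refine ⟨H.map Q.subtype, map_subtype_le H, NN_le_NN_map_subtype H, ?_, ?_, ?_⟩
  · rintro _ ⟨x, hx, rfl⟩
    exact map_CC_le Q.subtype H ⟨_, h1 x hx, map_pow _ _ _⟩
  · have := map_mono (f := Q.subtype) h2
    rw [map_commutator, map_top_subtype] at this
    exact this.trans ((map_inf_le _ _ _).trans (inf_le_inf_left _ (map_CC_le _ _)))
  · rw [← map_CC_subtype]; exact map_mono h3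

theorem exists_small_critical {Q : Subgroup G} (hQ : IsPGroup p Q) :
    ∃ D : Subgroup G, D ≤ Q ∧ NN(Q) ≤ NN(D) ∧ (∀ x ∈ D, x ^ p = 1 ∨ (p = 2 ∧ x ^ 4 = 1)) ∧
      ⁅D, Q⁆ ≤ CC(D) ∧ ∀ g ∈ NN(Q), (orderOf g).Coprime p → g ∈ CC(D) → g ∈ CC(Q) := by
  obtain ⟨H, h0, h1, h2, h3, h4⟩ := exists_critical_amb hQ
  obtain ⟨m, hm, hm'⟩ : ∃ m : ℕ, p ∣ m.choose 2 ∧
      ∀ x : G, (x ^ p = 1 ∨ (p = 2 ∧ x ^ 4 = 1)) ↔ x ^ m = 1 := by
    rcases hp.out.eq_two_or_odd' with rfl | hodd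
    · refine ⟨4, by decide, fun x => ⟨?_, fun h => Or.inr ⟨rfl, h⟩⟩⟩
      rintro (h | h)
      · rw [show 4 = 2 * 2 from rfl, pow_mul, h, one_pow]
      · exact h.2
    · refine ⟨p, H9.odd_dvd_choose_two hodd, fun x => ⟨?_, Or.inl⟩⟩
      rintro (h | ⟨rfl, -⟩)
      · exact h
      · exact absurd hodd (by decide)
  let D : Subgroup G :=
    { carrier := {x | x ∈ H ∧ x ^ m = 1}
      one_mem' := ⟨H.one_mem, one_pow _⟩
      inv_mem' := fun hx => ⟨H.inv_mem hx.1, by rw [inv_pow, hx.2, inv_one]⟩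
      mul_mem' := fun {x y} hx hy => ⟨H.mul_mem hx.1 hy.1, by
        have hc := (h3 (commutator_mem_commutator hy.1 (h0 hx.1))).2
        have hc1 : Commute x ⁅y, x⁆ := hc _ hx.1
        have hc2 : Commute y ⁅y, x⁆ := hc _ hy.1
        have h5 : ⁅y, x⁆ ^ p = 1 := by
          rw [← H9.commutator_pow_left hc2, commutatorElement_eq_one_iff_mul_comm]
          exact (h2 _ hy.1 _ hx.1).symm
        obtain ⟨c, hc⟩ := hm
        rw [H9.mul_pow_class_two hc1 hc2, hx.2, hy.2, hc, pow_mul, h5]; simp⟩ }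
  have hDH : D ≤ H := fun x hx => hx.1
  refine ⟨D, hDH.trans h0, le_NN_iff.2 fun g hg x hx => ⟨conj_mem_of_mem_NN (h1 hg) hx.1, ?_⟩,
    fun x hx => (hm' x).2 hx.2,
    (commutator_mono hDH le_rfl).trans (h3.trans (inf_le_right.trans (CC_anti hDH))),
    fun g hg hc h => ?_⟩
  · rw [conj_pow, hx.2]; simp
  · exact H3.mem_centralizer_of_centralizes_selfCentralizing hQ h0 ((le_NN_self Q).trans h1) h4 hg hc
      (H3.mem_centralizer_of_centralizes_omega (hQ.to_le h0) (h1 hg) hc fun x hx hx' =>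
        h x ⟨hx, (hm' x).1 hx'⟩)

end H1
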